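import Cfsg.Agent.ZN.ChoiceBase
import Cfsg.Agent.ZN.Facts
import Cfsg.Agent.MinSimple.Basic
import Cfsg.Agent.ClassificationK.TIPairBasic
import Cfsg.Agent.Mrg.Omega.FF.GlobFam
import Cfsg.Agent.MinSimple.VModule
import Mathlib
import Cfsg.Agent.Omega.NoFF.Basic
import Cfsg.Agent.Involutions.BaerSuzuki
import Cfsg.Agent.Mrg.Omega.Lie.TorD
import Cfsg.Agent.GTwoFour.Tools
import Cfsg.Agent.Mrg.Omega.Transv.Basic
import Cfsg.Agent.Mrg.Omega.TV.Basic_m3
import Cfsg.Agent.FastGrp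
import Cfsg.Agent.Prune
set_option linter.all false

section
prune_inst 0x7ff4eef9abbc89dfffff7e3faff4dffc30809ffff6fffd0bbfe02bffcb9f03824fc5fbaf0de010fe4fe6e01410b87813f97ec23fea6bdc7ffffd5ff41ffbee1fe5f7b50951d488340fbc2ff683f0778e6f3fffffffffffffffffffffffffffbeffbffbfefffd

-- part: Mrg/Omega/LemmaK/Main
section
prune_inst 0x9100214417620000001c0500b0003cd7f6000090002f0401fd40034606c6db03a0410f21fce01b01113aae64003e8048139000590038000020008e00411801a084aa62c2b348b104250097c0f887190c00000000000000000000000000041004004010002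
set_option linter.all false
open scoped Cfsg.Agent.FastGrp

section


/-!
# LEMMA K (OMEGA, helper612 #11397): two FF-blocks in a common 2-local have commuting modules

`G` is a finite group, `S` a Sylow 2-subgroup, `B = bau S = C_S(Ω₁Z(J(S)))` the Baumann subgroup.

* (B) `le_normalizer_bau` : a 2-subgroup `T ≥ bau S` normalises `bau S` (`jj_eq`, `bau_eq`, `zj_eq`);
* `Blk B L V` : `L` is a block over `B` with module `V`;
* (K) `Blk.le_o2` : if `L ≤ H` and `C_H(O₂(H)) ≤ O₂(H)`, then `V ≤ Z(O₂(H))`;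
* Corollary 1 `commute_of_common` : two blocks over `bau S` and `bau S'` in such an `H` have
  commuting modules; `commute_of_local`: the same for `H = N_G(U)` in a group of characteristic 2
  type, `nonLoc`: noncommuting modules give a nonlocal pair.
-/

set_option autoImplicit false

namespace Cfsg.Agent.Omega.LemmaK.Main

open Subgroup Cfsg Cfsg.Agent.ZN Cfsg.Agent.ZN.ChoiceBase

universe u

variable {G : Type u} [Group G]

/-! ### (B) 2-subgroups over the Baumann subgroup of a Sylow subgroup -/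

section Bau

variable [Finite G] (S : Sylow 2 G) {T : Subgroup G}

include S in
theorem key_aux (hT : IsPGroup 2 T) (h : bau (S : Subgroup G) ≤ T) :
    jj T = jj (S : Subgroup G) ∧ bau T = bau (S : Subgroup G) := by
  obtain ⟨S', hS'⟩ := hT.exists_le_sylow
  obtain ⟨g, hg⟩ := MulAction.exists_smul_eq G S S'
  have hg2 : (S' : Subgroup G) = cj g (S : Subgroup G) := by
    rw [← hg, Sylow.coe_subgroup_smul]
    rfl
  have h1 : key T ≤ key (S : Subgroup G) := by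
    refine (key_mono hS').trans ?_
    rw [hg2, key_cj]
  obtain ⟨-, h2, h3, -⟩ := of_key_le h h1
  exact ⟨h2, h3⟩

theorem jj_eq (hT : IsPGroup 2 T) (h : bau (S : Subgroup G) ≤ T) :
    jj T = jj (S : Subgroup G) := (key_aux S hT h).1

theorem bau_eq (hT : IsPGroup 2 T) (h : bau (S : Subgroup G) ≤ T) :
    bau T = bau (S : Subgroup G) := (key_aux S hT h).2

theorem zj_eq (hT : IsPGroup 2 T) (h : bau (S : Subgroup G) ≤ T) :
    zj T = zj (S : Subgroup G) := by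
  rw [← ChoiceBase.zj_bau T, bau_eq S hT h, ChoiceBase.zj_bau]

/-- (B) A 2-subgroup containing `bau S` normalises it. -/
theorem le_normalizer_bau (hT : IsPGroup 2 T) (h : bau (S : Subgroup G) ≤ T) :
    T ≤ normalizer (bau (S : Subgroup G) : Set G) := by
  rw [← bau_eq S hT h]
  exact Subgroup.le_normalizer.trans (normalizer_le_bau T)

/-- The same for the conjugates of `bau S`. -/
theorem le_normalizer_cj_bau (x : G) (hT : IsPGroup 2 T) (h : cj x (bau (S : Subgroup G)) ≤ T) :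
    T ≤ normalizer ((cj x (bau (S : Subgroup G)) : Subgroup G) : Set G) := by
  have h1 : bau (S : Subgroup G) ≤ cj x⁻¹ T := cj_le_iff.mp h
  have h2 := le_normalizer_bau S (isPGroup_cj x⁻¹ hT) h1
  have h3 := cj_mono x h2
  rwa [cj_cj_inv, cj_normalizer] at h3

end Bau

/-! ### Blocks -/

/-- `L` is a block over (the Baumann subgroup) `B` with module `V`: `L = ⟨B^L⟩`, `V ≤ L` is
normalised by every element normalising `L` and `⟨Ω₁Z(B)^L⟩`, `O₂(L)` centralises `V` and every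
2-element acting on `V` and commuting there with `L` centralises `V`. -/
structure Blk (B L V : Subgroup G) : Prop where
  le : B ≤ L
  gen : L ≤ ⨆ x : L, cj (x : G) B
  VL : V ≤ L
  nor : ∀ w : G, w ∈ normalizer (L : Set G) → w ∈ normalizer (zl B L : Set G) →
    w ∈ normalizer (V : Set G)
  cent : o2 L ≤ centralizer (V : Set G)
  rigid : ∀ w : G, IsPGroup 2 (zpowers w) → w ∈ normalizer (V : Set G) →
    (∀ x ∈ L, w * x * w⁻¹ * x⁻¹ ∈ centralizer (V : Set G)) → w ∈ centralizer (V : Set G)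

variable {B L V : Subgroup G}

theorem Blk.eq_iSup (h : Blk B L V) : L = ⨆ x : L, cj (x : G) B := by
  apply le_antisymm h.gen
  refine iSup_le fun x => ?_
  rintro _ ⟨b, hb, rfl⟩
  exact L.mul_mem (L.mul_mem x.2 (h.le hb)) (L.inv_mem x.2)

theorem cj_le_of_mem {x : G} (h : B ≤ L) (hx : x ∈ L) : cj x B ≤ L := by
  rintro _ ⟨b, hb, rfl⟩
  exact L.mul_mem (L.mul_mem hx (h hb)) (L.inv_mem hx)

/-- An element normalising all members of a family normalises their join. -/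
theorem mem_normalizer_iSup {ι : Sort*} {F : ι → Subgroup G} {w : G}
    (h : ∀ i, w ∈ normalizer (F i : Set G)) : w ∈ normalizer ((⨆ i, F i : Subgroup G) : Set G) := by
  rw [mem_normalizer_iff_cj]
  have h1 : cj w (⨆ i, F i) = ⨆ i, cj w (F i) := Subgroup.map_iSup _ _
  rw [h1]
  exact iSup_congr fun i => mem_normalizer_iff_cj.mp (h i)

theorem zc_cj (x : G) (B : Subgroup G) : zc (cj x B) = cj x (zc B) :=
  zc_map _ (MulAut.conj x).injective B

/-- Conjugating a block. -/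
theorem Blk.map (h : Blk B L V) (g : G) : Blk (cj g B) (cj g L) (cj g V) where
  le := cj_mono g h.le
  gen := by
    refine (cj_mono g h.gen).trans ?_
    have h1 : cj g (⨆ x : L, cj (x : G) B) = ⨆ x : L, cj g (cj (x : G) B) := Subgroup.map_iSup _ _
    rw [h1]
    refine iSup_le fun x => ?_
    have hx : g * x * g⁻¹ ∈ cj g L := by
      rw [mem_cj]
      have : g⁻¹ * (g * (x : G) * g⁻¹) * g = x := by group
      rw [this]
      exact x.2
    refine le_trans ?_ (le_iSup (fun y : (cj g L : Subgroup G) => cj (y : G) (cj g B))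
      ⟨g * x * g⁻¹, hx⟩)
    change cj g (cj (x : G) B) ≤ cj (g * x * g⁻¹) (cj g B)
    rw [cj_cj, cj_cj]
    have : g * (x : G) * g⁻¹ * g = g * x := by group
    rw [this]
  VL := cj_mono g h.VL
  nor := by
    intro w hw1 hw2
    have e : ∀ K : Subgroup G, w ∈ normalizer ((cj g K : Subgroup G) : Set G) ↔
        g⁻¹ * w * g ∈ normalizer (K : Set G) := by
      intro K
      rw [← cj_normalizer, mem_cj]
    have h2 : zl (cj g B) (cj g L) = cj g (zl B L) := zl_map _ (MulAut.conj g).injective B L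
    rw [h2, e] at hw2
    rw [e] at hw1 ⊢
    exact h.nor _ hw1 hw2
  cent := by
    rw [pCore_cj, ← cj_centralizer]
    exact cj_mono g h.cent
  rigid := by
    intro w hw2 hwn hwc
    rw [← cj_centralizer, mem_cj]
    refine h.rigid _ ?_ ?_ fun x hx => ?_
    · have h1 : zpowers (g⁻¹ * w * g) ≤ cj g⁻¹ (zpowers w) := by
        rw [zpowers_le, mem_cj]
        have : g⁻¹⁻¹ * (g⁻¹ * w * g) * g⁻¹ = w := by group
        rw [this]
        exact mem_zpowers w
      exact (isPGroup_cj g⁻¹ hw2).to_le h1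
    · rw [← cj_normalizer, mem_cj] at hwn
      exact hwn
    · have hx' : g * x * g⁻¹ ∈ cj g L := by
        rw [mem_cj]
        have : g⁻¹ * (g * x * g⁻¹) * g = x := by group
        rwa [this]
      have h1 := hwc _ hx'
      rw [← cj_centralizer, mem_cj] at h1
      have h2 : g⁻¹ * w * g * x * (g⁻¹ * w * g)⁻¹ * x⁻¹ =
          g⁻¹ * (w * (g * x * g⁻¹) * w⁻¹ * (g * x * g⁻¹)⁻¹) * g := by group
      rw [h2]
      exact h1

/-! ### (K) -/

section K

variable [Finite G]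

/-- The Baumann conjugates in a block are normalised by `O₂(H)`, `L ≤ H`. -/
theorem o2_le_normalizer_cj (S : Sylow 2 G) (h : Blk (bau (S : Subgroup G)) L V) {H : Subgroup G}
    (hL : L ≤ H) {x : G} (hx : x ∈ L) :
    o2 H ≤ normalizer ((cj x (bau (S : Subgroup G)) : Subgroup G) : Set G) := by
  have h1 : cj x (bau (S : Subgroup G)) ≤ H := (cj_le_of_mem h.le hx).trans hL
  have h2 : IsPGroup 2 (cj x (bau (S : Subgroup G)) : Subgroup G) :=
    isPGroup_cj x (S.isPGroup'.to_le (ChoiceBase.bau_le _))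
  have h3 : IsPGroup 2 (cj x (bau (S : Subgroup G)) ⊔ o2 H : Subgroup G) :=
    IsPGroup.to_sup_of_normal_right' h2 (isPGroup_o2 H) (h1.trans (le_normalizer_o2 H))
  exact le_sup_right.trans (le_normalizer_cj_bau S x h3 le_sup_left)

/-- (K) The module of a block contained in a group `H` with `C_H(O₂(H)) ≤ O₂(H)` lies in
`Z(O₂(H))`. -/
theorem Blk.le_o2 (S : Sylow 2 G) (h : Blk (bau (S : Subgroup G)) L V) {H : Subgroup G}
    (hH : H ⊓ centralizer (o2 H : Set G) ≤ o2 H) (hL : L ≤ H) :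
    V ≤ o2 H ⊓ centralizer (o2 H : Set G) := by
  have hn : ∀ w ∈ o2 H, ∀ x ∈ L, w ∈ normalizer ((cj x (bau (S : Subgroup G)) : Subgroup G) :
      Set G) := fun w hw x hx => o2_le_normalizer_cj S h hL hx hw
  have hnL : ∀ w ∈ o2 H, w ∈ normalizer (L : Set G) := by
    intro w hw
    rw [h.eq_iSup]
    exact mem_normalizer_iSup fun x => hn w hw x x.2
  have hnZ : ∀ w ∈ o2 H, w ∈ normalizer (zl (bau (S : Subgroup G)) L : Set G) := by
    intro w hw
    refine mem_normalizer_iSup fun x => ?_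
    have h1 := normalizer_le_normalizer_zc _ (hn w hw x x.2)
    rwa [zc_cj] at h1
  have hc : ∀ w ∈ o2 H, w ∈ centralizer (V : Set G) := by
    intro w hw
    refine h.rigid w ?_ (h.nor w (hnL w hw) (hnZ w hw)) fun x hx => ?_
    · exact (isPGroup_o2 H).to_le (by rwa [zpowers_le])
    · apply h.cent
      have h1 : o2 H ⊓ L ≤ o2 L := by
        refine ZN.le_o2 inf_le_right ((isPGroup_o2 H).to_le inf_le_left) ?_
        intro y hy
        rw [mem_normalizer_iff_cj, cj_inf,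
          cj_eq_of_mem_normalizer ((le_normalizer_o2 H) (hL hy)),
          cj_eq_of_mem_normalizer (Subgroup.le_normalizer hy)]
      refine h1 ⟨?_, ?_⟩
      · have h2 : x * w⁻¹ * x⁻¹ ∈ o2 H :=
          (mem_normalizer_iff.mp ((le_normalizer_o2 H) (hL hx)) _).mp ((o2 H).inv_mem hw)
        have h3 : w * x * w⁻¹ * x⁻¹ = w * (x * w⁻¹ * x⁻¹) := by group
        rw [h3]
        exact (o2 H).mul_mem hw h2
      · have h2 : w * x * w⁻¹ ∈ L := (mem_normalizer_iff.mp (hnL w hw) _).mp hx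
        exact L.mul_mem h2 (L.inv_mem hx)
  have h4 : V ≤ centralizer (o2 H : Set G) := by
    intro v hv
    rw [mem_centralizer_iff]
    intro w hw
    exact (mem_centralizer_iff.mp (hc w hw) v hv).symm
  exact le_inf (fun v hv => hH ⟨hL (h.VL hv), h4 hv⟩) h4

/-- Corollary 1: two blocks (over Baumann subgroups of Sylow subgroups) in a common `H` with
`C_H(O₂(H)) ≤ O₂(H)` have commuting modules. -/
theorem commute_of_common (S S' : Sylow 2 G) {L' V' : Subgroup G}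
    (h : Blk (bau (S : Subgroup G)) L V) (h' : Blk (bau (S' : Subgroup G)) L' V')
    {H : Subgroup G} (hH : H ⊓ centralizer (o2 H : Set G) ≤ o2 H) (hL : L ≤ H) (hL' : L' ≤ H) :
    ∀ v ∈ V, ∀ w ∈ V', v * w = w * v := by
  intro v hv w hw
  have h1 := h.le_o2 S hH hL hv
  have h2 := h'.le_o2 S' hH hL' hw
  exact mem_centralizer_iff.mp h2.2 v h1.1

/-- Corollary 1 in a group of characteristic 2 type: `L, L' ≤ N_G(U)`, `U ≠ 1` a 2-subgroup. -/
theorem commute_of_local (hG : IsCharacteristicTwoType G) (S S' : Sylow 2 G) {L' V' : Subgroup G}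
    (h : Blk (bau (S : Subgroup G)) L V) (h' : Blk (bau (S' : Subgroup G)) L' V')
    {U : Subgroup G} (hU : IsPGroup 2 U) (hU1 : U ≠ ⊥) (hL : L ≤ normalizer (U : Set G))
    (hL' : L' ≤ normalizer (U : Set G)) : ∀ v ∈ V, ∀ w ∈ V', v * w = w * v :=
  commute_of_common S S' h h' (MinSimple.Basic.char2_normalizer hG hU hU1) hL hL'

end K

end Cfsg.Agent.Omega.LemmaK.Main

end

section


/-!
# LEMMA K: making blocks

* `endo_of_irr` : if `V` is an abelian 2-group, `V / C_V(L)` is irreducible and `V = [V, L]`, then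
  a 2-group acting on `V` and commuting there with `L` centralises `V`;
* `rigid_of_irr` : the field `rigid` of `LemmaK.Main.Blk`;
* `Blk.of_irr` : a block from `L = ⟨B ^ L⟩`, `V ≤ L`, `O₂(L) ≤ C(V)`, `V / C_V(L)` irreducible;
* `norm_zl`, `norm_vl` : `V = vl B L` satisfies `nor`.
-/

set_option autoImplicit false

namespace Cfsg.Agent.Omega.LemmaK.Endo

open Subgroup Cfsg Cfsg.Agent.ZN Cfsg.Agent.ZN.ChoiceBase
open Cfsg.Agent.Omega.LemmaK.Main
open scoped commutatorElement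

universe u

variable {G : Type u} [Group G] {B L V : Subgroup G}

/-- The axiom `endo` when `V / C_V(L)` is irreducible and `V = [V, L]`. -/
theorem endo_of_irr [Finite G] (hV : IsPGroup 2 V) (hVc : ∀ x ∈ V, ∀ y ∈ V, x * y = y * x)
    (hLV : L ≤ normalizer (V : Set G)) (hVL : V ≤ ⁅V, L⁆)
    (hirr : ∀ U : Subgroup G, U ≤ V → V ⊓ centralizer (L : Set G) ≤ U →
      L ≤ normalizer (U : Set G) → ¬ U ≤ V ⊓ centralizer (L : Set G) → V ≤ U)
    (W : Subgroup G) (hW : IsPGroup 2 W) (hWV : W ≤ normalizer (V : Set G))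
    (hWL : ∀ w ∈ W, ∀ x ∈ L, w * x * w⁻¹ * x⁻¹ ∈ centralizer (V : Set G)) :
    W ≤ centralizer (V : Set G) := by
  have : Fact (Nat.Prime 2) := ⟨Nat.prime_two⟩
  set C := V ⊓ centralizer (L : Set G) with hC
  have hcj : ∀ {g v : G}, g ∈ normalizer (V : Set G) → v ∈ V → g * v * g⁻¹ ∈ V :=
    fun hg hv => (mem_normalizer_iff.1 hg _).1 hv
  -- `w` and `x` commute on `V`
  have hwx : ∀ w ∈ W, ∀ x ∈ L, ∀ v ∈ V,
      x * (w * v * w⁻¹) * x⁻¹ = w * (x * v * x⁻¹) * w⁻¹ := by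
    intro w hw x hx v hv
    have h1 : x * (w * v * w⁻¹) * x⁻¹ ∈ V := hcj (hLV hx) (hcj (hWV hw) hv)
    have h2 := mem_centralizer_iff.1 (hWL w hw x hx) _ h1
    -- `(x w v w⁻¹ x⁻¹) (w x w⁻¹ x⁻¹) = (w x w⁻¹ x⁻¹) (x w v w⁻¹ x⁻¹)`
    have h3 : w * x * w⁻¹ * x⁻¹ * (x * (w * v * w⁻¹) * x⁻¹) = w * x * v * w⁻¹ * x⁻¹ := by group
    rw [h3] at h2
    have h4 : x * (w * v * w⁻¹) * x⁻¹ = w * x * v * w⁻¹ * x⁻¹ * (w * x * w⁻¹ * x⁻¹)⁻¹ := by
      rw [← h2]; group
    rw [h4]; group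
  -- `C` is `W`-invariant
  have hCW : ∀ w ∈ W, ∀ c ∈ C, w * c * w⁻¹ ∈ C := by
    intro w hw c hc
    refine ⟨hcj (hWV hw) hc.1, mem_centralizer_iff.2 fun x hx => ?_⟩
    have h1 := hwx w hw x hx c hc.1
    have h2 : x * c * x⁻¹ = c := by
      rw [mem_centralizer_iff.1 hc.2 x hx]; group
    rw [h2] at h1
    calc x * (w * c * w⁻¹) = x * (w * c * w⁻¹) * x⁻¹ * x := by group
      _ = w * c * w⁻¹ * x := by rw [h1]
  by_cases hVC : V ≤ C
  · -- then `V = [V, L] = 1`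
    have h1 : ⁅V, L⁆ = ⊥ := by
      rw [Subgroup.commutator_eq_bot_iff_le_centralizer]
      exact hVC.trans inf_le_right
    rw [h1, le_bot_iff] at hVL
    rw [hVL]
    intro w _
    rw [mem_centralizer_iff]
    intro x hx
    have : x = 1 := hx
    rw [this]; group
  · -- the subgroup of elements fixed modulo `C`
    let U : Subgroup G :=
      { carrier := {v | v ∈ V ∧ ∀ w ∈ W, v⁻¹ * (w * v * w⁻¹) ∈ C}
        one_mem' := ⟨one_mem _, fun w _ => by
          have : (1 : G)⁻¹ * (w * 1 * w⁻¹) = 1 := by group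
          rw [this]; exact one_mem _⟩
        mul_mem' := by
          rintro a b ⟨ha, ha'⟩ ⟨hb, hb'⟩
          refine ⟨mul_mem ha hb, fun w hw => ?_⟩
          have h1 : (a * b)⁻¹ * (w * (a * b) * w⁻¹) =
              b⁻¹ * (a⁻¹ * (w * a * w⁻¹)) * (w * b * w⁻¹) := by group
          have h2 : b⁻¹ * (a⁻¹ * (w * a * w⁻¹)) = a⁻¹ * (w * a * w⁻¹) * b⁻¹ :=
            hVc _ (inv_mem hb) _ (ha' w hw).1
          rw [h1, h2]
          have h3 : a⁻¹ * (w * a * w⁻¹) * b⁻¹ * (w * b * w⁻¹) =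
              a⁻¹ * (w * a * w⁻¹) * (b⁻¹ * (w * b * w⁻¹)) := by group
          rw [h3]
          exact mul_mem (ha' w hw) (hb' w hw)
        inv_mem' := by
          rintro a ⟨ha, ha'⟩
          refine ⟨inv_mem ha, fun w hw => ?_⟩
          have h1 : a⁻¹⁻¹ * (w * a⁻¹ * w⁻¹) = (w * a * w⁻¹ * a⁻¹)⁻¹ := by group
          have h2 : w * a * w⁻¹ * a⁻¹ = a⁻¹ * (w * a * w⁻¹) :=
            hVc _ (hcj (hWV hw) ha) _ (inv_mem ha)
          rw [h1, h2]
          exact inv_mem (ha' w hw) }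
    obtain ⟨z, hzV, hzC, hz⟩ := ClassificationK.TIPair.exists_fixed_mod (p := 2) (P := W)
      (V := C) (N := V) hW hV hVC hCW (fun w hw v hv => hcj (hWV hw) hv)
    have hUV : V ≤ U := by
      refine hirr U (fun v hv => hv.1) (fun c hc => ⟨hc.1, fun w hw => ?_⟩) ?_
        (fun h => hzC (h ⟨hzV, hz⟩))
      · exact mul_mem (inv_mem hc) (hCW w hw c hc)
      · intro x hx
        refine mem_normalizer_of_cj_le ?_
        rintro _ ⟨v, ⟨hv, hv'⟩, rfl⟩
        refine ⟨hcj (hLV hx) hv, fun w hw => ?_⟩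
        have h1 : w * (x * v * x⁻¹) * w⁻¹ = x * (w * v * w⁻¹) * x⁻¹ := (hwx w hw x hx v hv).symm
        have h2 : (x * v * x⁻¹)⁻¹ * (w * (x * v * x⁻¹) * w⁻¹) =
            x * (v⁻¹ * (w * v * w⁻¹)) * x⁻¹ := by rw [h1]; group
        change (x * v * x⁻¹)⁻¹ * (w * (x * v * x⁻¹) * w⁻¹) ∈ C
        rw [h2]
        have h3 : x * (v⁻¹ * (w * v * w⁻¹)) * x⁻¹ = v⁻¹ * (w * v * w⁻¹) := by
          rw [mem_centralizer_iff.1 (hv' w hw).2 x hx]; group
        rw [h3]
        exact hv' w hw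
    -- now `[V, L] ≤ C_V(w)`
    intro w hw
    rw [mem_centralizer_iff]
    have h5 : ⁅V, L⁆ ≤ centralizer ({w} : Set G) := by
      rw [Subgroup.commutator_le]
      intro v hv x hx
      rw [mem_centralizer_singleton_iff]
      have h6 := (hUV hv).2 w hw
      -- `w v w⁻¹ = v c`, `c ∈ C`
      set c := v⁻¹ * (w * v * w⁻¹) with hc
      have h7 : w * v * w⁻¹ = v * c := by rw [hc]; group
      have h8 : w * (x * v * x⁻¹) * w⁻¹ = x * v * x⁻¹ * c := by
        rw [← hwx w hw x hx v hv, h7]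
        have h9 : x * c = c * x := mem_centralizer_iff.1 h6.2 x hx
        calc x * (v * c) * x⁻¹ = x * v * (c * x⁻¹) := by group
          _ = x * v * (x⁻¹ * c) := by
            congr 1
            calc c * x⁻¹ = x⁻¹ * (x * c) * x⁻¹ := by group
              _ = x⁻¹ * (c * x) * x⁻¹ := by rw [h9]
              _ = x⁻¹ * c := by group
          _ = x * v * x⁻¹ * c := by group
      have hcV : c ∈ V := h6.1
      have h10 : c * (x * v⁻¹ * x⁻¹) = x * v⁻¹ * x⁻¹ * c :=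
        hVc _ hcV _ (hcj (hLV hx) (inv_mem hv))
      have h11 : w * ⁅v, x⁆ * w⁻¹ = ⁅v, x⁆ := by
        rw [commutatorElement_def]
        have e1 : w * (v * x * v⁻¹ * x⁻¹) * w⁻¹ =
            (w * v * w⁻¹) * (w * (x * v * x⁻¹) * w⁻¹)⁻¹ := by group
        rw [e1, h7, h8]
        group
      calc ⁅v, x⁆ * w = w * ⁅v, x⁆ * w⁻¹ * w := by rw [h11]
        _ = w * ⁅v, x⁆ := by group
    intro v hv
    have h12 := mem_centralizer_singleton_iff.1 (h5 (hVL hv))
    exact h12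

/-- The field `rigid` of a block. -/
theorem rigid_of_irr [Finite G] (hV : IsPGroup 2 V) (hVc : ∀ x ∈ V, ∀ y ∈ V, x * y = y * x)
    (hLV : L ≤ normalizer (V : Set G)) (hVL : V ≤ ⁅V, L⁆)
    (hirr : ∀ U : Subgroup G, U ≤ V → V ⊓ centralizer (L : Set G) ≤ U →
      L ≤ normalizer (U : Set G) → ¬ U ≤ V ⊓ centralizer (L : Set G) → V ≤ U)
    (w : G) (hw2 : IsPGroup 2 (zpowers w)) (hwV : w ∈ normalizer (V : Set G))
    (hwL : ∀ x ∈ L, w * x * w⁻¹ * x⁻¹ ∈ centralizer (V : Set G)) :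
    w ∈ centralizer (V : Set G) := by
  have hcn : ∀ {g c : G}, g ∈ normalizer (V : Set G) → c ∈ centralizer (V : Set G) →
      g * c * g⁻¹ ∈ centralizer (V : Set G) := by
    intro g c hg hc
    rw [mem_centralizer_iff] at hc ⊢
    intro v hv
    have h1 : g⁻¹ * v * g ∈ V := by
      have h2 := (mem_normalizer_iff.1 (inv_mem hg) v).1 hv
      rwa [inv_inv] at h2
    have h3 := hc _ h1
    calc v * (g * c * g⁻¹) = g * ((g⁻¹ * v * g) * c) * g⁻¹ := by group
      _ = g * (c * (g⁻¹ * v * g)) * g⁻¹ := by rw [h3]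
      _ = g * c * g⁻¹ * v := by group
  -- the elements of `G` normalising `V` and commuting with `L` on `V` form a subgroup
  let D : Subgroup G :=
    { carrier := {y | y ∈ normalizer (V : Set G) ∧
        ∀ x ∈ L, y * x * y⁻¹ * x⁻¹ ∈ centralizer (V : Set G)}
      one_mem' := ⟨one_mem _, fun x _ => by
        have : (1 : G) * x * 1⁻¹ * x⁻¹ = 1 := by group
        rw [this]; exact one_mem _⟩
      mul_mem' := by
        rintro a b ⟨ha, ha'⟩ ⟨hb, hb'⟩
        refine ⟨mul_mem ha hb, fun x hx => ?_⟩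
        have h1 : a * b * x * (a * b)⁻¹ * x⁻¹ =
            (a * (b * x * b⁻¹ * x⁻¹) * a⁻¹) * (a * x * a⁻¹ * x⁻¹) := by group
        rw [h1]
        exact mul_mem (hcn ha (hb' x hx)) (ha' x hx)
      inv_mem' := by
        rintro a ⟨ha, ha'⟩
        refine ⟨inv_mem ha, fun x hx => ?_⟩
        have h1 : a⁻¹ * x * a⁻¹⁻¹ * x⁻¹ = a⁻¹ * (a * x * a⁻¹ * x⁻¹)⁻¹ * a⁻¹⁻¹ := by group
        rw [h1]
        exact hcn (inv_mem ha) (inv_mem (ha' x hx)) }
  have hD : zpowers w ≤ D := by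
    rw [zpowers_le]
    exact ⟨hwV, hwL⟩
  exact endo_of_irr hV hVc hLV hVL hirr (zpowers w) hw2 (fun y hy => (hD hy).1)
    (fun y hy => (hD hy).2) (mem_zpowers w)

/-- An element normalising `L` and `zl B L` normalises `vl B L = [zl B L, L]`. -/
theorem norm_vl {w : G} (h1 : w ∈ normalizer (L : Set G))
    (h2 : w ∈ normalizer (zl B L : Set G)) : w ∈ normalizer (vl B L : Set G) := by
  rw [mem_normalizer_iff_cj] at h1 h2 ⊢
  rw [vl]
  change Subgroup.map _ ⁅zl B L, L⁆ = _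
  rw [Subgroup.map_commutator]
  change ⁅ChoiceBase.cj w (zl B L), ChoiceBase.cj w L⁆ = _
  rw [h1, h2]

/-- A block from an irreducible `V / C_V(L)`. -/
theorem _root_.Cfsg.Agent.Omega.LemmaK.Main.Blk.of_irr [Finite G] (hle : B ≤ L)
    (hgen : L ≤ ⨆ x : L, cj (x : G) B) (hVL : V ≤ L)
    (hnor : ∀ w : G, w ∈ normalizer (L : Set G) → w ∈ normalizer (zl B L : Set G) →
      w ∈ normalizer (V : Set G)) (hcent : o2 L ≤ centralizer (V : Set G))
    (hV : IsPGroup 2 V) (hVc : ∀ x ∈ V, ∀ y ∈ V, x * y = y * x) (hVL' : V ≤ ⁅V, L⁆)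
    (hirr : ∀ U : Subgroup G, U ≤ V → V ⊓ centralizer (L : Set G) ≤ U →
      L ≤ normalizer (U : Set G) → ¬ U ≤ V ⊓ centralizer (L : Set G) → V ≤ U) :
    Blk B L V where
  le := hle
  gen := hgen
  VL := hVL
  nor := hnor
  cent := hcent
  rigid := fun w hw2 hwV hwL => by
    refine rigid_of_irr hV hVc (fun x hx => hnor x (Subgroup.le_normalizer hx) ?_) hVL' hirr w hw2
      hwV hwL
    refine mem_normalizer_of_cj_le ?_
    rw [zl]
    change Subgroup.map _ _ ≤ _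
    rw [Subgroup.map_iSup]
    refine iSup_le fun g => ?_
    change ChoiceBase.cj x (ChoiceBase.cj (g : G) (zc B)) ≤ _
    rw [cj_cj]
    exact le_iSup (fun g : L => (zc B).map (MulAut.conj (g : G)).toMonoidHom)
      ⟨x * g, L.mul_mem hx g.2⟩


end Cfsg.Agent.Omega.LemmaK.Endo

end
end

-- part: Mrg/Omega/IId/ThmJQ
section
prune_inst 0xa110604403620000001c0500b0003cd7d6000090002f0401fd40034606c6db03a0050f20fce01b01112aae64003e8068129000590030000020008600411801a084aa62c2b348b104250097c0f887190c00000000000000000000000000041004004010002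
set_option linter.all false
open scoped Cfsg.Agent.FastGrp

section


/-!
# THEOREM J for all `q` (OMEGA, II.d; helper895 #13722, last line of (3); helper766 #14072 (F9))

The version of `ThmJ.lean` in lines instead of points.  `V₁`, `V₂` are the two factors of
`V = V₁ × V₂`, `𝓛₁`, `𝓛₂` their sets of `F_q`-lines, `H R` is `N_G(R)` or `C_G(R)`,
`N_R := ⟨V₂^{H(R)}⟩` for `R ∈ 𝓛₁` and `N_{R₂} := ⟨V₁^{H(R₂)}⟩` for `R₂ ∈ 𝓛₂`.

* `Side H V₁ V₂ 𝓛₁` : the facts on the lines `R` of `V₁`;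
* `inf_le_FF` (0), `EE_inf_FF` (1), `two` (2), `three` (3), `four` (4);
* `thmJ` : `N_R ∩ N_{R₂} = R R₂`, or some `x ∈ N_{R₂}` satisfies `1 ≠ [x, N_R] ≤ R₂`.
-/

set_option autoImplicit false

namespace Cfsg.Agent.Omega.IId.ThmJQ

open Subgroup Cfsg Cfsg.Agent.ZN Cfsg.Agent.ZN.ChoiceBase

universe u

variable {G : Type u} [Group G]

/-- `H R` is `N_G(R)` or `C_G(R)`: an equivariant function with `C_G(R) ≤ H R`. -/
structure Loc (H : Subgroup G → Subgroup G) : Prop where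
  eqv : ∀ (g : G) (R : Subgroup G), cj g (H R) = H (cj g R)
  cen_le : ∀ R : Subgroup G, centralizer (R : Set G) ≤ H R

theorem loc_normalizer : Loc (fun R : Subgroup G => normalizer (R : Set G)) :=
  ⟨fun g R => cj_normalizer g R, fun _ => centralizer_le_normalizer _⟩

/-- `N_R = ⟨U^{H(R)}⟩`. -/
def NN (H : Subgroup G → Subgroup G) (U R : Subgroup G) : Subgroup G := ⨆ c : H R, cj (c : G) U

variable {H : Subgroup G → Subgroup G}

theorem le_NN (U R : Subgroup G) : U ≤ NN H U R := by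
  have h : cj ((1 : H R) : G) U ≤ NN H U R := le_iSup (fun c : H R => cj (c : G) U) 1
  rwa [Subgroup.coe_one, cj_one] at h

theorem Loc.mem {hH : Loc H} {g c : G} {R : Subgroup G} : g * c * g⁻¹ ∈ H (cj g R) ↔ c ∈ H R := by
  rw [← hH.eqv, mem_cj]
  have e : g⁻¹ * (g * c * g⁻¹) * g = c := by group
  rw [e]

theorem cj_NN (hH : Loc H) (g : G) (U R : Subgroup G) : cj g (NN H U R) = NN H (cj g U) (cj g R) := by
  apply le_antisymm
  · have h1 : cj g (NN H U R) = ⨆ c : H R, cj g (cj (c : G) U) := Subgroup.map_iSup _ _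
    rw [h1]
    refine iSup_le fun c => ?_
    have hc : g * (c : G) * g⁻¹ ∈ H (cj g R) := (Loc.mem (hH := hH)).2 c.2
    have h2 := le_iSup (fun c : H (cj g R) => cj (c : G) (cj g U)) ⟨_, hc⟩
    have e : cj (g * (c : G) * g⁻¹) (cj g U) = cj g (cj (c : G) U) := by
      rw [cj_cj, cj_cj]
      have e2 : g * (c : G) * g⁻¹ * g = g * c := by group
      rw [e2]
    rw [← e]
    exact h2
  · refine iSup_le fun c => ?_
    obtain ⟨c, hc0⟩ := c
    have hc : g⁻¹ * c * g ∈ H R := by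
      rw [← hH.eqv, mem_cj] at hc0
      exact hc0
    have h2 := cj_mono g (le_iSup (fun c : H R => cj (c : G) U) ⟨_, hc⟩)
    have e : cj g (cj (g⁻¹ * c * g) U) = cj c (cj g U) := by
      rw [cj_cj, cj_cj]
      have e2 : g * (g⁻¹ * c * g) = c * g := by group
      rw [e2]
    rw [← e]
    exact h2

/-- An element of `H R` normalises `N_R`. -/
theorem H_le_normalizer_NN (U R : Subgroup G) : H R ≤ normalizer (NN H U R : Set G) := by
  intro x hx
  rw [mem_normalizer_iff_cj]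
  have h1 : cj x (NN H U R) = ⨆ c : H R, cj x (cj (c : G) U) := Subgroup.map_iSup _ _
  rw [h1]
  apply le_antisymm
  · refine iSup_le fun c => ?_
    rw [cj_cj]
    exact (le_iSup (fun c : H R => cj (c : G) U) (⟨x, hx⟩ * c) :)
  · refine iSup_le fun c => ?_
    have h2 := le_iSup (fun c : H R => cj x (cj (c : G) U)) (⟨x, hx⟩⁻¹ * c)
    have e : cj x (cj (((⟨x, hx⟩⁻¹ * c : H R)) : G) U) = cj (c : G) U := by
      rw [cj_cj]
      congr 2
      simp only [_root_.Subgroup.coe_mul, _root_.InvMemClass.coe_inv, _root_.mul_inv_cancel_left]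
    rw [← e]
    exact h2

theorem NN_le {U K R : Subgroup G} (hU : U ≤ K) (hK : H R ≤ normalizer (K : Set G)) :
    NN H U R ≤ K := by
  refine iSup_le fun c => ?_
  have h1 := cj_mono (c : G) hU
  rwa [cj_eq_of_mem_normalizer (hK c.2)] at h1

theorem cj_NN_of (hH : Loc H) {g : G} {U R : Subgroup G} (hU : g ∈ normalizer (U : Set G)) :
    cj g (NN H U R) = NN H U (cj g R) := by
  rw [cj_NN hH, cj_eq_of_mem_normalizer hU]

/-! ### The facts on one side -/

/-- The facts on the lines of `V₁` (see the header). -/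
structure Side (H : Subgroup G → Subgroup G) (V₁ V₂ : Subgroup G) (L : Set (Subgroup G)) :
    Prop where
  le : ∀ R ∈ L, R ≤ V₁
  in_o2 : ∀ R ∈ L, V₂ ≤ o2 (H R)
  cent : ∀ R ∈ L, o2 (H R) ≤ centralizer (V₂ : Set G)
  self : ∀ R ∈ L, V₁ ≤ o2 (H R)
  tv : ∀ R ∈ L, ∀ R' ∈ L, ∀ R'' ∈ L, R' ≠ R → R'' ≠ R → ∃ w ∈ o2 (H R),
    (∀ x ∈ o2 (H R), w * x * w⁻¹ * x⁻¹ ∈ R) ∧ cj w R' = R''
  onto : ∀ R ∈ L, ∀ R' ∈ L, ∀ w ∈ o2 (H R), (∀ x ∈ o2 (H R), w * x * w⁻¹ * x⁻¹ ∈ R) →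
    cj w R' ≠ R' → ∀ r ∈ R, ∃ r' ∈ R', w * r' * w⁻¹ * r'⁻¹ = r
  three : ∀ R ∈ L, ∀ R' ∈ L, ∃ R'' ∈ L, R'' ≠ R ∧ R'' ≠ R'
  mem : ∀ R ∈ L, R ≤ NN H V₂ R

/-- `F = ⋂ N_R`, `R ∈ 𝓛₁`. -/
def FF (H : Subgroup G → Subgroup G) (L : Set (Subgroup G)) (V₂ : Subgroup G) : Subgroup G :=
  ⨅ (R : Subgroup G) (_ : R ∈ L), NN H V₂ R

theorem mem_FF {L : Set (Subgroup G)} {V₂ : Subgroup G} {x : G} :
    x ∈ FF H L V₂ ↔ ∀ R ∈ L, x ∈ NN H V₂ R := by
  simp only [FF, mem_iInf]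

namespace Side

variable {V₁ V₂ : Subgroup G} {L : Set (Subgroup G)} (h : Side H V₁ V₂ L)

section

include h

theorem NN_le_o2 {R : Subgroup G} (hR : R ∈ L) : NN H V₂ R ≤ o2 (H R) :=
  NN_le (h.in_o2 R hR) (le_normalizer_o2 _)

/-- `O₂(H R)` centralises `N_R`. -/
theorem o2_le_cent_NN {R : Subgroup G} (hR : R ∈ L) :
    o2 (H R) ≤ centralizer (NN H V₂ R : Set G) := by
  rw [Subgroup.le_centralizer_iff]
  refine NN_le (Subgroup.le_centralizer_iff.1 (h.cent R hR)) ?_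
  intro x hx
  rw [mem_normalizer_iff_cj, cj_centralizer, cj_eq_of_mem_normalizer (le_normalizer_o2 _ hx)]

theorem NN_le_cent_two {R : Subgroup G} (hR : R ∈ L) :
    NN H V₂ R ≤ centralizer (V₂ : Set G) :=
  (h.NN_le_o2 hR).trans (h.cent R hR)

theorem NN_le_cent_one {R : Subgroup G} (hR : R ∈ L) :
    NN H V₂ R ≤ centralizer (V₁ : Set G) :=
  Subgroup.le_centralizer_iff.1 ((h.self R hR).trans (h.o2_le_cent_NN hR))

end

/-- An element centralising `V₁` lies in all `H R`. -/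
theorem mem_H (hH : Loc H) (h : Side H V₁ V₂ L) {R : Subgroup G} (hR : R ∈ L) {x : G}
    (hx : x ∈ centralizer (V₁ : Set G)) : x ∈ H R :=
  hH.cen_le R (centralizer_le (SetLike.coe_subset_coe.2 (h.le R hR)) hx)

theorem norm_NN (hH : Loc H) (h : Side H V₁ V₂ L) {R : Subgroup G} (hR : R ∈ L) {x : G}
    (hx : x ∈ centralizer (V₁ : Set G)) : x ∈ normalizer (NN H V₂ R : Set G) :=
  H_le_normalizer_NN V₂ R (h.mem_H hH hR hx)

theorem norm_FF (hH : Loc H) (h : Side H V₁ V₂ L) {x : G} (hx : x ∈ centralizer (V₁ : Set G)) :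
    x ∈ normalizer (FF H L V₂ : Set G) := by
  rw [mem_normalizer_iff]
  intro y
  simp only [mem_FF]
  exact forall₂_congr fun R hR => mem_normalizer_iff.1 (h.norm_NN hH hR hx) y

/-- (0) `N_R ∩ N_{R'} ≤ F`. -/
theorem inf_le_FF (hH : Loc H) (h : Side H V₁ V₂ L) {R R' : Subgroup G} (hR : R ∈ L) (hR' : R' ∈ L)
    (hne : R' ≠ R) : NN H V₂ R ⊓ NN H V₂ R' ≤ FF H L V₂ := by
  intro x hx
  rw [mem_FF]
  intro R'' hR''
  by_cases he : R'' = R
  · rw [he]
    exact hx.1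
  obtain ⟨w, hw, -, hwR⟩ := h.tv R hR R' hR' R'' hR'' hne he
  have h2 : w * x * w⁻¹ = x := by
    rw [← mem_centralizer_iff.1 (h.o2_le_cent_NN hR hw) x hx.1]
    group
  have h3 : x ∈ cj w (NN H V₂ R') := by
    rw [← h2]
    exact mem_map_of_mem _ hx.2
  have hwn : w ∈ normalizer (V₂ : Set G) := centralizer_le_normalizer _ (h.cent R hR hw)
  rwa [cj_NN_of hH hwn, hwR] at h3

/-- (2) of the paper, first half: `C_{N_{R₂}}(N_R) ≤ O₂(H R)`. -/
theorem le_o2_of_cent (hH : Loc H) {R₂ W R : Subgroup G} (hR₂ : R₂ ≤ V₂) (hR : R ≤ V₁)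
    (hW : W = NN H V₁ R₂) (hW2 : IsPGroup 2 W) (hWc : W ≤ centralizer (V₁ : Set G)) :
    W ⊓ centralizer (NN H V₂ R : Set G) ≤ o2 (H R) := by
  subst hW
  set F : Subgroup G := centralizer (NN H V₂ R : Set G) ⊓ H R with hF
  have hFq : F ≤ H R₂ := by
    refine inf_le_left.trans (le_trans ?_ (hH.cen_le R₂))
    exact centralizer_le (SetLike.coe_subset_coe.2 (hR₂.trans (le_NN V₂ R)))
  have hFn : F ≤ normalizer (NN H V₁ R₂ : Set G) := hFq.trans (H_le_normalizer_NN V₁ R₂)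
  have h1 : NN H V₁ R₂ ⊓ F ≤ o2 F := by
    refine le_o2 inf_le_right (hW2.to_le inf_le_left) ?_
    intro x hx
    rw [mem_normalizer_iff_cj, cj_inf, cj_eq_of_mem_normalizer (hFn hx),
      cj_eq_of_mem_normalizer (le_normalizer hx)]
  have h2 : H R ≤ normalizer (F : Set G) := by
    intro x hx
    rw [mem_normalizer_iff_cj, hF, cj_inf, cj_centralizer,
      cj_eq_of_mem_normalizer (H_le_normalizer_NN V₂ R hx),
      cj_eq_of_mem_normalizer (le_normalizer hx)]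
  have h3 : o2 F ≤ o2 (H R) := by
    refine le_o2 ((o2_le F).trans inf_le_right) (isPGroup_o2 F) ?_
    exact h2.trans (normalizer_le_normalizer_o2 F)
  intro x hx
  refine h3 (h1 ⟨hx.1, hx.2, ?_⟩)
  exact hH.cen_le R (centralizer_le (SetLike.coe_subset_coe.2 hR) (hWc hx.1))

end Side

/-! ### Both sides -/

/-- The set-up of THEOREM J. -/
structure Ctx (H : Subgroup G → Subgroup G) (V₁ V₂ : Subgroup G) (L₁ L₂ : Set (Subgroup G)) :
    Prop where
  loc : Loc H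
  s1 : Side H V₁ V₂ L₁
  s2 : Side H V₂ V₁ L₂
  bot : FF H L₁ V₂ ⊓ FF H L₂ V₁ = ⊥

namespace Ctx

variable {V₁ V₂ : Subgroup G} {L₁ L₂ : Set (Subgroup G)} (h : Ctx H V₁ V₂ L₁ L₂)

/-- `V₁ ≤ E`. -/
theorem le_EE : V₁ ≤ FF H L₂ V₁ := fun _ hx => mem_FF.2 fun _ _ => le_NN V₁ _ hx

include h

theorem symm : Ctx H V₂ V₁ L₂ L₁ := ⟨h.loc, h.s2, h.s1, by rw [inf_comm]; exact h.bot⟩

theorem mem_o2 {R R₂ : Subgroup G} {j : G} (hR : R ∈ L₁) (hR₂ : R₂ ∈ L₂) (hj : j ∈ NN H V₁ R₂)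
    (hjc : j ∈ centralizer (NN H V₂ R : Set G)) : j ∈ o2 (H R) :=
  Side.le_o2_of_cent h.loc (h.s2.le R₂ hR₂) (h.s1.le R hR) rfl
    ((isPGroup_o2 _).to_le (h.s2.NN_le_o2 hR₂)) (h.s2.NN_le_cent_two hR₂) ⟨hj, hjc⟩

/-- An element of `N_{R'}` centralised by some `w ∈ O₂(H R)` with `R'^w ≠ R'` is in `F`. -/
theorem mem_FF_of_fix {R R' R'' : Subgroup G} {w t : G} (hR : R ∈ L₁) (hR' : R' ∈ L₁)
    (hR'' : R'' ∈ L₁) (hne : R'' ≠ R') (hw : w ∈ o2 (H R)) (hwR : cj w R' = R'')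
    (ht : t ∈ NN H V₂ R') (hwt : w * t * w⁻¹ = t) : t ∈ FF H L₁ V₂ := by
  have h3 : t ∈ cj w (NN H V₂ R') := by
    rw [← hwt]
    exact mem_map_of_mem _ ht
  have hwn : w ∈ normalizer (V₂ : Set G) := centralizer_le_normalizer _ (h.s1.cent R hR hw)
  rw [cj_NN_of h.loc hwn, hwR] at h3
  exact h.s1.inf_le_FF h.loc hR' hR'' hne ⟨ht, h3⟩

/-- The core of (2) and (3): `t ∈ N_{R'} ∩ O₂(H R)`, `R' ≠ R`: some `t r'` is in `F`, `r' ∈ R'`. -/
theorem exists_mul {R R' : Subgroup G} {t : G} (hR : R ∈ L₁) (hR' : R' ∈ L₁) (hne : R' ≠ R)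
    (ht : t ∈ NN H V₂ R') (hto : t ∈ o2 (H R)) : ∃ r ∈ R', t * r ∈ FF H L₁ V₂ := by
  obtain ⟨R'', hR'', h1, h2⟩ := h.s1.three R hR R' hR'
  obtain ⟨w, hw, hwx, hwR⟩ := h.s1.tv R hR R' hR' R'' hR'' hne h1
  obtain ⟨r, hr, hrw⟩ := h.s1.onto R hR R' hR' w hw hwx (by rw [hwR]; exact h2) _ (hwx t hto)
  refine ⟨r⁻¹, inv_mem hr, ?_⟩
  refine h.mem_FF_of_fix hR hR' hR'' h2 hw hwR
    (mul_mem ht (h.s1.mem R' hR' (inv_mem hr))) ?_
  -- `w t w⁻¹ = c t`, `w r w⁻¹ = c r`, `c = [w, t] = [w, r]`; `t` commutes with `V₁`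
  have hrV : r ∈ V₁ := h.s1.le R' hR' hr
  have htr : r * t = t * r := mem_centralizer_iff.1 (h.s1.NN_le_cent_one hR' ht) r hrV
  have e1 : w * t * w⁻¹ = w * r * w⁻¹ * r⁻¹ * t := by
    rw [hrw]
    group
  have e2 : w * (t * r⁻¹) * w⁻¹ = w * t * w⁻¹ * (w * r * w⁻¹)⁻¹ := by group
  have h3 : w * r * w⁻¹ * r⁻¹ ∈ V₁ := by
    rw [hrw]
    exact h.s1.le R hR (hwx t hto)
  have h4 : w * r * w⁻¹ ∈ V₁ := by
    have := mul_mem h3 hrV
    simpa only [_root_.inv_mul_cancel_right] using this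
  have h5 : w * r * w⁻¹ * r⁻¹ * t = t * (w * r * w⁻¹ * r⁻¹) :=
    mem_centralizer_iff.1 (h.s1.NN_le_cent_one hR' ht) _ h3
  have h6 : r⁻¹ * (w * r * w⁻¹)⁻¹ = (w * r * w⁻¹)⁻¹ * r⁻¹ := by
    -- `V₁` is abelian: it is centralised by `N_{R'} ≥ R'`
    have h7 : r ∈ centralizer (V₁ : Set G) := h.s1.NN_le_cent_one hR' (h.s1.mem R' hR' hr)
    have h8 := mem_centralizer_iff.1 h7 _ h4
    rw [← mul_inv_rev, ← mul_inv_rev, h8]
  rw [e2, e1, h5]
  calc t * (w * r * w⁻¹ * r⁻¹) * (w * r * w⁻¹)⁻¹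
      = t * (w * r * w⁻¹) * (r⁻¹ * (w * r * w⁻¹)⁻¹) := by group
    _ = t * (w * r * w⁻¹) * ((w * r * w⁻¹)⁻¹ * r⁻¹) := by rw [h6]
    _ = t * r⁻¹ := by group

/-- (2) `E ∩ N_{R'} = R'`. -/
theorem two {R' : Subgroup G} {t : G} (hR' : R' ∈ L₁) (hL₂ : L₂.Nonempty)
    (htE : t ∈ FF H L₂ V₁) (ht : t ∈ NN H V₂ R') : t ∈ R' := by
  obtain ⟨R, hR, hne', -⟩ := h.s1.three R' hR' R' hR'
  have hne : R' ≠ R := hne'.symm
  obtain ⟨R₂, hR₂⟩ := hL₂
  -- `t` centralises `N_R`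
  have htc : t ∈ centralizer (NN H V₂ R : Set G) := by
    rw [mem_centralizer_iff]
    intro y hy
    have hyE : y ∈ normalizer (FF H L₂ V₁ : Set G) :=
      h.s2.norm_FF h.loc (h.s1.NN_le_cent_two hR hy)
    have hyN : y ∈ normalizer (NN H V₂ R' : Set G) :=
      h.s1.norm_NN h.loc hR' (h.s1.NN_le_cent_one hR hy)
    have htN : t ∈ normalizer (NN H V₂ R : Set G) :=
      h.s1.norm_NN h.loc hR (h.s1.NN_le_cent_one hR' ht)
    have h1 : y * t * y⁻¹ * t⁻¹ ∈ FF H L₂ V₁ :=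
      mul_mem ((mem_normalizer_iff.1 hyE t).1 htE) (inv_mem htE)
    have h2 : y * t * y⁻¹ * t⁻¹ ∈ NN H V₂ R' :=
      mul_mem ((mem_normalizer_iff.1 hyN t).1 ht) (inv_mem ht)
    have h3 : y * t * y⁻¹ * t⁻¹ ∈ NN H V₂ R := by
      have e : y * t * y⁻¹ * t⁻¹ = y * (t * y⁻¹ * t⁻¹) := by group
      rw [e]
      exact mul_mem hy ((mem_normalizer_iff.1 htN y⁻¹).1 (inv_mem hy))
    have h4 : y * t * y⁻¹ * t⁻¹ ∈ FF H L₁ V₂ ⊓ FF H L₂ V₁ :=
      ⟨h.s1.inf_le_FF h.loc hR hR' hne ⟨h3, h2⟩, h1⟩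
    rw [h.bot, mem_bot] at h4
    exact mul_inv_eq_iff_eq_mul.1 (mul_inv_eq_one.1 h4)
  have hto : t ∈ o2 (H R) := h.mem_o2 hR hR₂ (mem_FF.1 htE R₂ hR₂) htc
  obtain ⟨r, hr, hrF⟩ := h.exists_mul hR hR' hne ht hto
  have h5 : t * r ∈ FF H L₁ V₂ ⊓ FF H L₂ V₁ :=
    ⟨hrF, mul_mem htE (le_EE (h.s1.le R' hR' hr))⟩
  rw [h.bot, mem_bot] at h5
  rw [eq_inv_of_mul_eq_one_left h5]
  exact inv_mem hr

/-- (3) `C_{N_R ∩ N_{R₂}}(N_{R'}) ≤ R R₂`. -/
theorem three {R R' R₂ : Subgroup G} {j : G} (hR : R ∈ L₁) (hR' : R' ∈ L₁) (hne : R ≠ R')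
    (hR₂ : R₂ ∈ L₂) (hj : j ∈ NN H V₂ R) (hj' : j ∈ NN H V₁ R₂)
    (hjc : j ∈ centralizer (NN H V₂ R' : Set G)) : j ∈ R ⊔ R₂ := by
  have hjo : j ∈ o2 (H R') := h.mem_o2 hR' hR₂ hj' hjc
  obtain ⟨r, hr, hrF⟩ := h.exists_mul hR' hR hne hj hjo
  have h6 : j * r ∈ R₂ := h.symm.two hR₂ ⟨R, hR⟩ hrF
    (mul_mem hj' (le_NN V₁ R₂ (h.s1.le R hR hr)))
  have e : j = j * r * r⁻¹ := by group
  rw [e]
  exact mul_mem (mem_sup_right h6) (mem_sup_left (inv_mem hr))

/-- (4) `[N_R ∩ N_{R₂}, N_{R'}] ≤ R₂`. -/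
theorem four {R R' R₂ : Subgroup G} {j y : G} (hR : R ∈ L₁) (hR' : R' ∈ L₁) (hne : R' ≠ R)
    (hR₂ : R₂ ∈ L₂) (hj : j ∈ NN H V₂ R) (hj' : j ∈ NN H V₁ R₂) (hy : y ∈ NN H V₂ R') :
    j * y * j⁻¹ * y⁻¹ ∈ R₂ := by
  have hyN : y ∈ normalizer (NN H V₂ R : Set G) :=
    h.s1.norm_NN h.loc hR (h.s1.NN_le_cent_one hR' hy)
  have hjN : j ∈ normalizer (NN H V₂ R' : Set G) :=
    h.s1.norm_NN h.loc hR' (h.s1.NN_le_cent_one hR hj)
  have hyq : y ∈ normalizer (NN H V₁ R₂ : Set G) :=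
    h.s2.norm_NN h.loc hR₂ (h.s1.NN_le_cent_two hR' hy)
  have e : j * y * j⁻¹ * y⁻¹ = j * (y * j⁻¹ * y⁻¹) := by group
  have h1 : j * y * j⁻¹ * y⁻¹ ∈ NN H V₂ R := by
    rw [e]
    exact mul_mem hj ((mem_normalizer_iff.1 hyN j⁻¹).1 (inv_mem hj))
  have h2 : j * y * j⁻¹ * y⁻¹ ∈ NN H V₂ R' :=
    mul_mem ((mem_normalizer_iff.1 hjN y).1 hy) (inv_mem hy)
  have h3 : j * y * j⁻¹ * y⁻¹ ∈ NN H V₁ R₂ := by
    rw [e]
    exact mul_mem hj' ((mem_normalizer_iff.1 hyq j⁻¹).1 (inv_mem hj'))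
  exact h.symm.two hR₂ ⟨R, hR⟩ (h.s1.inf_le_FF h.loc hR hR' hne ⟨h1, h2⟩) h3

/-- **THEOREM J**, steps (0)–(4), all `q`: `N_R ∩ N_{R₂} = R R₂`, or some `x ∈ N_{R₂}` satisfies
`1 ≠ [x, N_R] ≤ R₂`. -/
theorem thmJ (htr : ∀ R ∈ L₁, ∀ R' ∈ L₁,
      ∃ l ∈ centralizer (V₂ : Set G) ⊓ normalizer (V₁ : Set G), cj l R' = R)
    {R R₂ : Subgroup G} (hR : R ∈ L₁) (hR₂ : R₂ ∈ L₂) :
    NN H V₂ R ⊓ NN H V₁ R₂ = R ⊔ R₂ ∨
    ∃ x ∈ NN H V₁ R₂, (∀ y ∈ NN H V₂ R, x * y * x⁻¹ * y⁻¹ ∈ R₂) ∧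
      ∃ y ∈ NN H V₂ R, x * y * x⁻¹ * y⁻¹ ≠ 1 := by
  by_cases hle : NN H V₂ R ⊓ NN H V₁ R₂ ≤ R ⊔ R₂
  · left
    refine le_antisymm hle (sup_le (le_inf (h.s1.mem R hR) ?_) (le_inf ?_ (h.s2.mem R₂ hR₂)))
    · exact (h.s1.le R hR).trans (le_NN V₁ R₂)
    · exact (h.s2.le R₂ hR₂).trans (le_NN V₂ R)
  right
  obtain ⟨j, ⟨hj, hj'⟩, hj1⟩ := SetLike.not_le_iff_exists.1 hle
  obtain ⟨R', hR', hne, -⟩ := h.s1.three R hR R hR
  obtain ⟨l, ⟨hl, hl'⟩, hlp⟩ := htr R hR R' hR'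
  have hlq : ∀ a ∈ R₂, l * a * l⁻¹ = a := by
    intro a ha
    rw [← mem_centralizer_iff.1 hl a (h.s2.le R₂ hR₂ ha)]
    group
  have hlR₂ : cj l R₂ = R₂ := by
    rw [← mem_normalizer_iff_cj]
    exact centralizer_le_normalizer _ (centralizer_le (SetLike.coe_subset_coe.2 (h.s2.le R₂ hR₂)) hl)
  have hN : cj l (NN H V₂ R') = NN H V₂ R := by
    rw [cj_NN_of h.loc (centralizer_le_normalizer _ hl), hlp]
  have hNq : cj l (NN H V₁ R₂) = NN H V₁ R₂ := by rw [cj_NN_of h.loc hl', hlR₂]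
  -- by (3), `j` does not centralise `N_{R'}`
  have hjc : ¬ j ∈ centralizer (NN H V₂ R' : Set G) := fun hjc =>
    hj1 (h.three hR hR' hne.symm hR₂ hj hj' hjc)
  refine ⟨l * j * l⁻¹, ?_, ?_, ?_⟩
  · rw [← hNq]
    exact mem_map_of_mem _ hj'
  · intro y hy
    have hy' : l⁻¹ * y * l ∈ NN H V₂ R' := by
      rw [← mem_cj, hN]
      exact hy
    have e : l * j * l⁻¹ * y * (l * j * l⁻¹)⁻¹ * y⁻¹ =
        l * (j * (l⁻¹ * y * l) * j⁻¹ * (l⁻¹ * y * l)⁻¹) * l⁻¹ := by group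
    have h7 := h.four hR hR' hne hR₂ hj hj' hy'
    rw [e, hlq _ h7]
    exact h7
  · by_contra hcon
    push Not at hcon
    apply hjc
    rw [mem_centralizer_iff]
    intro y hy
    have hy' : l * y * l⁻¹ ∈ NN H V₂ R := by
      rw [← hN]
      exact mem_map_of_mem _ hy
    have h7 := hcon _ hy'
    have e : l * j * l⁻¹ * (l * y * l⁻¹) * (l * j * l⁻¹)⁻¹ * (l * y * l⁻¹)⁻¹ =
        l * (j * y * j⁻¹ * y⁻¹) * l⁻¹ := by group
    rw [e] at h7
    have h8 : j * y * j⁻¹ * y⁻¹ = 1 := by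
      have h9 : l * (j * y * j⁻¹ * y⁻¹) = l := by simpa only [_root_.mul_eq_left] using mul_inv_eq_one.1 h7
      exact mul_eq_left.1 h9
    exact (mul_inv_eq_iff_eq_mul.1 (mul_inv_eq_one.1 h8)).symm

end Ctx

/-! ### (1) `E ∩ F = 1` -/

/-! ### From one line to all lines -/

/-- The facts at one line `R₀` and a group `Λ ≤ C(V₂) ∩ N(V₁)` transitive on the lines suffice. -/
theorem Side.of_line (hH : Loc H) {V₁ V₂ Λ R₀ : Subgroup G} {L : Set (Subgroup G)}
    (hΛ : Λ ≤ centralizer (V₂ : Set G) ⊓ normalizer (V₁ : Set G))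
    (hΛL : ∀ l ∈ Λ, ∀ R ∈ L, cj l R ∈ L) (htr : ∀ R ∈ L, ∃ l ∈ Λ, cj l R₀ = R)
    (hle : ∀ R ∈ L, R ≤ V₁) (hthree : ∀ R ∈ L, ∀ R' ∈ L, ∃ R'' ∈ L, R'' ≠ R ∧ R'' ≠ R')
    (h1 : V₂ ≤ o2 (H R₀)) (h2 : o2 (H R₀) ≤ centralizer (V₂ : Set G)) (h3 : V₁ ≤ o2 (H R₀))
    (h4 : ∀ R' ∈ L, ∀ R'' ∈ L, R' ≠ R₀ → R'' ≠ R₀ → ∃ w ∈ o2 (H R₀),
      (∀ x ∈ o2 (H R₀), w * x * w⁻¹ * x⁻¹ ∈ R₀) ∧ cj w R' = R'')
    (h5 : ∀ R' ∈ L, ∀ w ∈ o2 (H R₀), (∀ x ∈ o2 (H R₀), w * x * w⁻¹ * x⁻¹ ∈ R₀) →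
      cj w R' ≠ R' → ∀ r ∈ R₀, ∃ r' ∈ R', w * r' * w⁻¹ * r'⁻¹ = r)
    (h6 : R₀ ≤ NN H V₂ R₀) : Side H V₁ V₂ L := by
  have key : ∀ R ∈ L, ∃ l ∈ Λ, cj l V₁ = V₁ ∧ cj l V₂ = V₂ ∧ cj l R₀ = R ∧
      o2 (H R) = cj l (o2 (H R₀)) := by
    intro R hR
    obtain ⟨l, hl, e⟩ := htr R hR
    refine ⟨l, hl, cj_eq_of_mem_normalizer (hΛ hl).2,
      cj_eq_of_mem_normalizer (centralizer_le_normalizer _ (hΛ hl).1), e, ?_⟩
    rw [← e, ← hH.eqv]
    exact pCore_cj l _
  have conj : ∀ (l w x : G), l * w * l⁻¹ * x * (l * w * l⁻¹)⁻¹ * x⁻¹ =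
      l * (w * (l⁻¹ * x * l) * w⁻¹ * (l⁻¹ * x * l)⁻¹) * l⁻¹ := fun l w x => by group
  refine ⟨hle, ?_, ?_, ?_, ?_, ?_, hthree, ?_⟩
  · intro R hR
    obtain ⟨l, hl, e1, e2, e3, e4⟩ := key R hR
    rw [e4, ← e2]
    exact cj_mono l h1
  · intro R hR
    obtain ⟨l, hl, e1, e2, e3, e4⟩ := key R hR
    rw [e4, ← e2, ← cj_centralizer]
    exact cj_mono l h2
  · intro R hR
    obtain ⟨l, hl, e1, e2, e3, e4⟩ := key R hR
    rw [e4]
    nth_rewrite 1 [← e1]
    exact cj_mono l h3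
  · intro R hR R' hR' R'' hR'' hne hne'
    obtain ⟨l, hl, e1, e2, e3, e4⟩ := key R hR
    have h7 : ∀ T : Subgroup G, T ≠ R → cj l⁻¹ T ≠ R₀ := by
      intro T hT e
      apply hT
      rw [← e3, ← e, cj_cj_inv]
    obtain ⟨w, hw, hwx, hwR⟩ := h4 _ (hΛL l⁻¹ (inv_mem hl) R' hR') _
      (hΛL l⁻¹ (inv_mem hl) R'' hR'') (h7 R' hne) (h7 R'' hne')
    refine ⟨l * w * l⁻¹, by rw [e4]; exact mem_map_of_mem _ hw, ?_, ?_⟩
    · intro x hx
      rw [e4, mem_cj] at hx
      rw [conj, ← e3]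
      exact mem_map_of_mem _ (hwx _ hx)
    · rw [← cj_cj, ← cj_cj, hwR, cj_cj_inv]
  · intro R hR R' hR' w hw hwx hne r hr
    obtain ⟨l, hl, e1, e2, e3, e4⟩ := key R hR
    rw [e4, mem_cj] at hw
    rw [← e3, mem_cj] at hr
    have hwx' : ∀ x ∈ o2 (H R₀), l⁻¹ * w * l * x * (l⁻¹ * w * l)⁻¹ * x⁻¹ ∈ R₀ := by
      intro x hx
      have h8 := hwx (l * x * l⁻¹) (by rw [e4]; exact mem_map_of_mem _ hx)
      rw [← e3, mem_cj] at h8
      have e : l⁻¹ * (w * (l * x * l⁻¹) * w⁻¹ * (l * x * l⁻¹)⁻¹) * l =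
          l⁻¹ * w * l * x * (l⁻¹ * w * l)⁻¹ * x⁻¹ := by group
      rwa [e] at h8
    have hne' : cj (l⁻¹ * w * l) (cj l⁻¹ R') ≠ cj l⁻¹ R' := by
      intro e
      apply hne
      have h9 := congrArg (cj l) e
      rw [cj_cj, cj_cj, cj_cj_inv] at h9
      have e10 : l * (l⁻¹ * w * l) * l⁻¹ = w := by group
      rwa [e10] at h9
    obtain ⟨r', hr', e5⟩ := h5 _ (hΛL l⁻¹ (inv_mem hl) R' hR') _ hw hwx' hne' _ hr
    refine ⟨l * r' * l⁻¹, ?_, ?_⟩
    · rw [mem_cj] at hr'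
      have e : l⁻¹⁻¹ * r' * l⁻¹ = l * r' * l⁻¹ := by group
      rwa [e] at hr'
    · have e : w * (l * r' * l⁻¹) * w⁻¹ * (l * r' * l⁻¹)⁻¹ =
          l * (l⁻¹ * w * l * r' * (l⁻¹ * w * l)⁻¹ * r'⁻¹) * l⁻¹ := by group
      rw [e, e5]
      group
  · intro R hR
    obtain ⟨l, hl, e1, e2, e3, e4⟩ := key R hR
    have h7 : cj l R₀ ≤ cj l (NN H V₂ R₀) := cj_mono l h6
    rwa [cj_NN hH, e2, e3] at h7

end Cfsg.Agent.Omega.IId.ThmJQ

end

section


/-!
# THEOREM J (OMEGA, II.d; helper895 #13722, refereed by helper304 #13970)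

K-free; no `FF`-list, no `m₃`.  For a mutual pair `V = V₁ × V₂` (two four-groups), `p ∈ V₁#`,
`q ∈ V₂#`, put `N_p := ⟨V₂^{C_G(p)}⟩` (`NN V₂ p`) and `N_q := ⟨V₁^{C_G(q)}⟩` (`NN V₁ q`).

* `Side V₁ V₂` : the facts on the points `p` of `V₁`: `V₂ ≤ O₂(C(p))` centralises `O₂(C(p))`,
  `V₁ ≤ O₂(C(p)) ≤ N(V₁)`, some `w ∈ O₂(C(p))` does not centralise `V₁` and has
  `[w, O₂(C(p))] ≤ ⟨p⟩`, and `p ∈ N_p` (case B).
* `inf_le_FF` (0), `EE_inf_FF` (1), `two` (2), `three` (3), `four` (4).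
* `thmJ` : `N_p ∩ N_q = {1, p, q, pq}`, or some `x ∈ N_q` induces on `N_p` a nontrivial
  transvection with centre `q` (steps (0)–(4) of the paper).
* `Side.of_point` : the facts at one point and the transitivity on `V₁#` suffice.
-/

set_option autoImplicit false

namespace Cfsg.Agent.Omega.IId.ThmJ

open Subgroup Cfsg Cfsg.Agent.ZN Cfsg.Agent.ZN.ChoiceBase

universe u

variable {G : Type u} [Group G]

/-! ### The groups `N_p` -/

/-- The centraliser of a point. -/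
abbrev CC (p : G) : Subgroup G := centralizer ({p} : Set G)

/-- `N_p = ⟨U^{C_G(p)}⟩`. -/
def NN (U : Subgroup G) (p : G) : Subgroup G := ⨆ c : CC p, cj (c : G) U

theorem mem_CC {p x : G} : x ∈ CC p ↔ p * x = x * p := by
  rw [mem_centralizer_iff]
  exact ⟨fun h => h p rfl, fun h y hy => by rw [Set.mem_singleton_iff.1 hy]; exact h⟩

theorem cj_CC (g p : G) : cj g (CC p) = CC (g * p * g⁻¹) := by
  ext x
  rw [mem_cj, mem_CC, mem_CC]
  constructor
  · intro h
    have e1 : g * p * g⁻¹ * x = g * (p * (g⁻¹ * x * g)) * g⁻¹ := by group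
    rw [e1, h]
    group
  · intro h
    have e1 : p * (g⁻¹ * x * g) = g⁻¹ * (g * p * g⁻¹ * x) * g := by group
    rw [e1, h]
    group

theorem centralizer_le_CC {V : Subgroup G} {p : G} (hp : p ∈ V) :
    centralizer (V : Set G) ≤ CC p := fun _ hx => mem_CC.2 (mem_centralizer_iff.1 hx p hp)

theorem le_NN (U : Subgroup G) (p : G) : U ≤ NN U p := by
  have h : cj ((1 : CC p) : G) U ≤ NN U p := le_iSup (fun c : CC p => cj (c : G) U) 1
  rwa [Subgroup.coe_one, cj_one] at h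

theorem cj_NN (g : G) (U : Subgroup G) (p : G) : cj g (NN U p) = NN (cj g U) (g * p * g⁻¹) := by
  apply le_antisymm
  · have h1 : cj g (NN U p) = ⨆ c : CC p, cj g (cj (c : G) U) := Subgroup.map_iSup _ _
    rw [h1]
    refine iSup_le fun c => ?_
    have hc : g * (c : G) * g⁻¹ ∈ CC (g * p * g⁻¹) := by
      rw [← cj_CC, mem_cj]
      have e : g⁻¹ * (g * (c : G) * g⁻¹) * g = c := by group
      rw [e]
      exact c.2
    have h2 := le_iSup (fun c : CC (g * p * g⁻¹) => cj (c : G) (cj g U)) ⟨_, hc⟩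
    have e : cj (g * (c : G) * g⁻¹) (cj g U) = cj g (cj (c : G) U) := by
      rw [cj_cj, cj_cj]
      have e2 : g * (c : G) * g⁻¹ * g = g * c := by group
      rw [e2]
    rw [← e]
    exact h2
  · refine iSup_le fun c => ?_
    obtain ⟨c, hc0⟩ := c
    have hc : g⁻¹ * c * g ∈ CC p := by
      rw [← cj_CC, mem_cj] at hc0
      exact hc0
    have h2 := cj_mono g (le_iSup (fun c : CC p => cj (c : G) U) ⟨_, hc⟩)
    have e : cj g (cj (g⁻¹ * c * g) U) = cj c (cj g U) := by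
      rw [cj_cj, cj_cj]
      have e2 : g * (g⁻¹ * c * g) = c * g := by group
      rw [e2]
    rw [← e]
    exact h2

/-- An element of `C(p)` normalises `N_p`. -/
theorem CC_le_normalizer_NN (U : Subgroup G) (p : G) : CC p ≤ normalizer (NN U p : Set G) := by
  intro x hx
  rw [mem_normalizer_iff_cj]
  have h1 : cj x (NN U p) = ⨆ c : CC p, cj x (cj (c : G) U) := Subgroup.map_iSup _ _
  rw [h1]
  apply le_antisymm
  · refine iSup_le fun c => ?_
    rw [cj_cj]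
    exact (le_iSup (fun c : CC p => cj (c : G) U) (⟨x, hx⟩ * c) :)
  · refine iSup_le fun c => ?_
    have h2 := le_iSup (fun c : CC p => cj x (cj (c : G) U)) (⟨x, hx⟩⁻¹ * c)
    have e : cj x (cj (((⟨x, hx⟩⁻¹ * c : CC p)) : G) U) = cj (c : G) U := by
      rw [cj_cj]
      congr 2
      simp only [_root_.Subgroup.coe_mul, _root_.InvMemClass.coe_inv, _root_.mul_inv_cancel_left]
    rw [← e]
    exact h2

theorem NN_le {U K : Subgroup G} {p : G} (hU : U ≤ K) (hK : CC p ≤ normalizer (K : Set G)) :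
    NN U p ≤ K := by
  refine iSup_le fun c => ?_
  have h1 := cj_mono (c : G) hU
  rwa [cj_eq_of_mem_normalizer (hK c.2)] at h1

theorem cj_NN_of {g p : G} {U : Subgroup G} (hU : g ∈ normalizer (U : Set G)) :
    cj g (NN U p) = NN U (g * p * g⁻¹) := by
  rw [cj_NN, cj_eq_of_mem_normalizer hU]

/-! ### Four-groups -/

theorem four_cases {V : Subgroup G} (hc : Nat.card V = 4) (h2 : ∀ x ∈ V, x * x = 1) {p p' : G}
    (hp : p ∈ V) (hp1 : p ≠ 1) (hp' : p' ∈ V) (hp1' : p' ≠ 1) (hne : p ≠ p') {x : G}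
    (hx : x ∈ V) : x = 1 ∨ x = p ∨ x = p' ∨ x = p * p' := by
  classical
  have hpp : p⁻¹ = p := inv_eq_of_mul_eq_one_left (h2 p hp)
  have e1 : (1 : G) ≠ p * p' := fun e => hne (by
    have := eq_inv_of_mul_eq_one_right e.symm
    rw [this, hpp])
  have e2 : p ≠ p * p' := fun e => hp1' (mul_eq_left.1 e.symm)
  have e3 : p' ≠ p * p' := fun e => hp1 (mul_eq_right.1 e.symm)
  have hcard : ({1, p, p', p * p'} : Finset G).card = 4 := by
    rw [Finset.card_insert_of_notMem, Finset.card_insert_of_notMem, Finset.card_insert_of_notMem,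
      Finset.card_singleton]
    · simpa using e3
    · simp only [Finset.mem_insert, Finset.mem_singleton, not_or]
      exact ⟨hne, e2⟩
    · simp only [Finset.mem_insert, Finset.mem_singleton, not_or]
      exact ⟨hp1.symm, hp1'.symm, e1⟩
  have hsub : (({1, p, p', p * p'} : Finset G) : Set G) ⊆ (V : Set G) := by
    intro y hy
    simp only [Finset.coe_insert, Finset.coe_singleton, Set.mem_insert_iff,
      Set.mem_singleton_iff] at hy
    rcases hy with rfl | rfl | rfl | rfl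
    · exact V.one_mem
    · exact hp
    · exact hp'
    · exact V.mul_mem hp hp'
  have hfin : (V : Set G).Finite := by
    have : Finite V := Nat.finite_of_card_ne_zero (by rw [hc]; norm_num)
    exact Set.toFinite _
  have heq : (({1, p, p', p * p'} : Finset G) : Set G) = (V : Set G) := by
    refine Set.eq_of_subset_of_ncard_le hsub ?_ hfin
    rw [Set.ncard_coe_finset, hcard]
    exact hc.le
  have hx' : x ∈ (({1, p, p', p * p'} : Finset G) : Set G) := by rw [heq]; exact hx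
  simpa only [Finset.coe_insert, Finset.coe_singleton, Set.mem_insert_iff,
      Set.mem_singleton_iff] using hx'

theorem four_exists {V : Subgroup G} (hc : Nat.card V = 4) (p : G) :
    ∃ p' ∈ V, p' ≠ 1 ∧ p ≠ p' := by
  classical
  by_contra hcon
  push Not at hcon
  have hsub : (V : Set G) ⊆ (({1, p} : Finset G) : Set G) := by
    intro y hy
    by_cases h1 : y = 1
    · simp [h1]
    · simp [hcon y hy h1]
  have h1 := Set.ncard_le_ncard hsub (Finset.finite_toSet _)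
  rw [Set.ncard_coe_finset] at h1
  have h2 : (V : Set G).ncard = 4 := hc
  have h3 : ({1, p} : Finset G).card ≤ 2 := Finset.card_le_two
  omega

/-! ### The facts on one side -/

/-- The facts on the points of `V₁` (see the header). -/
structure Side (V₁ V₂ : Subgroup G) : Prop where
  two : ∀ x ∈ V₁, x * x = 1
  card : Nat.card V₁ = 4
  in_o2 : ∀ p ∈ V₁, p ≠ 1 → V₂ ≤ o2 (CC p)
  cent : ∀ p ∈ V₁, p ≠ 1 → o2 (CC p) ≤ centralizer (V₂ : Set G)
  self : ∀ p ∈ V₁, p ≠ 1 → V₁ ≤ o2 (CC p)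
  norm : ∀ p ∈ V₁, p ≠ 1 → o2 (CC p) ≤ normalizer (V₁ : Set G)
  tv : ∀ p ∈ V₁, p ≠ 1 → ∃ w ∈ o2 (CC p), w ∉ centralizer (V₁ : Set G) ∧
    ∀ x ∈ o2 (CC p), w * x * w⁻¹ * x⁻¹ = 1 ∨ w * x * w⁻¹ * x⁻¹ = p
  mem : ∀ p ∈ V₁, p ≠ 1 → p ∈ NN V₂ p

/-- `F = ⋂ N_p`, `p ∈ V₁#`. -/
def FF (V₁ V₂ : Subgroup G) : Subgroup G := ⨅ (p : G) (_ : p ∈ V₁) (_ : p ≠ 1), NN V₂ p

theorem mem_FF {V₁ V₂ : Subgroup G} {x : G} :
    x ∈ FF V₁ V₂ ↔ ∀ p ∈ V₁, p ≠ 1 → x ∈ NN V₂ p := by
  simp only [FF, mem_iInf]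

namespace Side

variable {V₁ V₂ : Subgroup G} (h : Side V₁ V₂)

include h

theorem inv {p : G} (hp : p ∈ V₁) : p⁻¹ = p := inv_eq_of_mul_eq_one_left (h.two p hp)

theorem comm {p p' : G} (hp : p ∈ V₁) (hp' : p' ∈ V₁) : p * p' = p' * p := by
  have h1 : (p * p')⁻¹ = p * p' := h.inv (V₁.mul_mem hp hp')
  rw [← h1, mul_inv_rev, h.inv hp, h.inv hp']

/-- `p'' = p p'` is another point of `V₁`. -/
theorem third {p p' : G} (hp : p ∈ V₁) (hne : p ≠ p') : p * p' ≠ 1 := fun e => hne (by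
  rw [eq_inv_of_mul_eq_one_right e, h.inv hp])

theorem cases {p p' : G} (hp : p ∈ V₁) (hp1 : p ≠ 1) (hp' : p' ∈ V₁) (hp1' : p' ≠ 1)
    (hne : p ≠ p') {x : G} (hx : x ∈ V₁) : x = 1 ∨ x = p ∨ x = p' ∨ x = p * p' :=
  four_cases h.card h.two hp hp1 hp' hp1' hne hx

theorem NN_le_o2 {p : G} (hp : p ∈ V₁) (hp1 : p ≠ 1) : NN V₂ p ≤ o2 (CC p) :=
  NN_le (h.in_o2 p hp hp1) (le_normalizer_o2 _)

/-- `O₂(C(p))` centralises `N_p`. -/
theorem o2_le_cent_NN {p : G} (hp : p ∈ V₁) (hp1 : p ≠ 1) :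
    o2 (CC p) ≤ centralizer (NN V₂ p : Set G) := by
  rw [Subgroup.le_centralizer_iff]
  refine NN_le (Subgroup.le_centralizer_iff.1 (h.cent p hp hp1)) ?_
  intro x hx
  rw [mem_normalizer_iff_cj, cj_centralizer, cj_eq_of_mem_normalizer (le_normalizer_o2 _ hx)]

theorem NN_le_cent_two {p : G} (hp : p ∈ V₁) (hp1 : p ≠ 1) :
    NN V₂ p ≤ centralizer (V₂ : Set G) :=
  (h.NN_le_o2 hp hp1).trans (h.cent p hp hp1)

theorem NN_le_cent_one {p : G} (hp : p ∈ V₁) (hp1 : p ≠ 1) :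
    NN V₂ p ≤ centralizer (V₁ : Set G) :=
  Subgroup.le_centralizer_iff.1 ((h.self p hp hp1).trans (h.o2_le_cent_NN hp hp1))

theorem le_cent : V₂ ≤ centralizer (V₁ : Set G) := by
  obtain ⟨p, hp, hp1, -⟩ := four_exists h.card 1
  exact (le_NN V₂ p).trans (h.NN_le_cent_one hp hp1)

/-- An element of `O₂(C(p))` not centralising `V₁` swaps the two other points. -/
theorem swap {p p' w : G} (hp : p ∈ V₁) (hp1 : p ≠ 1) (hp' : p' ∈ V₁) (hp1' : p' ≠ 1)
    (hne : p ≠ p') (hw : w ∈ o2 (CC p)) (hw' : w ∉ centralizer (V₁ : Set G)) :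
    w * p' * w⁻¹ = p * p' := by
  have hwn := h.norm p hp hp1 hw
  have hwp : w * p * w⁻¹ = p := by
    rw [← mem_CC.1 (o2_le _ hw)]
    group
  have h1 : w * p' * w⁻¹ ∈ V₁ := (mem_normalizer_iff.1 hwn p').1 hp'
  rcases h.cases hp hp1 hp' hp1' hne h1 with e | e | e | e
  · exact absurd (by simpa only [_root_.conj_eq_one_iff] using e) hp1'
  · exfalso
    apply hne
    have h2 : w * p' * w⁻¹ = w * p * w⁻¹ := by rw [e, hwp]
    simpa only [_root_.mul_left_inj, _root_.mul_right_inj] using h2.symm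
  · exfalso
    apply hw'
    rw [mem_centralizer_iff]
    have hcp : p * w = w * p := mem_CC.1 (o2_le _ hw)
    have hcp' : p' * w = w * p' := by
      have := congrArg (· * w) e
      simpa only [_root_.inv_mul_cancel_right] using this.symm
    intro y hy
    rcases h.cases hp hp1 hp' hp1' hne hy with rfl | rfl | rfl | rfl
    · simp
    · exact hcp
    · exact hcp'
    · rw [mul_assoc, hcp', ← mul_assoc, hcp, mul_assoc]
  · exact e

/-- (0) `N_p ∩ N_p' ≤ F`. -/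
theorem inf_le_FF {p p' : G} (hp : p ∈ V₁) (hp1 : p ≠ 1) (hp' : p' ∈ V₁) (hp1' : p' ≠ 1)
    (hne : p ≠ p') : NN V₂ p ⊓ NN V₂ p' ≤ FF V₁ V₂ := by
  intro x hx
  rw [mem_FF]
  intro r hr hr1
  obtain ⟨w, hw, hw', -⟩ := h.tv p hp hp1
  have h1 : x ∈ NN V₂ (p * p') := by
    have h2 : w * x * w⁻¹ = x := by
      rw [← mem_centralizer_iff.1 (h.o2_le_cent_NN hp hp1 hw) x hx.1]
      group
    have h3 : x ∈ cj w (NN V₂ p') := by
      rw [← h2]
      exact mem_map_of_mem _ hx.2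
    have hwn : w ∈ normalizer (V₂ : Set G) := centralizer_le_normalizer _ (h.cent p hp hp1 hw)
    rwa [cj_NN_of hwn, h.swap hp hp1 hp' hp1' hne hw hw'] at h3
  rcases h.cases hp hp1 hp' hp1' hne hr with rfl | rfl | rfl | rfl
  · exact absurd rfl hr1
  · exact hx.1
  · exact hx.2
  · exact h1

omit h in
/-- `x` centralising `V₁` normalises `N_p`. -/
theorem norm_NN {p x : G} (hp : p ∈ V₁) (hx : x ∈ centralizer (V₁ : Set G)) :
    x ∈ normalizer (NN V₂ p : Set G) :=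
  CC_le_normalizer_NN V₂ p (centralizer_le_CC hp hx)

omit h in
theorem norm_FF {x : G} (hx : x ∈ centralizer (V₁ : Set G)) :
    x ∈ normalizer (FF V₁ V₂ : Set G) := by
  rw [mem_normalizer_iff]
  intro y
  simp only [mem_FF]
  exact forall₃_congr fun p hp _ => mem_normalizer_iff.1 (norm_NN hp hx) y

omit h in
/-- (2) of the paper, first half: `C_{N_q}(N_p) ≤ O₂(C(p))`. -/
theorem le_o2_of_cent {W : Subgroup G} {p q : G} (hp : p ∈ V₁) (hq : q ∈ V₂)
    (hW : W = NN V₁ q) (hW2 : IsPGroup 2 W) (hWc : W ≤ centralizer (V₁ : Set G)) :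
    W ⊓ centralizer (NN V₂ p : Set G) ≤ o2 (CC p) := by
  subst hW
  set F : Subgroup G := centralizer (NN V₂ p : Set G) ⊓ CC p with hF
  have hFq : F ≤ CC q := inf_le_left.trans (centralizer_le_CC (le_NN V₂ p hq))
  have hFn : F ≤ normalizer (NN V₁ q : Set G) := hFq.trans (CC_le_normalizer_NN V₁ q)
  have h1 : NN V₁ q ⊓ F ≤ o2 F := by
    refine le_o2 inf_le_right (hW2.to_le inf_le_left) ?_
    intro x hx
    rw [mem_normalizer_iff_cj, cj_inf, cj_eq_of_mem_normalizer (hFn hx),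
      cj_eq_of_mem_normalizer (le_normalizer hx)]
  have h2 : CC p ≤ normalizer (F : Set G) := by
    intro x hx
    rw [mem_normalizer_iff_cj, hF, cj_inf, cj_centralizer,
      cj_eq_of_mem_normalizer (CC_le_normalizer_NN V₂ p hx),
      cj_eq_of_mem_normalizer (le_normalizer hx)]
  have h3 : o2 F ≤ o2 (CC p) := by
    refine le_o2 ((o2_le F).trans inf_le_right) (isPGroup_o2 F) ?_
    exact h2.trans (normalizer_le_normalizer_o2 F)
  intro x hx
  exact h3 (h1 ⟨hx.1, hx.2, centralizer_le_CC hp (hWc hx.1)⟩)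

end Side

/-! ### Both sides -/

/-- The set-up of THEOREM J. -/
structure Ctx (V₁ V₂ : Subgroup G) : Prop where
  s1 : Side V₁ V₂
  s2 : Side V₂ V₁
  bot : FF V₁ V₂ ⊓ FF V₂ V₁ = ⊥

namespace Ctx

variable {V₁ V₂ : Subgroup G} (h : Ctx V₁ V₂)

include h

theorem symm : Ctx V₂ V₁ := ⟨h.s2, h.s1, by rw [inf_comm]; exact h.bot⟩

/-- The other side acts. -/
theorem mem_o2 {p q j : G} (hp : p ∈ V₁) (hq : q ∈ V₂) (hq1 : q ≠ 1)
    (hj : j ∈ NN V₁ q) (hjc : j ∈ centralizer (NN V₂ p : Set G)) : j ∈ o2 (CC p) :=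
  Side.le_o2_of_cent hp hq rfl ((isPGroup_o2 _).to_le (h.s2.NN_le_o2 hq hq1))
    (h.s2.NN_le_cent_two hq hq1) ⟨hj, hjc⟩

omit h in
/-- `V₁ ≤ E`. -/
theorem le_EE : V₁ ≤ FF V₂ V₁ := fun _ hx => mem_FF.2 fun q _ _ => le_NN V₁ q hx

omit h in
/-- A `w ∈ O₂(C(p))` fixes `E = ⋂ N_q`. -/
theorem cent_norm_EE {x : G} (hx : x ∈ centralizer (V₂ : Set G)) :
    x ∈ normalizer (FF V₂ V₁ : Set G) := Side.norm_FF hx

/-- An element of `N_{p'}` centralised by `w` (which moves `p'`) is in `F`. -/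
theorem mem_FF_of_fix {p p' w t : G} (hp : p ∈ V₁) (hp1 : p ≠ 1) (hp' : p' ∈ V₁) (hp1' : p' ≠ 1)
    (hne : p ≠ p') (hw : w ∈ o2 (CC p)) (hw' : w ∉ centralizer (V₁ : Set G))
    (ht : t ∈ NN V₂ p') (hwt : w * t * w⁻¹ = t) : t ∈ FF V₁ V₂ := by
  have h3 : t ∈ cj w (NN V₂ p') := by
    rw [← hwt]
    exact mem_map_of_mem _ ht
  have hwn : w ∈ normalizer (V₂ : Set G) := centralizer_le_normalizer _ (h.s1.cent p hp hp1 hw)
  rw [cj_NN_of hwn, h.s1.swap hp hp1 hp' hp1' hne hw hw'] at h3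
  refine h.s1.inf_le_FF hp' hp1' (V₁.mul_mem hp hp') (h.s1.third hp hne) ?_ ⟨ht, h3⟩
  intro e
  exact hp1 (mul_eq_right.1 e.symm)

/-- (2) `E ∩ N_{p'} = ⟨p'⟩`. -/
theorem two {p' t : G} (hp' : p' ∈ V₁) (hp1' : p' ≠ 1) (htE : t ∈ FF V₂ V₁)
    (ht : t ∈ NN V₂ p') : t = 1 ∨ t = p' := by
  obtain ⟨p, hp, hp1, hne'⟩ := four_exists h.s1.card p'
  have hne : p ≠ p' := hne'.symm
  obtain ⟨q, hq, hq1, -⟩ := four_exists h.s2.card 1
  -- `t` centralises `N_p`
  have htc : t ∈ centralizer (NN V₂ p : Set G) := by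
    rw [mem_centralizer_iff]
    intro y hy
    have hyE : y ∈ normalizer (FF V₂ V₁ : Set G) :=
      cent_norm_EE (h.s1.NN_le_cent_two hp hp1 hy)
    have hyN : y ∈ normalizer (NN V₂ p' : Set G) :=
      Side.norm_NN hp' (h.s1.NN_le_cent_one hp hp1 hy)
    have htN : t ∈ normalizer (NN V₂ p : Set G) :=
      Side.norm_NN hp (h.s1.NN_le_cent_one hp' hp1' ht)
    have h1 : y * t * y⁻¹ * t⁻¹ ∈ FF V₂ V₁ :=
      mul_mem ((mem_normalizer_iff.1 hyE t).1 htE) (inv_mem htE)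
    have h2 : y * t * y⁻¹ * t⁻¹ ∈ NN V₂ p' :=
      mul_mem ((mem_normalizer_iff.1 hyN t).1 ht) (inv_mem ht)
    have h3 : y * t * y⁻¹ * t⁻¹ ∈ NN V₂ p := by
      have e : y * t * y⁻¹ * t⁻¹ = y * (t * y⁻¹ * t⁻¹) := by group
      rw [e]
      exact mul_mem hy ((mem_normalizer_iff.1 htN y⁻¹).1 (inv_mem hy))
    have h4 : y * t * y⁻¹ * t⁻¹ ∈ FF V₁ V₂ ⊓ FF V₂ V₁ :=
      ⟨h.s1.inf_le_FF hp hp1 hp' hp1' hne ⟨h3, h2⟩, h1⟩
    rw [h.bot, mem_bot] at h4
    exact mul_inv_eq_iff_eq_mul.1 (mul_inv_eq_one.1 h4)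
  have hto : t ∈ o2 (CC p) := h.mem_o2 hp hq hq1 (mem_FF.1 htE q hq hq1) htc
  obtain ⟨w, hw, hw', hwx⟩ := h.s1.tv p hp hp1
  -- a fixed element is trivial
  have key : ∀ u ∈ FF V₂ V₁, u ∈ NN V₂ p' → w * u * w⁻¹ = u → u = 1 := by
    intro u huE hu huw
    have h5 : u ∈ FF V₁ V₂ ⊓ FF V₂ V₁ :=
      ⟨h.mem_FF_of_fix hp hp1 hp' hp1' hne hw hw' hu huw, huE⟩
    rwa [h.bot, mem_bot] at h5
  rcases hwx t hto with e | e
  · left
    exact key t htE ht (mul_inv_eq_one.1 e)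
  · right
    have e1 : w * t * w⁻¹ = p * t := mul_inv_eq_iff_eq_mul.1 e
    have htp : p * t = t * p := mem_CC.1 (o2_le _ hto)
    have e2 : w * (t * p') * w⁻¹ = t * p' := by
      have e3 : w * (t * p') * w⁻¹ = w * t * w⁻¹ * (w * p' * w⁻¹) := by group
      rw [e3, e1, h.s1.swap hp hp1 hp' hp1' hne hw hw', htp, mul_assoc, ← mul_assoc p p p',
        h.s1.two p hp, one_mul]
    have h6 := key (t * p') (mul_mem htE (le_EE hp')) (mul_mem ht (h.s1.mem p' hp' hp1')) e2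
    rw [eq_inv_of_mul_eq_one_left h6, h.s1.inv hp']

/-- (3) `C_{N_p ∩ N_q}(N_{p'}) ≤ {1, p, q, pq}`. -/
theorem three {p p' q j : G} (hp : p ∈ V₁) (hp1 : p ≠ 1) (hp' : p' ∈ V₁) (hp1' : p' ≠ 1)
    (hne : p' ≠ p) (hq : q ∈ V₂) (hq1 : q ≠ 1) (hj : j ∈ NN V₂ p) (hj' : j ∈ NN V₁ q)
    (hjc : j ∈ centralizer (NN V₂ p' : Set G)) : j = 1 ∨ j = p ∨ j = q ∨ j = p * q := by
  have hjo : j ∈ o2 (CC p') := h.mem_o2 hp' hq hq1 hj' hjc
  obtain ⟨w, hw, hw', hwx⟩ := h.s1.tv p' hp' hp1'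
  have key : ∀ u ∈ NN V₂ p, u ∈ NN V₁ q → w * u * w⁻¹ = u → u = 1 ∨ u = q := by
    intro u hu hu' huw
    exact h.symm.two hq hq1 (h.mem_FF_of_fix hp' hp1' hp hp1 hne hw hw' hu huw) hu'
  rcases hwx j hjo with e | e
  · rcases key j hj hj' (mul_inv_eq_one.1 e) with e | e
    · exact Or.inl e
    · exact Or.inr (Or.inr (Or.inl e))
  · have e1 : w * j * w⁻¹ = p' * j := mul_inv_eq_iff_eq_mul.1 e
    have hjp : p' * j = j * p' := mem_CC.1 (o2_le _ hjo)
    have e2 : w * (j * p) * w⁻¹ = j * p := by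
      have e3 : w * (j * p) * w⁻¹ = w * j * w⁻¹ * (w * p * w⁻¹) := by group
      rw [e3, e1, h.s1.swap hp' hp1' hp hp1 hne hw hw', hjp, mul_assoc, ← mul_assoc p' p' p,
        h.s1.two p' hp', one_mul]
    have hpp : p * p = 1 := h.s1.two p hp
    have h6 := key (j * p) (mul_mem hj (h.s1.mem p hp hp1)) (mul_mem hj' (le_NN V₁ q hp)) e2
    rcases h6 with e | e
    · right; left
      rw [eq_inv_of_mul_eq_one_left e, h.s1.inv hp]
    · right; right; right
      have e4 : j = q * p := by rw [← e, mul_assoc, hpp, mul_one]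
      rw [e4]
      exact (mem_centralizer_iff.1 (h.s1.le_cent hq) p hp).symm

/-- (4) `[N_p ∩ N_q, N_{p'}] ≤ ⟨q⟩`. -/
theorem four {p p' q j y : G} (hp : p ∈ V₁) (hp1 : p ≠ 1) (hp' : p' ∈ V₁) (hp1' : p' ≠ 1)
    (hne : p' ≠ p) (hq : q ∈ V₂) (hq1 : q ≠ 1) (hj : j ∈ NN V₂ p) (hj' : j ∈ NN V₁ q)
    (hy : y ∈ NN V₂ p') : j * y * j⁻¹ * y⁻¹ = 1 ∨ j * y * j⁻¹ * y⁻¹ = q := by
  have hyN : y ∈ normalizer (NN V₂ p : Set G) :=
    Side.norm_NN hp (h.s1.NN_le_cent_one hp' hp1' hy)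
  have hjN : j ∈ normalizer (NN V₂ p' : Set G) :=
    Side.norm_NN hp' (h.s1.NN_le_cent_one hp hp1 hj)
  have hyq : y ∈ normalizer (NN V₁ q : Set G) :=
    Side.norm_NN hq (h.s1.NN_le_cent_two hp' hp1' hy)
  have e : j * y * j⁻¹ * y⁻¹ = j * (y * j⁻¹ * y⁻¹) := by group
  have h1 : j * y * j⁻¹ * y⁻¹ ∈ NN V₂ p := by
    rw [e]
    exact mul_mem hj ((mem_normalizer_iff.1 hyN j⁻¹).1 (inv_mem hj))
  have h2 : j * y * j⁻¹ * y⁻¹ ∈ NN V₂ p' :=
    mul_mem ((mem_normalizer_iff.1 hjN y).1 hy) (inv_mem hy)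
  have h3 : j * y * j⁻¹ * y⁻¹ ∈ NN V₁ q := by
    rw [e]
    exact mul_mem hj' ((mem_normalizer_iff.1 hyq j⁻¹).1 (inv_mem hj'))
  exact h.symm.two hq hq1 (h.s1.inf_le_FF hp hp1 hp' hp1' hne.symm ⟨h1, h2⟩) h3

/-- **THEOREM J**, steps (0)–(4): `N_p ∩ N_q = {1, p, q, pq}`, or some `x ∈ N_q` acts on `N_p` as a
nontrivial transvection with centre `q`. -/
theorem thmJ (htr : ∀ p ∈ V₁, p ≠ 1 → ∀ p' ∈ V₁, p' ≠ 1 →
      ∃ l ∈ centralizer (V₂ : Set G) ⊓ normalizer (V₁ : Set G), l * p' * l⁻¹ = p)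
    {p q : G} (hp : p ∈ V₁) (hp1 : p ≠ 1) (hq : q ∈ V₂) (hq1 : q ≠ 1) :
    (∀ j ∈ NN V₂ p, j ∈ NN V₁ q → j = 1 ∨ j = p ∨ j = q ∨ j = p * q) ∨
    ∃ x ∈ NN V₁ q, (∀ y ∈ NN V₂ p, x * y * x⁻¹ * y⁻¹ = 1 ∨ x * y * x⁻¹ * y⁻¹ = q) ∧
      ∃ y ∈ NN V₂ p, x * y * x⁻¹ * y⁻¹ = q := by
  by_contra hcon
  push Not at hcon
  obtain ⟨⟨j, hj, hj', hj1, hj2, hj3, hj4⟩, hno⟩ := hcon
  obtain ⟨p', hp', hp1', hne⟩ := four_exists h.s1.card p
  obtain ⟨l, ⟨hl, hl'⟩, hlp⟩ := htr p hp hp1 p' hp' hp1'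
  have hlq : l * q * l⁻¹ = q := by
    rw [← mem_centralizer_iff.1 hl q hq]
    group
  have hN : cj l (NN V₂ p') = NN V₂ p := by
    rw [cj_NN_of (centralizer_le_normalizer _ hl), hlp]
  have hNq : cj l (NN V₁ q) = NN V₁ q := by rw [cj_NN_of hl', hlq]
  have hx : l * j * l⁻¹ ∈ NN V₁ q := by
    rw [← hNq]
    exact mem_map_of_mem _ hj'
  have hall : ∀ y ∈ NN V₂ p, l * j * l⁻¹ * y * (l * j * l⁻¹)⁻¹ * y⁻¹ = 1 ∨
      l * j * l⁻¹ * y * (l * j * l⁻¹)⁻¹ * y⁻¹ = q := by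
    intro y hy
    have hy' : l⁻¹ * y * l ∈ NN V₂ p' := by
      rw [← mem_cj, hN]
      exact hy
    have e : l * j * l⁻¹ * y * (l * j * l⁻¹)⁻¹ * y⁻¹ =
        l * (j * (l⁻¹ * y * l) * j⁻¹ * (l⁻¹ * y * l)⁻¹) * l⁻¹ := by group
    rw [e]
    rcases h.four hp hp1 hp' hp1' hne.symm hq hq1 hj hj' hy' with e1 | e1
    · left
      rw [e1]
      group
    · right
      rw [e1, hlq]
  -- by (3), `j` does not centralise `N_{p'}`
  have hjc : ¬ j ∈ centralizer (NN V₂ p' : Set G) := by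
    intro hjc
    rcases h.three hp hp1 hp' hp1' hne.symm hq hq1 hj hj' hjc with e | e | e | e
    · exact hj1 e
    · exact hj2 e
    · exact hj3 e
    · exact hj4 e
  apply hjc
  rw [mem_centralizer_iff]
  intro y hy
  have hy' : l * y * l⁻¹ ∈ NN V₂ p := by
    rw [← hN]
    exact mem_map_of_mem _ hy
  have h7 := (hall _ hy').resolve_right (hno _ hx hall _ hy')
  have e : l * j * l⁻¹ * (l * y * l⁻¹) * (l * j * l⁻¹)⁻¹ * (l * y * l⁻¹)⁻¹ =
      l * (j * y * j⁻¹ * y⁻¹) * l⁻¹ := by group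
  rw [e] at h7
  have h8 : j * y * j⁻¹ * y⁻¹ = 1 := by
    have h9 : l * (j * y * j⁻¹ * y⁻¹) = l := by simpa only [_root_.mul_eq_left] using mul_inv_eq_one.1 h7
    exact mul_eq_left.1 h9
  exact (mul_inv_eq_iff_eq_mul.1 (mul_inv_eq_one.1 h8)).symm

end Ctx

/-! ### (1) `E ∩ F = 1` -/

theorem cj_FF (g : G) (V₁ V₂ : Subgroup G) : cj g (FF V₁ V₂) = FF (cj g V₁) (cj g V₂) := by
  ext x
  rw [mem_cj, mem_FF, mem_FF]
  constructor
  · intro h p hp hp1
    have h1 := h (g⁻¹ * p * g) (mem_cj.1 hp) (fun e => hp1 (by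
      have : p = g * (g⁻¹ * p * g) * g⁻¹ := by group
      rw [this, e]; group))
    rw [← mem_cj, cj_NN] at h1
    have e : g * (g⁻¹ * p * g) * g⁻¹ = p := by group
    rwa [e] at h1
  · intro h p hp hp1
    have h1 := h (g * p * g⁻¹) (mem_map_of_mem _ hp) (fun e => hp1 (by
      have : p = g⁻¹ * (g * p * g⁻¹) * g := by group
      rw [this, e]; group))
    rwa [← cj_NN, mem_cj] at h1

/-! ### From one point to all points -/

/-- The facts at one point `v₁` and transitivity on `V₁#` suffice. -/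
theorem Side.of_point {V₁ V₂ : Subgroup G} {v₁ : G}
    (htwo : ∀ x ∈ V₁, x * x = 1) (hcard : Nat.card V₁ = 4)
    (htr : ∀ p ∈ V₁, p ≠ 1 → ∃ l ∈ centralizer (V₂ : Set G) ⊓ normalizer (V₁ : Set G),
      l * v₁ * l⁻¹ = p)
    (h1 : V₂ ≤ o2 (CC v₁)) (h2 : o2 (CC v₁) ≤ centralizer (V₂ : Set G))
    (h3 : V₁ ≤ o2 (CC v₁)) (h4 : o2 (CC v₁) ≤ normalizer (V₁ : Set G))
    (h5 : ∃ w ∈ o2 (CC v₁), w ∉ centralizer (V₁ : Set G) ∧
      ∀ x ∈ o2 (CC v₁), w * x * w⁻¹ * x⁻¹ = 1 ∨ w * x * w⁻¹ * x⁻¹ = v₁)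
    (h6 : v₁ ∈ NN V₂ v₁) : Side V₁ V₂ := by
  have key : ∀ p ∈ V₁, p ≠ 1 → ∃ l : G, cj l V₁ = V₁ ∧ cj l V₂ = V₂ ∧ l * v₁ * l⁻¹ = p ∧
      o2 (CC p) = cj l (o2 (CC v₁)) := by
    intro p hp hp1
    obtain ⟨l, ⟨hl, hl'⟩, e⟩ := htr p hp hp1
    refine ⟨l, cj_eq_of_mem_normalizer hl',
      cj_eq_of_mem_normalizer (centralizer_le_normalizer _ hl), e, ?_⟩
    rw [← e, ← cj_CC]
    exact pCore_cj l _
  refine ⟨htwo, hcard, ?_, ?_, ?_, ?_, ?_, ?_⟩
  · intro p hp hp1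
    obtain ⟨l, e1, e2, e3, e4⟩ := key p hp hp1
    rw [e4, ← e2]
    exact cj_mono l h1
  · intro p hp hp1
    obtain ⟨l, e1, e2, e3, e4⟩ := key p hp hp1
    rw [e4, ← e2, ← cj_centralizer]
    exact cj_mono l h2
  · intro p hp hp1
    obtain ⟨l, e1, e2, e3, e4⟩ := key p hp hp1
    rw [e4]
    nth_rewrite 1 [← e1]
    exact cj_mono l h3
  · intro p hp hp1
    obtain ⟨l, e1, e2, e3, e4⟩ := key p hp hp1
    rw [e4, ← e1, ← cj_normalizer]
    exact cj_mono l h4
  · intro p hp hp1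
    obtain ⟨l, e1, e2, e3, e4⟩ := key p hp hp1
    obtain ⟨w, hw, hw', hwx⟩ := h5
    refine ⟨l * w * l⁻¹, by rw [e4]; exact mem_map_of_mem _ hw, ?_, ?_⟩
    · intro hc
      apply hw'
      rw [← e1, ← cj_centralizer, mem_cj] at hc
      have e : l⁻¹ * (l * w * l⁻¹) * l = w := by group
      rwa [e] at hc
    · intro x hx
      rw [e4, mem_cj] at hx
      have e : l * w * l⁻¹ * x * (l * w * l⁻¹)⁻¹ * x⁻¹ =
          l * (w * (l⁻¹ * x * l) * w⁻¹ * (l⁻¹ * x * l)⁻¹) * l⁻¹ := by group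
      rw [e]
      rcases hwx _ hx with e5 | e5
      · left
        rw [e5]
        group
      · right
        rw [e5, e3]
  · intro p hp hp1
    obtain ⟨l, e1, e2, e3, e4⟩ := key p hp hp1
    have h7 : l * v₁ * l⁻¹ ∈ cj l (NN V₂ v₁) := mem_map_of_mem _ h6
    rwa [cj_NN, e2, e3] at h7

end Cfsg.Agent.Omega.IId.ThmJ

end

private theorem dce_d710ae005adb : _root_.True := by
  try have : _root_.True := by simp only [_root_.Cfsg.Agent.Omega.IId.ThmJ.FF.eq_1]
  try have : _root_.True := by simp only [_root_.Cfsg.Agent.Omega.IId.ThmJQ.FF.eq_1]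
  exact _root_.True.intro
end

-- part: Mrg/Omega/NO3b/Exit/BO
section
prune_inst 0x10002104170000000004000080001cd3a2000000000f0000000001020580000200000e20b8000100002008040034000000d400000000000000000000000001800000000080480000000006000000010000000000000000000000000000000000004010002
set_option linter.all false
open scoped Cfsg.Agent.FastGrp

section


/-!
# The local exit of NotFF: best offenders (#18053 (1), (2), helper999)

`X` finite acts faithfully on the elementary abelian 2-group `W`, `V ≤ W`; `N_X(V)` is the unique maximal subgroup of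
`X` over the Sylow 2-subgroup `S`; `F ≤ V` is centralised by `X`, `V ∩ V^x ≤ F` for `V^x ≠ V`; `V` is not FF for
`N_X(V)`; `S` moves `V` (`Dat S V F`). `Gen X V` : `W = ⟨V^X⟩` (only where stated).

* `BO A` : `A` has exponent 2 and `|E| |C_W(E)| ≤ |A| |C_W(A)|` for all `E ≤ A`;
* `Dat.bo_cent` : **(1)** a `BO` group which normalises `V^x` centralises it; `Dat.bo_eq_bot` : `BO` in `O₂(X)` is 1;
* `MB B` : `B` is `BO`, not in `O₂(X)`, and `f(E) < f(B)` for `1 ≠ E < B`, so (`MB.two_mul`) `f(E) ≤ f(B) / 2`;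
  `exists_MB` : it exists if `W = ⟨V^X⟩` and some `BO` group is not in `O₂(X)`;
  `MB.quad` : `B` is quadratic;
* `MB.fx_le`, `MB.comm_le` : **(2)** if `V^g` is not `B`-invariant, then `C_{V^g}(B) ≤ F`, `[V^g, N_B(V^g)] ≤ F`;
  `MB.comm_core` : `[W, B ∩ O₂(X)] ≤ F`.
-/

set_option autoImplicit false

namespace Cfsg.Agent.Omega.NO3b.Exit.TT

open Cfsg.Agent.Omega.FF.Basic Cfsg.Agent.Omega.FF.Quad
open Cfsg (pCore)
open scoped Pointwise

section basic

variable {X : Type*} [Group X] {W : Type*} [AddCommGroup W] [DistribMulAction X W]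

/-- `C_X(U)` -/
def cf (X : Type*) [Group X] {W : Type*} [AddCommGroup W] [DistribMulAction X W] (U : AddSubgroup W) :
    Subgroup X where
  carrier := {x | ∀ u ∈ U, x • u = u}
  one_mem' := fun _ _ => one_smul _ _
  mul_mem' := fun {_ _} ha hb u hu => by rw [mul_smul, hb u hu, ha u hu]
  inv_mem' := fun {_} ha u hu => by rw [inv_smul_eq_iff, ha u hu]

theorem mem_cf {U : AddSubgroup W} {x : X} : x ∈ cf X U ↔ ∀ u ∈ U, x • u = u := Iff.rfl

/-- `N_X(U)` -/
abbrev nf (X : Type*) [Group X] {W : Type*} [AddCommGroup W] [DistribMulAction X W] (U : AddSubgroup W) :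
    Subgroup X := MulAction.stabilizer X U

theorem mem_nf {U : AddSubgroup W} {x : X} : x ∈ nf X U ↔ x • U = U := Iff.rfl

theorem mem_smul {U : AddSubgroup W} {x : X} {w : W} : w ∈ x • U ↔ x⁻¹ • w ∈ U :=
  AddSubgroup.mem_pointwise_smul_iff_inv_smul_mem

theorem smul_mem' {U : AddSubgroup W} {x : X} {w : W} (h : w ∈ U) : x • w ∈ x • U := by
  rw [mem_smul, inv_smul_smul]; exact h

theorem nf_smul {U : AddSubgroup W} {x : X} (h : x ∈ nf X U) {w : W} (hw : w ∈ U) : x • w ∈ U := by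
  have h1 := smul_mem' (x := x) hw
  rwa [mem_nf.1 h] at h1

theorem le_cf {U : AddSubgroup W} {A : Subgroup X} : A ≤ cf X U ↔ U ≤ fx W A :=
  ⟨fun h u hu a ha => h ha u hu, fun h a ha u hu => h hu a ha⟩

theorem cf_le_nf [Finite W] (U : AddSubgroup W) : cf X U ≤ nf X U := by
  intro x hx
  rw [mem_nf]
  ext w
  rw [mem_smul]
  have hx' : x⁻¹ ∈ cf X U := inv_mem hx
  constructor
  · intro h
    have := hx _ h
    rw [smul_inv_smul] at this
    rw [this]; exact h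
  · intro h
    rw [hx' _ h]; exact h

theorem nf_conj {U : AddSubgroup W} {x y : X} : y ∈ nf X (x • U) ↔ x⁻¹ * y * x ∈ nf X U := by
  rw [mem_nf, mem_nf, smul_smul, mul_assoc, mul_smul x⁻¹ (y * x) U, inv_smul_eq_iff]

theorem cf_conj {U : AddSubgroup W} {x y : X} : y ∈ cf X (x • U) ↔ x⁻¹ * y * x ∈ cf X U := by
  rw [mem_cf, mem_cf]
  constructor
  · intro h u hu
    have := h (x • u) (smul_mem' hu)
    rw [mul_smul, mul_smul, this, inv_smul_smul]
  · intro h u hu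
    have := h _ (mem_smul.1 hu)
    rw [mul_smul, mul_smul, smul_inv_smul, inv_smul_eq_iff, smul_inv_smul] at this
    exact this

theorem card_smul' (x : X) (U : AddSubgroup W) : Nat.card ↥(x • U) = Nat.card U :=
  card_smul x fun _ => mem_smul

/-- a `BO` group -/
structure BO (W : Type*) [AddCommGroup W] [DistribMulAction X W] (A : Subgroup X) : Prop where
  ea : EA A
  le : ∀ E : Subgroup X, E ≤ A → mm W E ≤ mm W A

theorem mm_pow [Finite X] [Finite W] (two : ∀ w : W, w + w = 0) {A : Subgroup X} (hA : EA A) :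
    ∃ n, mm W A = 2 ^ n := by
  have hf : Fact (Nat.Prime 2) := ⟨Nat.prime_two⟩
  obtain ⟨n, hn⟩ := IsPGroup.iff_card.1 hA.isPGroup
  have h1 : IsPGroup 2 (Multiplicative (fx W A)) := by
    intro x
    refine ⟨1, ?_⟩
    apply Multiplicative.toAdd.injective
    apply Subtype.ext
    rw [pow_one, toAdd_pow, two_nsmul]
    exact two _
  obtain ⟨m, hm⟩ := IsPGroup.iff_card.1 h1
  refine ⟨n + m, ?_⟩
  have h2 : Nat.card (fx W A) = 2 ^ m := hm
  rw [mm, hn, h2, pow_add]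

theorem card_pow [Finite W] (two : ∀ w : W, w + w = 0) (U : AddSubgroup W) : ∃ n, Nat.card U = 2 ^ n := by
  have hf : Fact (Nat.Prime 2) := ⟨Nat.prime_two⟩
  have h1 : IsPGroup 2 (Multiplicative U) := by
    intro x
    refine ⟨1, ?_⟩
    apply Multiplicative.toAdd.injective
    apply Subtype.ext
    rw [pow_one, toAdd_pow, two_nsmul]
    exact two _
  obtain ⟨m, hm⟩ := IsPGroup.iff_card.1 h1
  exact ⟨m, hm⟩

theorem two_mul_le_of_pow {a b : ℕ} (ha : ∃ n, a = 2 ^ n) (hb : ∃ n, b = 2 ^ n) (h : a < b) : 2 * a ≤ b := by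
  obtain ⟨n, rfl⟩ := ha
  obtain ⟨m, rfl⟩ := hb
  have h1 := (Nat.pow_lt_pow_iff_right (by norm_num : 1 < 2)).1 h
  calc 2 * 2 ^ n = 2 ^ (n + 1) := by ring
    _ ≤ 2 ^ m := Nat.pow_le_pow_right (by norm_num) (by omega)

/-- Timmesfeld's replacement: `f(A)` maximal in `A` and `f(E) < f(A)` for `1 ≠ E < A` imply quadratic action. -/
theorem quad' [Finite X] [Finite W] {A : Subgroup X} (h2 : ∀ v : W, v + v = 0) (hA : EA A) (hne : A ≠ ⊥)
    (hbot : Nat.card W ≤ mm W A) (hmin : ∀ F < A, F ≠ ⊥ → mm W F < mm W A) :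
    ∀ a ∈ A, ∀ b ∈ A, ∀ v : W, b • (a • v - v) = a • v - v := by
  intro a ha b hb u
  have hle : st A u ≤ A := fun c hc => hc.1
  have h1 := mm_le_st hA u
  by_cases hst : st A u = ⊥
  · exfalso
    have hA1 : mm W A = Nat.card W := by
      apply le_antisymm _ hbot
      rw [← mm_bot (V := W) (X := X), ← hst]; exact h1
    have hinj : ∀ a ∈ A, ∀ b ∈ A, (a • u - u) - (b • u - u) ∈ fx W A → a = b := by
      intro a ha b hb h
      have : b⁻¹ * a ∈ st A u := by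
        refine ⟨A.mul_mem (A.inv_mem hb) ha, fun d hd => ?_⟩
        set c := b⁻¹ * a with hc
        have hcA : c ∈ A := A.mul_mem (A.inv_mem hb) ha
        have h1 : c • u - u ∈ fx W A := by
          have h3 : (a • u - b • u : W) ∈ fx W A := by convert h using 1; abel
          have h4 := h3 b⁻¹ (A.inv_mem hb)
          have h5 : c • u - u = b⁻¹ • (a • u - b • u) := by
            rw [smul_sub, smul_smul, inv_smul_smul]
          rw [h5, h4]; exact h3
        have h2 : c • (d • u) = d • (c • u) := by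
          rw [smul_smul, smul_smul, hA.comm hcA hd]
        have h3 := h1 d hd
        rw [smul_sub] at h3
        rw [smul_sub, h2]
        have h4 : d • c • u = c • u - u + d • u := by rw [← h3]; abel
        rw [h4]; abel
      rw [hst, Subgroup.mem_bot, inv_mul_eq_one] at this
      exact this.symm
    have hbij : Function.Bijective (fun x : A × fx W A => ((x.1 : X) • u - u + (x.2 : W) : W)) := by
      rw [Nat.bijective_iff_injective_and_card]
      refine ⟨?_, ?_⟩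
      · rintro ⟨a, c⟩ ⟨a', c'⟩ h
        have h' : (a : X) • u - u + (c : W) = (a' : X) • u - u + (c' : W) := h
        have e : (a : X) = a' := by
          apply hinj a a.2 a' a'.2
          have : ((a : X) • u - u) - ((a' : X) • u - u) = (c' : W) - c := by
            have : (a : X) • u - u = (a' : X) • u - u + (c' : W) - c := by rw [← h']; abel
            rw [this]; abel
          rw [this]; exact (fx W A).sub_mem c'.2 c.2
        rw [e] at h'
        exact Prod.ext (Subtype.ext e) (Subtype.ext (add_left_cancel h'))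
      · rw [Nat.card_prod]; exact hA1
    obtain ⟨⟨a, c⟩, hac⟩ := hbij.2 u
    have hac' : (a : X) • u - u + (c : W) = u := hac
    have h3 : (a : X) • u = (u + u) - c := by rw [← sub_eq_zero] at hac' ⊢; rw [← hac']; abel
    rw [h2, zero_sub] at h3
    have h4 : (a : X) • u ∈ fx W A := by rw [h3]; exact (fx W A).neg_mem c.2
    have h5 : u ∈ fx W A := by
      have := h4 (a : X)⁻¹ (A.inv_mem a.2)
      rw [inv_smul_smul] at this
      rw [this]; exact h4
    apply hne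
    rw [Subgroup.eq_bot_iff_forall]
    intro x hx
    apply hinj x hx 1 A.one_mem
    rw [h5 x hx, one_smul, sub_self]; exact (fx W A).zero_mem
  · have : st A u = A := by
      by_contra h
      exact absurd (hmin _ (lt_of_le_of_ne hle h) hst) (not_lt.2 h1)
    have hb' : b ∈ st A u := by rw [this]; exact hb
    exact hb'.2 a ha

end basic

/-- The hypotheses. -/
structure Dat {X : Type*} [Group X] {W : Type*} [AddCommGroup W] [DistribMulAction X W] (S : Sylow 2 X)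
    (V F : AddSubgroup W) : Prop where
  two : ∀ w : W, w + w = 0
  faith : ∀ x : X, (∀ w : W, x • w = w) → x = 1
  SV : (S : Subgroup X) ≤ nf X V
  ne : nf X V ≠ ⊤
  uniq : ∀ K : Subgroup X, (S : Subgroup X) ≤ K → K ≠ ⊤ → K ≤ nf X V
  FV : F ≤ V
  Fx : ∀ (x : X), ∀ f ∈ F, x • f = f
  ti : ∀ x : X, x • V ≠ V → V ⊓ x • V ≤ F
  nff : ∀ A : Subgroup X, IsPGroup 2 A → A ≤ nf X V → (∀ a ∈ A, ∀ v ∈ V, a • a • v = v) → ¬ A ≤ cf X V →
    Nat.card A * Nat.card ↥(V ⊓ fx W A) < Nat.card V * Nat.card ↥(A ⊓ cf X V)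
  mv : ¬ (S : Subgroup X) ≤ cf X V

/-- `W = ⟨V^X⟩` -/
def Gen (X : Type*) [Group X] {W : Type*} [AddCommGroup W] [DistribMulAction X W] (V : AddSubgroup W) : Prop :=
  (⨆ x : X, x • V) = ⊤

namespace Dat

variable {X : Type*} [Group X] [Finite X] {W : Type*} [AddCommGroup W] [Finite W] [DistribMulAction X W]
  {S : Sylow 2 X} {V F : AddSubgroup W} (h : Dat S V F)
include h

omit [Finite X] [Finite W] in
theorem F_smul (x : X) : x • F = F := by
  ext w
  rw [mem_smul]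
  constructor
  · intro hw
    have := h.Fx x _ hw
    rw [smul_inv_smul] at this
    rw [this]; exact hw
  · intro hw
    rw [h.Fx x⁻¹ w hw]; exact hw

omit [Finite X] [Finite W] in
theorem F_le (x : X) : F ≤ x • V := by
  rw [← h.F_smul x]
  exact AddSubgroup.pointwise_smul_le_pointwise_smul_iff.2 h.FV

omit [Finite X] [Finite W] in
theorem F_fx (A : Subgroup X) : F ≤ fx W A := fun f hf a _ => h.Fx a f hf

omit [Finite X] [Finite W] in
/-- (TI) for two lines -/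
theorem ti' {x y : X} (hne : x • V ≠ y • V) : x • V ⊓ y • V ≤ F := by
  have h1 : (x⁻¹ * y) • V ≠ V := by
    intro h0
    apply hne
    have := congrArg (fun U : AddSubgroup W => x • U) h0
    simp only [smul_smul, mul_inv_cancel_left] at this
    exact this.symm
  intro w hw
  have h2 : x⁻¹ • w ∈ F := by
    apply h.ti _ h1
    refine ⟨mem_smul.1 hw.1, ?_⟩
    have h3 : y⁻¹ • w ∈ V := mem_smul.1 hw.2
    have e : ((x⁻¹ * y)⁻¹ • x⁻¹ • w : W) = y⁻¹ • w := by
      rw [smul_smul]; congr 1; group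
    exact mem_smul.2 (by rw [e]; exact h3)
  have h3 := h.Fx x _ h2
  rw [smul_inv_smul] at h3
  rw [h3]; exact h2

omit [Finite X] [Finite W] in
/-- NF for the line `V^x` -/
theorem nff' (x : X) {A : Subgroup X} (hA : IsPGroup 2 A) (hAn : A ≤ nf X (x • V))
    (hsq : ∀ a ∈ A, ∀ v ∈ x • V, a • a • v = v) (hne : ¬ A ≤ cf X (x • V)) :
    Nat.card A * Nat.card ↥(x • V ⊓ fx W A) < Nat.card V * Nat.card ↥(A ⊓ cf X (x • V)) := by
  have h1 := h.nff (cj x⁻¹ A) (isPGroup_cj _ hA) (fun a ha => by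
      rw [mem_cj, inv_inv] at ha
      have h2 := hAn ha
      rw [nf_conj] at h2
      have e : x⁻¹ * (x * a * x⁻¹) * x = a := by group
      rwa [e] at h2) (fun a ha v hv => by
      rw [mem_cj, inv_inv] at ha
      have h2 := hsq _ ha _ (smul_mem' (x := x) hv)
      rw [smul_smul, smul_smul] at h2
      have e : x * a * x⁻¹ * (x * a * x⁻¹) * x = x * (a * a) := by group
      rw [e, mul_smul] at h2
      rw [smul_smul]
      exact smul_left_cancel x h2) (fun h0 => hne (fun a ha => by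
      rw [cf_conj]
      have h2 := h0 (mem_cj_of (g := x⁻¹) ha)
      rwa [inv_inv] at h2))
  rw [card_cj] at h1
  have e1 : Nat.card ↥(V ⊓ fx W (cj x⁻¹ A)) = Nat.card ↥(x • V ⊓ fx W A) := by
    refine (card_smul x fun v => ?_).symm
    constructor
    · rintro ⟨h2, h3⟩
      exact ⟨mem_smul.1 h2, smul_mem_fx_cj h3⟩
    · rintro ⟨h2, h3⟩
      have h3' := mem_fx_cj.1 h3
      rw [inv_inv, smul_inv_smul] at h3'
      exact ⟨mem_smul.2 h2, h3'⟩
  have e2 : Nat.card ↥(cj x⁻¹ A ⊓ cf X V) = Nat.card ↥(A ⊓ cf X (x • V)) := by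
    have e3 : cj x⁻¹ A ⊓ cf X V = cj x⁻¹ (A ⊓ cf X (x • V)) := by
      ext a
      rw [mem_cj, inv_inv, Subgroup.mem_inf, Subgroup.mem_inf, mem_cj, inv_inv, cf_conj]
      have e : x⁻¹ * (x * a * x⁻¹) * x = a := by group
      rw [e]
    rw [e3, card_cj]
  rw [e1, e2] at h1
  exact h1

/-- **(1)** a `BO` group which normalises a line centralises it. -/
theorem bo_cent {A : Subgroup X} (hA : BO W A) {x : X} (hx : A ≤ nf X (x • V)) : A ≤ cf X (x • V) := by
  by_contra hne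
  have h1 := h.nff' x hA.ea.isPGroup hx (fun a ha v _ => by rw [smul_smul, hA.ea a ha, one_smul]) hne
  set E := A ⊓ cf X (x • V) with hE
  have h2 := hA.le E inf_le_left
  have h3 : x • V ⊔ fx W A ≤ fx W E := by
    refine sup_le ?_ (fx_anti inf_le_left)
    exact le_cf.1 inf_le_right
  have h4 := card_sup_inf (x • V) (fx W A)
  have h5 := card_le h3
  rw [card_smul'] at h4
  rw [mm, mm] at h2
  have h6 : Nat.card V * Nat.card E ≤ Nat.card A * Nat.card ↥(x • V ⊓ fx W A) := by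
    have p : 0 < Nat.card (fx W A) := Nat.card_pos
    refine Nat.le_of_mul_le_mul_right ?_ p
    calc Nat.card V * Nat.card E * Nat.card (fx W A) = Nat.card E * (Nat.card V * Nat.card (fx W A)) := by ring
      _ = Nat.card E * (Nat.card ↥(x • V ⊔ fx W A) * Nat.card ↥(x • V ⊓ fx W A)) := by rw [h4]
      _ ≤ Nat.card E * (Nat.card (fx W E) * Nat.card ↥(x • V ⊓ fx W A)) :=
        Nat.mul_le_mul_left _ (Nat.mul_le_mul_right _ h5)
      _ = Nat.card E * Nat.card (fx W E) * Nat.card ↥(x • V ⊓ fx W A) := by ring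
      _ ≤ Nat.card A * Nat.card (fx W A) * Nat.card ↥(x • V ⊓ fx W A) := Nat.mul_le_mul_right _ h2
      _ = _ := by ring
  exact absurd h1 (not_lt.2 h6)

omit h [Finite W] [Finite X] in
theorem core_le (S : Sylow 2 X) : pCore 2 X ≤ (S : Subgroup X) := Lib.Cores.pCore_le_sylow S

omit [Finite W] in
theorem core_nf (x : X) : pCore 2 X ≤ nf X (x • V) := by
  intro q hq
  rw [nf_conj]
  have hn : (pCore 2 X).Normal := Lib.Cores.pCore_normal 2
  have h1 : x⁻¹ * q * x ∈ pCore 2 X := by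
    have := hn.conj_mem q hq x⁻¹
    rwa [inv_inv] at this
  exact h.SV (core_le S h1)

end Dat

/-- A `BO` group which is not contained in `O₂(X)`, strictly better than its proper subgroups. -/
structure MB {X : Type*} [Group X] (W : Type*) [AddCommGroup W] [DistribMulAction X W] (B : Subgroup X) : Prop where
  bo : BO W B
  nle : ¬ B ≤ pCore 2 X
  lt : ∀ E : Subgroup X, E < B → E ≠ ⊥ → mm W E < mm W B

namespace MB

variable {X : Type*} [Group X] [Finite X] {W : Type*} [AddCommGroup W] [Finite W] [DistribMulAction X W]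
  {S : Sylow 2 X} {V F : AddSubgroup W} {B : Subgroup X} (m : MB W B) (h : Dat S V F)

include m in
omit [Finite X] [Finite W] in
theorem ne_bot : B ≠ ⊥ := fun h0 => m.nle (h0 ▸ bot_le)

include m h

/-- `f(E) ≤ f(B) / 2` for `1 ≠ E < B` -/
theorem two_mul {E : Subgroup X} (hE : E < B) (hne : E ≠ ⊥) : 2 * mm W E ≤ mm W B :=
  two_mul_le_of_pow (mm_pow h.two (m.bo.ea.mono hE.le)) (mm_pow h.two m.bo.ea) (m.lt E hE hne)

omit [Finite X] [Finite W] h in
theorem card_le_mm : Nat.card W ≤ mm W B := by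
  rw [← mm_bot (X := X) (V := W)]
  exact m.bo.le ⊥ bot_le

/-- `B` is quadratic. -/
theorem quad : ∀ a ∈ B, ∀ b ∈ B, ∀ w : W, b • (a • w - w) = a • w - w := by
  exact quad' h.two m.bo.ea m.ne_bot m.card_le_mm fun E hE hne => m.lt E hE hne

omit [Finite X] [Finite W] m in
/-- `C_{V^g}(b) ≤ F` if `b` moves the line `V^g` -/
theorem fe_inf {g b : X} (hb : b ∉ nf X (g • V)) : g • V ⊓ fe W b ≤ F := by
  rintro v ⟨h1, h2⟩
  refine h.ti' (x := g) (y := b * g) ?_ ⟨h1, ?_⟩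
  · intro h0
    apply hb
    rw [mem_nf, ← mul_smul]
    exact h0.symm
  · rw [mul_smul]
    have h3 := smul_mem' (x := b) h1
    have h4 : b • v = v := h2
    rwa [h4] at h3

omit [Finite X] [Finite W] m in
/-- **(2)** `C_{V^g}(B) ≤ F` -/
theorem fx_le {g : X} (hg : ¬ B ≤ nf X (g • V)) : g • V ⊓ fx W B ≤ F := by
  rw [SetLike.not_le_iff_exists] at hg
  obtain ⟨b, hb, hbn⟩ := hg
  exact (inf_le_inf_left _ (fx_le_fe hb)).trans (fe_inf h hbn)

/-- **(2)** `[V^g, N_B(V^g)] ≤ F` -/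
theorem comm_le {g : X} (hg : ¬ B ≤ nf X (g • V)) {b : X} (hb : b ∈ B) (hbg : b ∈ nf X (g • V)) {v : W}
    (hv : v ∈ g • V) : b • v - v ∈ F := by
  apply fx_le h hg
  exact ⟨AddSubgroup.sub_mem _ (nf_smul hbg hv) hv, fun c hc => m.quad h b hb c hc v⟩

/-- `[W, B ∩ O₂(X)] ≤ F` -/
theorem comm_core (hgen : Gen X V) {b : X} (hb : b ∈ B) (hbQ : b ∈ pCore 2 X) (w : W) : b • w - w ∈ F := by
  let K : AddSubgroup W :=
    { carrier := {w | b • w - w ∈ F}
      zero_mem' := by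
        show b • (0 : W) - 0 ∈ F
        rw [smul_zero, sub_zero]; exact F.zero_mem
      add_mem' := fun {v w} hv hw => by
        show b • (v + w) - (v + w) ∈ F
        have e : b • (v + w) - (v + w) = (b • v - v) + (b • w - w) := by rw [smul_add]; abel
        rw [e]; exact F.add_mem hv hw
      neg_mem' := fun {v} hv => by
        show b • (-v) - (-v) ∈ F
        have e : b • (-v) - (-v) = -(b • v - v) := by rw [smul_neg]; abel
        rw [e]; exact F.neg_mem hv }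
  have h1 : (⨆ x : X, x • V) ≤ K := by
    refine iSup_le fun x => ?_
    intro v hv
    show b • v - v ∈ F
    by_cases hx : B ≤ nf X (x • V)
    · have h2 := h.bo_cent m.bo hx hb v hv
      rw [h2, sub_self]; exact F.zero_mem
    · exact m.comm_le h hx hb (h.core_nf x hbQ) hv
  rw [hgen] at h1
  exact h1 (AddSubgroup.mem_top w)

end MB

end Cfsg.Agent.Omega.NO3b.Exit.TT

end

section


/-!
# The second half of LOC (#18653, helper776), part 3: Schur's lemma for abelian groups with operators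

`A` : a finite irreducible `Y`-module (additive group), `class IsIrr Y A`.

* `KK Y A` : the finite field `End_Y(A)` (instances `Field`, `Finite`, `Module (KK Y A) A`, `SMulCommClass`);
* `HomY Y A W` : the additive group `Hom_Y(A, W)`, a `KK Y A`-space by `(κ f) a = f (κ a)`;
* `HomY.inj` : a nonzero element is injective; `HomY.ind` : `A ⊗ Hom_Y(A, W) → W` is injective, in the form
  `f i` linearly independent, `∑ f i (a i) = 0` implies `a i = 0`; `HomY.ind'` : the same with independent `a i`;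
* `HomY.fact` : if `f A ∩ g A ≠ 0` then `g ∈ K f`.
-/

set_option autoImplicit false

namespace Cfsg.Agent.Omega.NO3b.Exit.Ten

universe u v w

/-- `A` is an irreducible `Y`-module. -/
class IsIrr (Y : Type u) (A : Type v) [Group Y] [AddCommGroup A] [DistribMulAction Y A] : Prop where
  ne : ∃ a : A, a ≠ 0
  irr : ∀ N : AddSubgroup A, (∀ k : Y, ∀ n ∈ N, k • n ∈ N) → N = ⊥ ∨ N = ⊤

/-- `Hom_Y(A, W)` -/
def HomY (Y : Type u) (A : Type v) (W : Type w) [Group Y] [AddCommGroup A] [DistribMulAction Y A] [AddCommGroup W]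
    [DistribMulAction Y W] : AddSubgroup (A →+ W) where
  carrier := {f | ∀ (k : Y) (a : A), f (k • a) = k • f a}
  zero_mem' := fun k a => by simp only [_root_.AddMonoidHom.zero_apply, _root_.smul_zero]
  add_mem' := fun {f g} hf hg k a => by
    rw [AddMonoidHom.add_apply, AddMonoidHom.add_apply, hf, hg, smul_add]
  neg_mem' := fun {f} hf k a => by
    rw [AddMonoidHom.neg_apply, AddMonoidHom.neg_apply, hf, smul_neg]

section homY

variable {Y : Type u} {A : Type v} {W : Type w} [Group Y] [AddCommGroup A] [DistribMulAction Y A] [AddCommGroup W]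
  [DistribMulAction Y W]

/-- a nonzero homomorphism from an irreducible module is injective -/
theorem inj_of_ne [hI : IsIrr Y A] {f : A →+ W} (hf : ∀ (k : Y) (a : A), f (k • a) = k • f a) (h0 : f ≠ 0) :
    Function.Injective f := by
  rcases hI.irr f.ker (fun k n hn => by
    rw [AddMonoidHom.mem_ker] at hn ⊢
    rw [hf, hn, smul_zero]) with h | h
  · exact (AddMonoidHom.ker_eq_bot_iff f).1 h
  · exfalso
    apply h0
    ext a
    have : a ∈ f.ker := by rw [h]; trivial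
    exact this

end homY

section field

variable (Y : Type u) (A : Type v) [Group Y] [AddCommGroup A] [DistribMulAction Y A]

/-- `End_Y(A)` -/
def EndY : Subring (AddMonoid.End A) where
  carrier := {f | ∀ (k : Y) (a : A), f (k • a) = k • f a}
  one_mem' := fun k a => rfl
  zero_mem' := fun k a => (smul_zero k).symm
  add_mem' := fun {f g} hf hg k a => by
    change f (k • a) + g (k • a) = k • (f a + g a)
    rw [hf, hg, smul_add]
  neg_mem' := fun {f} hf k a => by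
    change - f (k • a) = k • (- f a)
    rw [hf, smul_neg]
  mul_mem' := fun {f g} hf hg k a => by
    change f (g (k • a)) = k • (f (g a))
    rw [hg, hf]

/-- the field `End_Y(A)` -/
def KK : Type v := EndY Y A

variable [Finite A] [hI : IsIrr Y A]

instance : Finite (EndY Y A) :=
  Finite.of_injective (fun f => (f : AddMonoid.End A) : EndY Y A → A → A)
    fun _ _ h => Subtype.ext (DFunLike.coe_injective h)

instance : Finite (KK Y A) := inferInstanceAs (Finite (EndY Y A))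

theorem isField : IsField (EndY Y A) := by
  have hinj : ∀ f : EndY Y A, f ≠ 0 → Function.Injective (f : AddMonoid.End A) := by
    intro f hf
    exact inj_of_ne (Y := Y) (f := ((f : AddMonoid.End A) : A →+ A)) f.2 fun h => hf (Subtype.ext h)
  have hnt : Nontrivial (EndY Y A) := by
    obtain ⟨a, ha⟩ := hI.ne
    refine ⟨⟨0, 1, fun h => ha ?_⟩⟩
    have h1 : ((0 : EndY Y A) : AddMonoid.End A) a = ((1 : EndY Y A) : AddMonoid.End A) a := by rw [h]
    exact h1.symm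
  have hnz : NoZeroDivisors (EndY Y A) := by
    refine ⟨fun {f g} h => ?_⟩
    by_cases hf : f = 0
    · exact Or.inl hf
    · right
      apply Subtype.ext
      apply DFunLike.ext
      intro a
      refine hinj f hf ?_
      have h1 : ((f * g : EndY Y A) : AddMonoid.End A) a = ((0 : EndY Y A) : AddMonoid.End A) a := by rw [h]
      change (f : AddMonoid.End A) ((g : AddMonoid.End A) a) = (f : AddMonoid.End A) (0 : A)
      rw [map_zero]
      exact h1
  have : IsDomain (EndY Y A) := NoZeroDivisors.to_isDomain _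
  exact Finite.isDomain_to_isField _

@[irreducible] noncomputable def KK.fld : Field (KK Y A) := IsField.toField (R := EndY Y A) (isField Y A)

noncomputable instance : Field (KK Y A) := KK.fld Y A

variable {Y A}

theorem KK.val_one : ((1 : KK Y A).1 : AddMonoid.End A) = 1 := by with_unfolding_all rfl

theorem KK.val_zero : ((0 : KK Y A).1 : AddMonoid.End A) = 0 := by with_unfolding_all rfl

theorem KK.val_mul (x y : KK Y A) : ((x * y).1 : AddMonoid.End A) = x.1 * y.1 := by with_unfolding_all rfl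

theorem KK.val_add (x y : KK Y A) : ((x + y).1 : AddMonoid.End A) = x.1 + y.1 := by with_unfolding_all rfl

noncomputable instance : SMul (KK Y A) A := ⟨fun κ a => (κ.1 : AddMonoid.End A) a⟩

noncomputable instance : Module (KK Y A) A where
  one_smul a := by
    change ((1 : KK Y A).1 : AddMonoid.End A) a = a
    rw [KK.val_one]; rfl
  mul_smul x y a := by
    change ((x * y).1 : AddMonoid.End A) a = x.1 (y.1 a)
    rw [KK.val_mul]; rfl
  smul_zero κ := map_zero (κ.1 : AddMonoid.End A)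
  smul_add κ a b := map_add (κ.1 : AddMonoid.End A) a b
  add_smul x y a := by
    change ((x + y).1 : AddMonoid.End A) a = x.1 a + y.1 a
    rw [KK.val_add]; rfl
  zero_smul a := by
    change ((0 : KK Y A).1 : AddMonoid.End A) a = 0
    rw [KK.val_zero]; rfl

variable (Y A)

omit [Finite A] hI in
theorem KK.smul_def (κ : KK Y A) (a : A) : κ • a = (κ.1 : AddMonoid.End A) a := rfl

instance : SMulCommClass Y (KK Y A) A := ⟨fun k κ a => (κ.2 k a).symm⟩

instance : SMulCommClass (KK Y A) Y A := ⟨fun κ k a => κ.2 k a⟩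

/-- an element of the field from a `Y`-endomorphism -/
def KK.mk (f : A →+ A) (hf : ∀ (k : Y) (a : A), f (k • a) = k • f a) : KK Y A := ⟨f, hf⟩

omit [Finite A] hI in
theorem KK.mk_smul (f : A →+ A) (hf : ∀ (k : Y) (a : A), f (k • a) = k • f a) (a : A) :
    KK.mk Y A f hf • a = f a := rfl

end field

section module

variable {Y : Type u} {A : Type v} {W : Type w} [Group Y] [AddCommGroup A] [DistribMulAction Y A] [AddCommGroup W]
  [DistribMulAction Y W] [Finite A] [hI : IsIrr Y A]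

omit [Finite A] hI in
theorem KK.smul_smul_comm (k : Y) (κ : KK Y A) (a : A) : κ • k • a = k • κ • a := κ.2 k a

noncomputable instance : SMul (KK Y A) (HomY Y A W) :=
  ⟨fun κ f => ⟨(f : A →+ W).comp (κ.1 : AddMonoid.End A), fun k a => by
    change (f : A →+ W) (κ • k • a) = k • (f : A →+ W) (κ • a)
    rw [KK.smul_smul_comm, f.2]⟩⟩

omit [Finite A] hI in
theorem HomY.smul_apply (κ : KK Y A) (f : HomY Y A W) (a : A) :
    ((κ • f : HomY Y A W) : A →+ W) a = (f : A →+ W) (κ • a) := rfl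

noncomputable instance : Module (KK Y A) (HomY Y A W) where
  one_smul f := by
    apply Subtype.ext
    ext a
    rw [HomY.smul_apply, one_smul]
  mul_smul κ l f := by
    apply Subtype.ext
    ext a
    rw [HomY.smul_apply, HomY.smul_apply, HomY.smul_apply, smul_smul, mul_comm]
  smul_zero κ := rfl
  smul_add κ f g := rfl
  add_smul κ l f := by
    apply Subtype.ext
    ext a
    rw [AddSubgroup.coe_add, AddMonoidHom.add_apply, HomY.smul_apply, HomY.smul_apply, HomY.smul_apply, add_smul,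
      map_add]
  zero_smul f := by
    apply Subtype.ext
    ext a
    rw [HomY.smul_apply, zero_smul, map_zero]
    rfl

omit [Finite A] in
theorem HomY.inj {f : HomY Y A W} (h0 : f ≠ 0) : Function.Injective (f : A →+ W) :=
  inj_of_ne f.2 fun h => h0 (Subtype.ext h)

omit [Finite A] in
theorem HomY.eq_zero {f : HomY Y A W} {a : A} (h : (f : A →+ W) a = 0) (ha : a ≠ 0) : f = 0 := by
  by_contra hf
  exact ha (HomY.inj hf (h.trans (map_zero _).symm))

/-- if `f A ∩ g A ≠ 0` then `g ∈ K f` -/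
theorem HomY.fact {f g : HomY Y A W} {a b : A} (hab : (f : A →+ W) a = (g : A →+ W) b) (ha : a ≠ 0) :
    ∃ κ : KK Y A, f = κ • g := by
  by_cases hg : g = 0
  · subst hg
    exact ⟨0, by rw [zero_smul]; exact HomY.eq_zero (hab.trans rfl) ha⟩
  have hgi := HomY.inj hg
  let N : AddSubgroup A := ((g : A →+ W).range).comap (f : A →+ W)
  have hN : N = ⊤ := by
    rcases hI.irr N (fun k n hn => by
      obtain ⟨c, hc⟩ := hn
      refine ⟨k • c, ?_⟩
      rw [g.2, hc, f.2]) with h | h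
    · exfalso
      apply ha
      have : a ∈ N := ⟨b, hab.symm⟩
      rw [h] at this
      exact this
    · exact h
  have h1 : ∀ x : A, ∃ c : A, (g : A →+ W) c = (f : A →+ W) x := fun x => by
    have : x ∈ N := by rw [hN]; trivial
    exact this
  choose c hc using h1
  have hadd : ∀ x y : A, c (x + y) = c x + c y := fun x y => hgi (by rw [hc, map_add, map_add, hc, hc])
  refine ⟨KK.mk Y A (AddMonoidHom.mk' c hadd) (fun k x => hgi ?_), ?_⟩
  · change (g : A →+ W) (c (k • x)) = (g : A →+ W) (k • c x)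
    rw [hc, f.2, g.2, hc]
  · apply Subtype.ext
    ext x
    exact (hc x).symm

/-- `A ⊗ Hom_Y(A, W) → W` is injective. -/
theorem HomY.ind {ι : Type*} {f : ι → HomY Y A W} (hf : LinearIndependent (KK Y A) f) (s : Finset ι) :
    ∀ a : ι → A, ∑ i ∈ s, (f i : A →+ W) (a i) = 0 → ∀ i ∈ s, a i = 0 := by
  classical
  induction s using Finset.induction_on with
  | empty => intro a _ i hi; simp at hi
  | insert j s hj ih =>
    intro a h
    rw [Finset.sum_insert hj] at h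
    by_cases h0 : a j = 0
    · rw [h0, map_zero, zero_add] at h
      intro i hi
      rcases Finset.mem_insert.1 hi with rfl | hi
      · exact h0
      · exact ih a h i hi
    exfalso
    let N : AddSubgroup A :=
      { carrier := {x | ∃ b : ι → A, (f j : A →+ W) x = ∑ i ∈ s, (f i : A →+ W) (b i)}
        zero_mem' := ⟨0, by simp⟩
        add_mem' := by
          rintro x y ⟨b, hb⟩ ⟨c, hc⟩
          refine ⟨b + c, ?_⟩
          rw [map_add, hb, hc, ← Finset.sum_add_distrib]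
          exact Finset.sum_congr rfl fun i _ => by rw [Pi.add_apply, map_add]
        neg_mem' := by
          rintro x ⟨b, hb⟩
          refine ⟨-b, ?_⟩
          rw [map_neg, hb, ← Finset.sum_neg_distrib]
          exact Finset.sum_congr rfl fun i _ => by rw [Pi.neg_apply, map_neg] }
    have hN : N = ⊤ := by
      rcases hI.irr N (by
        rintro k x ⟨b, hb⟩
        refine ⟨fun i => k • b i, ?_⟩
        rw [(f j).2, hb, Finset.smul_sum]
        exact Finset.sum_congr rfl fun i _ => ((f i).2 k (b i)).symm) with h1 | h1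
      · exfalso
        apply h0
        have : a j ∈ N := by
          refine ⟨-a, ?_⟩
          rw [eq_neg_of_add_eq_zero_left h, ← Finset.sum_neg_distrib]
          exact Finset.sum_congr rfl fun i _ => by rw [Pi.neg_apply, map_neg]
        rw [h1] at this
        exact this
      · exact h1
    have h1 : ∀ x : A, ∃ b : ι → A, (f j : A →+ W) x = ∑ i ∈ s, (f i : A →+ W) (b i) := fun x => by
      have : x ∈ N := by rw [hN]; trivial
      exact this
    choose b hb using h1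
    have huniq : ∀ c c' : ι → A, ∑ i ∈ s, (f i : A →+ W) (c i) = ∑ i ∈ s, (f i : A →+ W) (c' i) →
        ∀ i ∈ s, c i = c' i := by
      intro c c' hcc i hi
      have h2 := ih (c - c') (by
        have e : ∑ i ∈ s, (f i : A →+ W) ((c - c') i) =
            ∑ i ∈ s, (f i : A →+ W) (c i) - ∑ i ∈ s, (f i : A →+ W) (c' i) := by
          rw [← Finset.sum_sub_distrib]
          exact Finset.sum_congr rfl fun i _ => by rw [Pi.sub_apply, map_sub]
        rw [e, hcc, sub_self]) i hi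
      exact sub_eq_zero.1 h2
    have hadd : ∀ x y : A, ∀ i ∈ s, b (x + y) i = b x i + b y i := by
      intro x y
      refine huniq (b (x + y)) (fun i => b x i + b y i) ?_
      rw [← hb, map_add, hb, hb, ← Finset.sum_add_distrib]
      exact Finset.sum_congr rfl fun i _ => by rw [map_add]
    have hsm : ∀ (k : Y) (x : A), ∀ i ∈ s, b (k • x) i = k • b x i := by
      intro k x
      refine huniq (b (k • x)) (fun i => k • b x i) ?_
      rw [← hb, (f j).2, hb, Finset.smul_sum]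
      exact Finset.sum_congr rfl fun i _ => ((f i).2 k _).symm
    let κ : ι → KK Y A := fun i =>
      if hi : i ∈ s then KK.mk Y A (AddMonoidHom.mk' (fun x => b x i) fun x y => hadd x y i hi)
        fun k x => hsm k x i hi else 0
    have hκ : ∀ i ∈ s, ∀ x : A, κ i • x = b x i := by
      intro i hi x
      simp only [κ, dif_pos hi]
      rfl
    have hj' : f j = ∑ i ∈ s, κ i • f i := by
      apply Subtype.ext
      ext x
      rw [hb, AddSubgroup.val_finsetSum, AddMonoidHom.finsetSum_apply]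
      exact Finset.sum_congr rfl fun i hi => by rw [HomY.smul_apply, hκ i hi]
    rw [linearIndependent_iff'] at hf
    have h3 := hf (insert j s) (fun i => if i = j then 1 else - κ i) (by
      rw [Finset.sum_insert hj, if_pos rfl, one_smul]
      have e : ∑ i ∈ s, (if i = j then (1 : KK Y A) else - κ i) • f i = - ∑ i ∈ s, κ i • f i := by
        rw [← Finset.sum_neg_distrib]
        refine Finset.sum_congr rfl fun i hi => ?_
        rw [if_neg (by rintro rfl; exact hj hi), neg_smul]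
      rw [e, ← hj', add_neg_cancel]) j (Finset.mem_insert_self _ _)
    rw [if_pos rfl] at h3
    exact one_ne_zero h3

instance [Finite W] : Finite (HomY Y A W) :=
  Finite.of_injective (fun f => ((f : A →+ W) : A → W)) fun _ _ h => Subtype.ext (DFunLike.coe_injective h)

end module

end Cfsg.Agent.Omega.NO3b.Exit.Ten

end

section


/-!
# The second half of LOC (#18653, helper776), part 4: `V₀ = A ⊗_K E`, abstract form

`Y` acts on the finite additive groups `A` (irreducible), `U ≥ C ≥ V ≥ F`; `β : A → Hom(U, V)`, `β a u = [u, a]`,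
is additive and `β (k a) u = k β a u`, trivial on `C`; `A₀ ≤ A`; `Q ≤ Y` centralises `F`, `A₀`, `A / A₀`;
`[a, Q] = A₀`, `V = β(a, U) + F` and `β a u ∈ F ⇒ u ∈ C` for `a ∉ A₀` (`structure Mdl`).  `K = KK Y A = End_Y(A)`
(a finite field), `E = HomY Y A U = Hom_Y(A, U)` (a `K`-space).

* `Mdl.val_inj` : `f a ∈ F`, `a ∉ A₀` implies `f = 0`; `Mdl.psi : U →+ E`; `psi_surj`, `psi_eq_zero` : `U / C = E`;
* `Mdl.smul_mem` : `A₀` is a `K`-subspace; `Mdl.line` : `A = K a + A₀` for `a ∉ A₀`;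
* `Mdl.trans` : every `K`-transvection with axis `A₀` is induced by `Q`; `Mdl.axis`, `Mdl.trans'` : every
  transvection of `A` is induced by a conjugate of an element of `Q`;
* `Mdl.act` : **(8)** an automorphism of `U` normalising `Y`, trivial on `F`, acts on `V₀ = A ⊗ E` as `g ⊗ 1`, where
  `g` is `K`-linear and trivial on `A₀`.
-/

set_option autoImplicit false

namespace Cfsg.Agent.Omega.NO3b.Exit.Ten

universe u v w

/-- The abstract situation. -/
structure Mdl {Y : Type u} {A : Type v} {U : Type w} [Group Y] [AddCommGroup A] [DistribMulAction Y A]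
    [AddCommGroup U] [DistribMulAction Y U] (V F C : AddSubgroup U) (A₀ : AddSubgroup A) (Q : Subgroup Y)
    (β : A →+ U →+ U) : Prop where
  eq : ∀ (k : Y) (a : A) (u : U), β (k • a) u = k • β a u
  mem : ∀ a u, β a u ∈ V
  inF : ∀ a ∈ A₀, ∀ u, β a u ∈ F
  bC : ∀ a, ∀ c ∈ C, β a c = 0
  faith : ∀ a, (∀ u, β a u = 0) → a = 0
  FV : F ≤ V
  VC : V ≤ C
  inC : ∀ a ∉ A₀, ∀ u, β a u ∈ F → u ∈ C
  span : ∀ a ∉ A₀, ∀ v ∈ V, ∃ u, v - β a u ∈ F
  yV : ∀ (k : Y) (u : U), k • u - u ∈ V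
  qA : ∀ d ∈ Q, ∀ a ∈ A₀, d • a = a
  qF : ∀ d ∈ Q, ∀ f ∈ F, d • f = f
  qU : ∀ d ∈ Q, ∀ u : U, d • u - u ∈ F
  com : ∀ d ∈ Q, ∀ a, d • a - a ∈ A₀
  surj : ∀ a ∉ A₀, ∀ s ∈ A₀, ∃ d ∈ Q, d • a - a = s
  ne : ∃ s ∈ A₀, s ≠ 0
  nt : ∃ a, a ∉ A₀

namespace Mdl

variable {Y : Type u} {A : Type v} {U : Type w} [Group Y] [AddCommGroup A] [DistribMulAction Y A]
  [AddCommGroup U] [DistribMulAction Y U] {V F C : AddSubgroup U} {A₀ : AddSubgroup A} {Q : Subgroup Y}
  {β : A →+ U →+ U}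

/-- `ψ : U → E = Hom_Y(A, U)` -/
def psi (D : Mdl V F C A₀ Q β) : U →+ HomY Y A U where
  toFun u := ⟨AddMonoidHom.mk' (fun a => β a u) fun a b => by rw [map_add, AddMonoidHom.add_apply], fun k a => D.eq k a u⟩
  map_zero' := by
    apply Subtype.ext; ext a
    exact map_zero (β a)
  map_add' u v := by
    apply Subtype.ext; ext a
    exact map_add (β a) u v

variable (D : Mdl V F C A₀ Q β)

theorem psi_apply (u : U) (a : A) : (D.psi u : A →+ U) a = β a u := rfl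

include D

/-- `f a ∈ F`, `a ∉ A₀` implies `f = 0`. -/
theorem val_inj [IsIrr Y A] {f : HomY Y A U} {a : A} (ha : a ∉ A₀) (hf : (f : A →+ U) a ∈ F) : f = 0 := by
  obtain ⟨s, hs, hs0⟩ := D.ne
  obtain ⟨d, hd, rfl⟩ := D.surj a ha s hs
  refine HomY.eq_zero (a := d • a - a) ?_ hs0
  rw [map_sub, f.2, D.qF d hd _ hf, sub_self]

/-- the values of `f ∈ E` lie in `V` -/
theorem val_mem [hI : IsIrr Y A] (f : HomY Y A U) (a : A) : (f : A →+ U) a ∈ V := by
  let N : AddSubgroup A := AddSubgroup.closure {x | ∃ (k : Y) (b : A), x = k • b - b}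
  have hN : N = ⊤ := by
    rcases hI.irr N (fun k n hn => by
      have e : k • n = (k • n - n) + n := by abel
      rw [e]
      exact N.add_mem (AddSubgroup.subset_closure ⟨k, n, rfl⟩) hn) with h | h
    · exfalso
      obtain ⟨s, hs, hs0⟩ := D.ne
      obtain ⟨b, hb⟩ := D.nt
      obtain ⟨d, hd, rfl⟩ := D.surj b hb s hs
      apply hs0
      have : d • b - b ∈ N := AddSubgroup.subset_closure ⟨d, b, rfl⟩
      rw [h] at this
      exact this
    · exact h
  have h1 : a ∈ N := by rw [hN]; trivial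
  induction h1 using AddSubgroup.closure_induction with
  | mem x hx =>
    obtain ⟨k, b, rfl⟩ := hx
    rw [map_sub, f.2]
    exact D.yV k _
  | zero => rw [map_zero]; exact zero_mem _
  | add x y _ _ hx hy => rw [map_add]; exact V.add_mem hx hy
  | neg x _ hx => rw [map_neg]; exact V.neg_mem hx

/-- `U / C = E` -/
theorem psi_surj [IsIrr Y A] (f : HomY Y A U) : ∃ u, D.psi u = f := by
  obtain ⟨a, ha⟩ := D.nt
  obtain ⟨u, hu⟩ := D.span a ha _ (D.val_mem f a)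
  refine ⟨u, ?_⟩
  have h1 : f - D.psi u = 0 := D.val_inj ha (by
    rw [AddSubgroup.coe_sub, AddMonoidHom.sub_apply, psi_apply]
    exact hu)
  exact (sub_eq_zero.1 h1).symm

/-- `E → V / F`, `f ↦ f a`, is bijective. -/
theorem val_surj [IsIrr Y A] {a : A} (ha : a ∉ A₀) {v : U} (hv : v ∈ V) :
    ∃ f : HomY Y A U, v - (f : A →+ U) a ∈ F := by
  obtain ⟨u, hu⟩ := D.span a ha v hv
  exact ⟨D.psi u, hu⟩

theorem exists_ne : ∃ f : HomY Y A U, f ≠ 0 := by
  obtain ⟨s, -, hs0⟩ := D.ne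
  by_contra hcon
  push Not at hcon
  apply hs0
  refine D.faith s fun u => ?_
  rw [← D.psi_apply, hcon (D.psi u)]
  rfl

variable [Finite A] [hI : IsIrr Y A]

/-- `A₀` is a `K`-subspace -/
theorem smul_mem (κ : KK Y A) {s : A} (hs : s ∈ A₀) : κ • s ∈ A₀ := by
  by_contra hcon
  obtain ⟨t, ht, ht0⟩ := D.ne
  obtain ⟨d, hd, rfl⟩ := D.surj _ hcon t ht
  apply ht0
  rw [smul_comm, ← smul_sub, D.qA d hd s hs, sub_self, smul_zero]

/-- `A₀` as a `K`-subspace -/
def sub : Submodule (KK Y A) A where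
  carrier := A₀
  zero_mem' := zero_mem _
  add_mem' := fun ha hb => A₀.add_mem ha hb
  smul_mem' := fun κ _ hs => D.smul_mem κ hs

theorem mem_sub {a : A} : a ∈ D.sub ↔ a ∈ A₀ := Iff.rfl

/-- `A = K a + A₀` -/
theorem line {a b : A} (ha : a ∉ A₀) : ∃ κ : KK Y A, b - κ • a ∈ A₀ := by
  by_cases hb : b ∈ A₀
  · exact ⟨0, by rwa [zero_smul, sub_zero]⟩
  obtain ⟨f, hf⟩ := D.exists_ne
  obtain ⟨g, hg⟩ := D.val_surj ha (D.val_mem f b)
  obtain ⟨s, hs, hs0⟩ := D.ne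
  obtain ⟨d, hd, rfl⟩ := D.surj b hb s hs
  have h1 : (f : A →+ U) (d • b - b) = (g : A →+ U) (d • a - a) := by
    rw [map_sub, map_sub, f.2, g.2]
    have h2 := D.qF d hd _ hg
    rw [smul_sub] at h2
    rw [sub_eq_sub_iff_sub_eq_sub, h2]
  obtain ⟨κ, hκ⟩ := HomY.fact h1 hs0
  have hκ0 : κ ≠ 0 := by
    rintro rfl
    rw [zero_smul] at hκ
    exact hf hκ
  refine ⟨κ⁻¹, ?_⟩
  by_contra hcon
  apply hf
  refine D.val_inj hcon ?_
  have h3 : (f : A →+ U) (κ⁻¹ • a) = (g : A →+ U) a := by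
    rw [hκ, HomY.smul_apply, smul_smul, mul_inv_cancel₀ hκ0, one_smul]
  rw [map_sub, h3]
  exact hg

/-- every transvection with axis `A₀` is induced by `Q`. -/
theorem trans (φ : A →ₗ[KK Y A] A) (h1 : ∀ a, φ a ∈ A₀) (h2 : ∀ s ∈ A₀, φ s = 0) :
    ∃ d ∈ Q, ∀ a, d • a = a + φ a := by
  obtain ⟨a, ha⟩ := D.nt
  obtain ⟨d, hd, hda⟩ := D.surj a ha _ (h1 a)
  refine ⟨d, hd, fun b => ?_⟩
  obtain ⟨κ, hκ⟩ := D.line (b := b) ha
  have e : b = κ • a + (b - κ • a) := by abel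
  have h3 := D.qA d hd _ hκ
  have h4 : d • (κ • a) = κ • a + κ • φ a := by
    rw [smul_comm, ← hda, ← smul_add]
    congr 1
    abel
  have h5 : φ b = κ • φ a := by
    conv_lhs => rw [e]
    rw [map_add, map_smul, h2 _ hκ, add_zero]
  conv_lhs => rw [e]
  rw [smul_add, h3, h4, h5]
  abel

/-- `Q` acts on `A` as a group of transvections with axis `A₀`. -/
theorem exists_trans {d : Y} (hd : d ∈ Q) : ∃ φ : A →ₗ[KK Y A] A, (∀ a, φ a ∈ A₀) ∧ (∀ s ∈ A₀, φ s = 0) ∧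
    ∀ a, d • a = a + φ a := by
  refine ⟨{ toFun := fun a => d • a - a, map_add' := fun a b => by rw [smul_add]; abel,
            map_smul' := fun κ a => by rw [RingHom.id_apply, smul_comm, ← smul_sub] }, ?_, ?_, ?_⟩
  · exact fun a => D.com d hd a
  · intro s hs
    change d • s - s = 0
    rw [D.qA d hd s hs, sub_self]
  · intro a
    change d • a = a + (d • a - a)
    abel

/-- **(8)** -/
theorem act [Finite U] (μ : U →+ U) (hμ : Function.Injective μ) (h1 : ∀ k : Y, ∃ k' : Y, ∀ u, μ (k • u) = k' • μ u)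
    (h2 : ∀ k' : Y, ∃ k : Y, ∀ u, μ (k • u) = k' • μ u) (hF : ∀ f ∈ F, μ f = f) :
    ∃ g : A →ₗ[KK Y A] A, Function.Injective g ∧ (∀ s ∈ A₀, g s = s) ∧
      ∀ (f : HomY Y A U) (a : A), μ ((f : A →+ U) a) = (f : A →+ U) (g a) := by
  classical
  obtain ⟨s₀, hs₀, hs0⟩ := D.ne
  have hfF : ∀ (f : HomY Y A U) {s : A}, s ∈ A₀ → (f : A →+ U) s ∈ F := by
    intro f s hs
    obtain ⟨u, rfl⟩ := D.psi_surj f
    exact D.inF s hs u
  -- `μ f A ≤ f A`
  have h3 : ∀ (f : HomY Y A U) (a : A), ∃ b : A, μ ((f : A →+ U) a) = (f : A →+ U) b := by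
    intro f
    let N : AddSubgroup A := ((f : A →+ U).range).comap (μ.comp (f : A →+ U))
    have hN : N = ⊤ := by
      rcases hI.irr N (fun k n hn => by
        obtain ⟨b, hb⟩ := hn
        obtain ⟨k', hk'⟩ := h1 k
        refine ⟨k' • b, ?_⟩
        rw [f.2, hb, AddMonoidHom.comp_apply, AddMonoidHom.comp_apply, f.2, hk']) with h | h
      · exfalso
        apply hs0
        have : s₀ ∈ N := ⟨s₀, (hF _ (hfF f hs₀)).symm⟩
        rw [h] at this
        exact this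
      · exact h
    intro a
    have : a ∈ N := by rw [hN]; trivial
    obtain ⟨b, hb⟩ := this
    exact ⟨b, hb.symm⟩
  choose G hG using h3
  have hGadd : ∀ (f : HomY Y A U), f ≠ 0 → ∀ a b, G f (a + b) = G f a + G f b := fun f hf a b =>
    HomY.inj hf (by rw [← hG, map_add, map_add, map_add, ← hG, ← hG])
  have hGA : ∀ (f : HomY Y A U), f ≠ 0 → ∀ s ∈ A₀, G f s = s := fun f hf s hs =>
    HomY.inj hf (by rw [← hG, hF _ (hfF f hs)])
  -- commutation with `K`
  have hGK : ∀ (f : HomY Y A U), f ≠ 0 → ∀ (κ : KK Y A) a, G f (κ • a) = κ • G f a := by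
    intro f hf κ
    let g : A →+ A := AddMonoidHom.mk' (G f) (hGadd f hf)
    have hgi : Function.Injective g := by
      intro a b hab
      have hab' : G f a = G f b := hab
      exact HomY.inj hf (hμ (by rw [hG, hG, hab']))
    have hgb : Function.Bijective g := ⟨hgi, Finite.injective_iff_surjective.1 hgi⟩
    obtain ⟨r, hr⟩ := hgb.2.hasRightInverse
    have hr' : ∀ a, r (g a) = a := fun a => hgi (hr _)
    have hradd : ∀ a b, r (a + b) = r a + r b := fun a b => hgi (by rw [hr, map_add, hr, hr])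
    have hgk : ∀ k : Y, ∃ k₁ : Y, ∀ a, g (k₁ • a) = k • g a := by
      intro k
      obtain ⟨k₁, hk₁⟩ := h2 k
      refine ⟨k₁, fun a => HomY.inj hf ?_⟩
      change (f : A →+ U) (G f (k₁ • a)) = (f : A →+ U) (k • G f a)
      rw [← hG, f.2, f.2, hk₁, hG]
    have hrk : ∀ k : Y, ∃ k₁ : Y, (∀ a, g (k₁ • a) = k • g a) ∧ ∀ a, r (k • a) = k₁ • r a := by
      intro k
      obtain ⟨k₁, hk₁⟩ := hgk k
      exact ⟨k₁, hk₁, fun a => hgi (by rw [hr, hk₁, hr])⟩
    let κ' : KK Y A := KK.mk Y A (AddMonoidHom.mk' (fun a => g (κ • r a)) fun a b => by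
      rw [hradd, smul_add, map_add]) fun k a => by
        obtain ⟨k₁, hk₁, hk₁'⟩ := hrk k
        change g (κ • r (k • a)) = k • g (κ • r a)
        rw [hk₁', KK.smul_smul_comm, hk₁]
    have hκ' : ∀ a, κ' • a = g (κ • r a) := fun a => rfl
    have hrs : r s₀ = s₀ := hgi (by rw [hr]; exact (hGA f hf s₀ hs₀).symm)
    have h5 : κ' • s₀ = κ • s₀ := by
      rw [hκ', hrs]
      exact hGA f hf _ (D.smul_mem κ hs₀)
    have h6 : κ' = κ := by
      by_contra hne
      apply hs0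
      have h7 : (κ' - κ) • s₀ = 0 := by rw [sub_smul, h5, sub_self]
      have h8 : (κ' - κ) ≠ 0 := sub_ne_zero.2 hne
      rw [← one_smul (KK Y A) s₀, ← inv_mul_cancel₀ h8, mul_smul, h7, smul_zero]
    intro a
    have h9 := hκ' (g a)
    rw [h6, hr'] at h9
    exact h9.symm
  -- all `G f` are equal
  obtain ⟨f₀, hf₀⟩ := D.exists_ne
  have hall : ∀ f : HomY Y A U, f ≠ 0 → ∀ a, G f a = G f₀ a := by
    intro f hf a
    by_cases hdep : ∃ κ : KK Y A, f = κ • f₀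
    · obtain ⟨κ, hκ⟩ := hdep
      apply HomY.inj hf
      rw [← hG, hκ, HomY.smul_apply, HomY.smul_apply, hG, hGK f₀ hf₀]
    · have hli : LinearIndependent (KK Y A) ![f, f₀] := by
        rw [LinearIndependent.pair_iff]
        intro x y hxy
        have hx : x = 0 := by
          by_contra hx
          apply hdep
          refine ⟨-(x⁻¹ * y), ?_⟩
          rw [neg_smul, mul_smul, eq_neg_of_add_eq_zero_right hxy, smul_neg, neg_neg, smul_smul,
            inv_mul_cancel₀ hx, one_smul]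
        refine ⟨hx, ?_⟩
        by_contra hy
        rw [hx, zero_smul, zero_add] at hxy
        apply hf₀
        rw [← one_smul (KK Y A) f₀, ← inv_mul_cancel₀ hy, mul_smul, hxy, smul_zero]
      have hsum : f + f₀ ≠ 0 := by
        intro h0
        apply hdep
        exact ⟨-1, by rw [neg_smul, one_smul]; exact eq_neg_of_add_eq_zero_left h0⟩
      have h4 := HomY.ind hli Finset.univ ![G (f + f₀) a - G f a, G (f + f₀) a - G f₀ a] (by
        rw [Fin.sum_univ_two]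
        simp only [Matrix.cons_val_zero, Matrix.cons_val_one]
        have h5 := hG (f + f₀) a
        rw [AddSubgroup.coe_add, AddMonoidHom.add_apply, map_add, hG, hG, AddMonoidHom.add_apply] at h5
        rw [map_sub, map_sub]
        rw [sub_add_sub_comm, ← h5, sub_self])
      have h6 := h4 0 (Finset.mem_univ _)
      have h7 := h4 1 (Finset.mem_univ _)
      simp only [Matrix.cons_val_zero, Matrix.cons_val_one] at h6 h7
      rw [← sub_eq_zero.1 h6, sub_eq_zero.1 h7]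
  refine ⟨{ toFun := G f₀, map_add' := hGadd f₀ hf₀, map_smul' := fun κ a => hGK f₀ hf₀ κ a }, ?_, ?_, ?_⟩
  · intro a b hab
    have hab' : G f₀ a = G f₀ b := hab
    exact HomY.inj hf₀ (hμ (by rw [hG, hG, hab']))
  · exact fun s hs => hGA f₀ hf₀ s hs
  · intro f a
    change μ ((f : A →+ U) a) = (f : A →+ U) (G f₀ a)
    by_cases hf : f = 0
    · rw [hf]
      change μ 0 = 0
      exact map_zero μ
    · rw [hG, hall f hf]

/-- `A / A₀ = K`: the functional with kernel `A₀` -/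
theorem exists_dual : ∃ φ : Module.Dual (KK Y A) A, φ ≠ 0 ∧ ∀ a, φ a = 0 ↔ a ∈ A₀ := by
  obtain ⟨a, ha⟩ := D.nt
  have huniq : ∀ κ κ' : KK Y A, ∀ b, b - κ • a ∈ A₀ → b - κ' • a ∈ A₀ → κ = κ' := by
    intro κ κ' b h1 h2
    by_contra hne
    have h3 : κ - κ' ≠ 0 := sub_ne_zero.2 hne
    apply ha
    have h4 : (κ - κ') • a ∈ A₀ := by
      have e : (κ - κ') • a = (b - κ' • a) - (b - κ • a) := by rw [sub_smul]; abel
      rw [e]
      exact A₀.sub_mem h2 h1
    have h5 := D.smul_mem (κ - κ')⁻¹ h4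
    rwa [smul_smul, inv_mul_cancel₀ h3, one_smul] at h5
  have h1 : ∀ b, ∃ κ : KK Y A, b - κ • a ∈ A₀ := fun b => D.line ha
  choose c hc using h1
  let φ : Module.Dual (KK Y A) A :=
    { toFun := c
      map_add' := fun x y => huniq _ _ (x + y) (hc _) (by
        have e : x + y - (c x + c y) • a = (x - c x • a) + (y - c y • a) := by rw [add_smul]; abel
        rw [e]
        exact A₀.add_mem (hc x) (hc y))
      map_smul' := fun κ x => huniq _ _ (κ • x) (hc _) (by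
        rw [RingHom.id_apply, smul_eq_mul, mul_smul, ← smul_sub]
        exact D.smul_mem κ (hc x)) }
  have hφ : ∀ x, φ x = c x := fun _ => rfl
  refine ⟨φ, ?_, ?_⟩
  · intro h
    have h2 := hc a
    rw [← hφ, h, LinearMap.zero_apply, zero_smul, sub_zero] at h2
    exact ha h2
  · intro x
    rw [hφ]
    constructor
    · intro h
      have h2 := hc x
      rwa [h, zero_smul, sub_zero] at h2
    · intro h
      exact huniq _ _ x (hc x) (by rwa [zero_smul, sub_zero])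

/-- a transvection whose axis is a conjugate of `A₀` -/
theorem trans_of {k : Y} {φ : Module.Dual (KK Y A) A} (h1 : ∀ a, φ a = 0 ↔ k⁻¹ • a ∈ A₀) {a : A} (ha : φ a = 0) :
    ∃ d ∈ Q, ∀ x, (k * d * k⁻¹) • x = x + φ x • a := by
  let χ : A →ₗ[KK Y A] A :=
    { toFun := fun x => φ (k • x) • (k⁻¹ • a)
      map_add' := fun x y => by rw [smul_add, map_add, add_smul]
      map_smul' := fun κ x => by
        rw [RingHom.id_apply, smul_comm k κ x, map_smul, smul_eq_mul, mul_smul] }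
  have hχ : ∀ x, χ x = φ (k • x) • (k⁻¹ • a) := fun _ => rfl
  obtain ⟨d, hd, hd'⟩ := D.trans χ (fun x => by
    rw [hχ]
    exact D.smul_mem _ ((h1 a).1 ha)) (fun s hs => by
    rw [hχ, (h1 (k • s)).2 (by rwa [inv_smul_smul]), zero_smul])
  refine ⟨d, hd, fun x => ?_⟩
  rw [mul_smul, mul_smul, hd', hχ, smul_add, smul_inv_smul, smul_comm k (φ x) (k⁻¹ • a), smul_inv_smul]

/-- every hyperplane is a conjugate of `A₀` -/
theorem axis {φ : Module.Dual (KK Y A) A} (hφ : φ ≠ 0) : ∃ k : Y, ∀ a, φ a = 0 ↔ k⁻¹ • a ∈ A₀ := by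
  classical
  have hadd : ∀ φ χ : Module.Dual (KK Y A) A, (∃ k : Y, ∀ a, φ a = 0 ↔ k⁻¹ • a ∈ A₀) →
      (∃ k : Y, ∀ a, χ a = 0 ↔ k⁻¹ • a ∈ A₀) → (∃ a, φ a = 0 ∧ χ a ≠ 0) →
      ∃ k : Y, ∀ a, (φ + χ) a = 0 ↔ k⁻¹ • a ∈ A₀ := by
    rintro φ χ ⟨k, hk⟩ ⟨l, hl⟩ ⟨a, ha, ha'⟩
    obtain ⟨d, -, hd⟩ := D.trans_of hk (a := (χ a)⁻¹ • a) (by rw [map_smul, ha, smul_zero])
    refine ⟨(k * d * k⁻¹)⁻¹ * l, fun x => ?_⟩
    have h1 : χ ((k * d * k⁻¹) • x) = (φ + χ) x := by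
      rw [hd, map_add, map_smul, map_smul, smul_eq_mul, smul_eq_mul, inv_mul_cancel₀ ha', mul_one, add_comm]
      rfl
    rw [← h1, hl, mul_inv_rev, inv_inv, mul_smul l⁻¹]
  obtain ⟨φ₀, hφ₀, hφ₀'⟩ := D.exists_dual
  let Λ : Submodule (KK Y A) (Module.Dual (KK Y A) A) :=
    { carrier := {φ | φ = 0 ∨ ∃ k : Y, ∀ a, φ a = 0 ↔ k⁻¹ • a ∈ A₀}
      zero_mem' := Or.inl rfl
      smul_mem' := by
        rintro κ φ (rfl | ⟨k, hk⟩)
        · left; exact smul_zero κ
        · by_cases hκ : κ = 0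
          · left; rw [hκ]; exact zero_smul (KK Y A) φ
          · right
            refine ⟨k, fun a => ?_⟩
            rw [LinearMap.smul_apply, smul_eq_mul, mul_eq_zero, or_iff_right hκ, hk]
      add_mem' := by
        rintro φ χ (rfl | h1) (rfl | h2)
        · left; exact add_zero 0
        · right; rw [zero_add]; exact h2
        · right; rw [add_zero]; exact h1
        · by_cases hx : ∃ a, φ a = 0 ∧ χ a ≠ 0
          · right; exact hadd φ χ h1 h2 hx
          · push Not at hx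
            by_cases hs : φ + χ = 0
            · left; exact hs
            · right
              obtain ⟨k, hk⟩ := h1
              refine ⟨k, fun a => ?_⟩
              rw [← hk]
              constructor
              · intro ha
                by_contra hne
                apply hs
                -- `x - (φ a)⁻¹ φ x • a ∈ ker φ ≤ ker (φ + χ)`
                ext x
                have h3 : φ (x - (φ x * (φ a)⁻¹) • a) = 0 := by
                  rw [map_sub, map_smul, smul_eq_mul, mul_assoc, inv_mul_cancel₀ hne, mul_one, sub_self]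
                have h4 : (φ + χ) (x - (φ x * (φ a)⁻¹) • a) = 0 := by
                  rw [LinearMap.add_apply, h3, hx _ h3, add_zero]
                rw [map_sub, map_smul, ha, smul_zero, sub_zero] at h4
                rw [h4]; rfl
              · intro ha
                rw [LinearMap.add_apply, ha, hx _ ha, add_zero] }
  have hΛ : Λ.dualCoannihilator = ⊥ := by
    let N : AddSubgroup A :=
      { carrier := {a | ∀ φ ∈ Λ, φ a = 0}
        zero_mem' := fun φ _ => map_zero φ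
        add_mem' := fun {a b} ha hb φ hφ => by rw [map_add, ha φ hφ, hb φ hφ, add_zero]
        neg_mem' := fun {a} ha φ hφ => by rw [map_neg, ha φ hφ, neg_zero] }
    have hN : N = ⊥ := by
      rcases hI.irr N (by
        intro k n hn φ hφ
        let φ' : Module.Dual (KK Y A) A :=
          { toFun := fun x => φ (k • x)
            map_add' := fun x y => by rw [smul_add, map_add]
            map_smul' := fun κ x => by rw [RingHom.id_apply, smul_comm k κ x, map_smul] }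
        have h1 : φ' ∈ Λ := by
          rcases hφ with rfl | ⟨l, hl⟩
          · left; rfl
          · right
            refine ⟨k⁻¹ * l, fun a => ?_⟩
            change φ (k • a) = 0 ↔ _
            rw [hl, mul_inv_rev, inv_inv, mul_smul]
        exact hn φ' h1) with h | h
      · exact h
      · exfalso
        apply hφ₀
        ext x
        have h1 : x ∈ N := by rw [h]; trivial
        exact h1 φ₀ (Or.inr ⟨1, fun a => by rw [inv_one, one_smul, hφ₀']⟩)
    rw [eq_bot_iff]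
    intro a ha
    rw [Submodule.mem_dualCoannihilator] at ha
    have h1 : a ∈ N := ha
    rw [hN] at h1
    exact h1
  have hfin : Module.Finite (KK Y A) A := Module.Finite.of_finite
  have hT : Λ = ⊤ := by
    rw [← Subspace.dualCoannihilator_dualAnnihilator_eq (W := Λ), hΛ, Submodule.dualAnnihilator_bot]
  have h1 : φ ∈ Λ := by rw [hT]; trivial
  exact h1.resolve_left hφ

/-- every transvection is induced by a conjugate of an element of `Q` -/
theorem trans' (φ : Module.Dual (KK Y A) A) {a : A} (ha : φ a = 0) :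
    ∃ k : Y, ∃ d ∈ Q, ∀ x, (k * d * k⁻¹) • x = x + φ x • a := by
  by_cases hφ : φ = 0
  · exact ⟨1, 1, one_mem _, fun x => by rw [hφ, LinearMap.zero_apply, zero_smul, add_zero]; simp⟩
  · obtain ⟨k, hk⟩ := D.axis hφ
    obtain ⟨d, hd, h⟩ := D.trans_of hk ha
    exact ⟨k, d, hd, h⟩

omit [Finite A] in
/-- `V = f(a) + F` -/
theorem V_span {v : U} (hv : v ∈ V) : ∃ (a : A) (f : HomY Y A U), v - (f : A →+ U) a ∈ F := by
  obtain ⟨a, ha⟩ := D.nt
  obtain ⟨f, hf⟩ := D.val_surj ha hv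
  exact ⟨a, f, hf⟩

end Mdl

end Cfsg.Agent.Omega.NO3b.Exit.Ten

end

section


/-!
# LEMMA DESCENT (helper255, bb 20076): `V₀ = U₁^k`, equivariantly

A group `H` acts on a finite additive group `V` of exponent 2, `X ≤ H` is normalised by the 2-group `S`,
`Z = C_V(S)`, `V = ⟨Z^X⟩`, and all `z ∈ Z#` have the same annihilator in the ring `ring X` generated by `X` in
`End V`.

* `orb X z` : the `X`-submodule generated by `z`;
* `Dat.irr` : `orb X z` is an irreducible `⟨X, S⟩`-module;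
* `Dat.exists_iso` : for `z, z' ∈ Z#` there is an `X`- and `S`-equivariant isomorphism `orb X z ≃ orb X z'` which maps
  `z` to `z'`;
* `Dat.exists_fam` : `V` is the direct sum of `orb X z`, `z ∈ F ⊆ Z#`;
* `Dat.exists_pow` : `V = U₁^k`, `X`- and `S`-equivariantly.
-/

set_option autoImplicit false

namespace Cfsg.Agent.Omega.NO3b.Exit.Descent

open Subgroup

universe u v

section base

variable {H : Type u} {V : Type v} [Group H] [AddCommGroup V] [DistribMulAction H V]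

/-- `v ↦ x v` -/
def op (V : Type v) [AddCommGroup V] [DistribMulAction H V] (x : H) : AddMonoid.End V :=
  DistribMulAction.toAddMonoidEnd H V x

theorem op_mul (x y : H) : op V (x * y) = op V x * op V y := map_mul _ x y

theorem op_one : op V (1 : H) = 1 := map_one _

/-- the ring generated by `X` in `End V` -/
def ring (V : Type v) [AddCommGroup V] [DistribMulAction H V] (X : Subgroup H) :
    AddSubgroup (AddMonoid.End V) :=
  AddSubgroup.closure {a | ∃ x ∈ X, a = op V x}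

theorem op_mem {X : Subgroup H} {x : H} (hx : x ∈ X) : op V x ∈ ring V X :=
  AddSubgroup.subset_closure ⟨x, hx, rfl⟩

theorem one_mem' (X : Subgroup H) : (1 : AddMonoid.End V) ∈ ring V X := by
  rw [← op_one (H := H)]; exact op_mem X.one_mem

theorem op_mul_mem {X : Subgroup H} {x : H} (hx : x ∈ X) {a : AddMonoid.End V} (ha : a ∈ ring V X) :
    op V x * a ∈ ring V X := by
  have h : ring V X ≤ (ring V X).comap (AddMonoidHom.mulLeft (op V x)) := by
    refine (AddSubgroup.closure_le _).2 ?_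
    rintro _ ⟨y, hy, rfl⟩
    change op V x * op V y ∈ ring V X
    rw [← op_mul]
    exact op_mem (X.mul_mem hx hy)
  exact h ha

theorem conj_mem {X : Subgroup H} {s : H} (hs : ∀ x ∈ X, s * x * s⁻¹ ∈ X) {a : AddMonoid.End V}
    (ha : a ∈ ring V X) : op V s * a * op V s⁻¹ ∈ ring V X := by
  have h : ring V X ≤ (ring V X).comap
      ((AddMonoidHom.mulRight (op V s⁻¹)).comp (AddMonoidHom.mulLeft (op V s))) := by
    refine (AddSubgroup.closure_le _).2 ?_
    rintro _ ⟨y, hy, rfl⟩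
    change op V s * op V y * op V s⁻¹ ∈ ring V X
    rw [← op_mul, ← op_mul]
    exact op_mem (hs y hy)
  exact h ha

/-- an `X`-invariant subgroup is invariant under `ring X` -/
theorem apply_mem {X : Subgroup H} {A : AddSubgroup V} (hA : ∀ x ∈ X, ∀ v ∈ A, x • v ∈ A) {v : V} (hv : v ∈ A)
    {a : AddMonoid.End V} (ha : a ∈ ring V X) : a v ∈ A := by
  have h : ring V X ≤ A.comap (AddMonoidHom.eval v) := by
    refine (AddSubgroup.closure_le _).2 ?_
    rintro _ ⟨y, hy, rfl⟩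
    exact hA y hy v hv
  exact h ha

/-- the `X`-submodule generated by `z` -/
def orb (X : Subgroup H) (z : V) : AddSubgroup V := (ring V X).map (AddMonoidHom.eval z)

theorem mem_orb {X : Subgroup H} {z v : V} : v ∈ orb X z ↔ ∃ a ∈ ring V X, a z = v := Iff.rfl

theorem self_mem (X : Subgroup H) (z : V) : z ∈ orb X z := mem_orb.2 ⟨1, one_mem' X, rfl⟩

theorem smul_mem_orb {X : Subgroup H} {x : H} (hx : x ∈ X) {z v : V} (hv : v ∈ orb X z) : x • v ∈ orb X z := by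
  obtain ⟨a, ha, rfl⟩ := mem_orb.1 hv
  exact mem_orb.2 ⟨op V x * a, op_mul_mem hx ha, rfl⟩

theorem orb_le {X : Subgroup H} {A : AddSubgroup V} (hA : ∀ x ∈ X, ∀ v ∈ A, x • v ∈ A) {z : V} (hz : z ∈ A) :
    orb X z ≤ A := by
  intro v hv
  obtain ⟨a, ha, rfl⟩ := mem_orb.1 hv
  exact apply_mem hA hz ha

theorem smul_apply {s : H} {z : V} (hz : s • z = z)
    {a : AddMonoid.End V} : s • a z = (op V s * a * op V s⁻¹) z := by
  have h : s⁻¹ • z = z := by rw [inv_smul_eq_iff, hz]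
  change s • a z = s • a (s⁻¹ • z)
  rw [h]

theorem smul_mem_orb' {X : Subgroup H} {s : H} (hs : ∀ x ∈ X, s * x * s⁻¹ ∈ X) {z : V} (hz : s • z = z) {v : V}
    (hv : v ∈ orb X z) : s • v ∈ orb X z := by
  obtain ⟨a, ha, rfl⟩ := mem_orb.1 hv
  exact mem_orb.2 ⟨_, conj_mem hs ha, (smul_apply hz).symm⟩

/-- A 2-group fixes an element `≠ 0` of an invariant subgroup `≠ 0` of exponent 2. -/
theorem exists_fix [Finite V] {S : Subgroup H} (hS : IsPGroup 2 S) (h2 : ∀ v : V, v + v = 0) {A : AddSubgroup V}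
    (hA : ∀ s ∈ S, ∀ v ∈ A, s • v ∈ A) (hne : A ≠ ⊥) : ∃ z ∈ A, z ≠ 0 ∧ ∀ s ∈ S, s • z = z := by
  classical
  have : Fact (Nat.Prime 2) := ⟨Nat.prime_two⟩
  let act : MulAction S A :=
    { smul := fun s v => ⟨(s : H) • (v : V), hA s s.2 v v.2⟩
      one_smul := fun v => Subtype.ext (one_smul H (v : V))
      mul_smul := fun s t v => Subtype.ext (mul_smul (s : H) (t : H) (v : V)) }
  obtain ⟨a, ha, hane⟩ := (AddSubgroup.bot_or_exists_ne_zero A).resolve_left hne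
  have hd : 2 ∣ Nat.card A := by
    have h1 : addOrderOf (⟨a, ha⟩ : A) = 2 := by
      refine addOrderOf_eq_prime (Subtype.ext ?_) fun h0 => hane (congrArg Subtype.val h0)
      change (2 : ℕ) • a = 0
      rw [two_nsmul, h2]
    rw [← h1]
    exact addOrderOf_dvd_natCard _
  obtain ⟨b, hb, hne'⟩ := hS.exists_fixed_point_of_prime_dvd_card_of_fixed_point A hd
    (a := (0 : A)) (fun s => Subtype.ext (smul_zero (s : H)))
  exact ⟨b, b.2, fun h0 => hne' (Subtype.ext h0.symm), fun s hs => congrArg Subtype.val (hb ⟨s, hs⟩)⟩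

/-- The situation. -/
structure Dat (V : Type v) [AddCommGroup V] [DistribMulAction H V] (X S : Subgroup H) : Prop where
  two : IsPGroup 2 S
  exp : ∀ v : V, v + v = 0
  norm : ∀ s ∈ S, ∀ x ∈ X, s * x * s⁻¹ ∈ X
  gen : ∀ A : AddSubgroup V, (∀ x ∈ X, ∀ v ∈ A, x • v ∈ A) → (∀ z : V, (∀ s ∈ S, s • z = z) → z ∈ A) → A = ⊤
  ann : ∀ z z' : V, z ≠ 0 → (∀ s ∈ S, s • z = z) → (∀ s ∈ S, s • z' = z') → ∀ a ∈ ring V X, a z = 0 → a z' = 0

end base

namespace Dat

variable {H : Type u} {V : Type v} [Group H] [AddCommGroup V] [DistribMulAction H V] [Finite V]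
  {X S : Subgroup H} (D : Dat V X S)
include D

omit [Finite V] in
theorem smul_S {s : H} (hs : s ∈ S) {z v : V} (hz : ∀ s ∈ S, s • z = z) (hv : v ∈ orb X z) : s • v ∈ orb X z :=
  smul_mem_orb' (D.norm s hs) (hz s hs) hv

omit [Finite V] in
/-- The isomorphism. -/
theorem exists_iso {z z' : V} (hz : z ≠ 0) (hzS : ∀ s ∈ S, s • z = z) (hz' : z' ≠ 0)
    (hzS' : ∀ s ∈ S, s • z' = z') :
    ∃ f : orb X z ≃+ orb X z', (∀ x ∈ X, ∀ v w : orb X z, (w : V) = x • (v : V) → (f w : V) = x • (f v : V)) ∧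
      (∀ s ∈ S, ∀ v w : orb X z, (w : V) = s • (v : V) → (f w : V) = s • (f v : V)) ∧
      ∀ v : orb X z, (v : V) = z → (f v : V) = z' := by
  have key : ∀ a ∈ ring V X, ∀ b ∈ ring V X, a z = b z ↔ a z' = b z' := by
    intro a ha b hb
    constructor
    · intro h
      have h1 := D.ann z z' hz hzS hzS' (a - b) (sub_mem ha hb) (by
        change a z - b z = 0
        rw [h, sub_self])
      exact sub_eq_zero.1 h1
    · intro h
      have h1 := D.ann z' z hz' hzS' hzS (a - b) (sub_mem ha hb) (by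
        change a z' - b z' = 0
        rw [h, sub_self])
      exact sub_eq_zero.1 h1
  have hc : ∀ v : orb X z, ∃ a ∈ ring V X, a z = v := fun v => mem_orb.1 v.2
  choose c hcm hcz using hc
  have hc' : ∀ v : orb X z', ∃ a ∈ ring V X, a z' = v := fun v => mem_orb.1 v.2
  choose c' hcm' hcz' using hc'
  let f : orb X z ≃+ orb X z' :=
    { toFun := fun v => ⟨c v z', mem_orb.2 ⟨_, hcm v, rfl⟩⟩
      invFun := fun v => ⟨c' v z, mem_orb.2 ⟨_, hcm' v, rfl⟩⟩
      left_inv := fun v => Subtype.ext (by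
        change c' _ z = v
        rw [← hcz v]
        exact (key _ (hcm' _) _ (hcm v)).2 (hcz' _))
      right_inv := fun v => Subtype.ext (by
        change c _ z' = v
        rw [← hcz' v]
        exact (key _ (hcm _) _ (hcm' v)).1 (hcz _))
      map_add' := fun v w => Subtype.ext (by
        change c (v + w) z' = c v z' + c w z'
        refine (key _ (hcm _) (c v + c w) (add_mem (hcm v) (hcm w))).1 ?_
        change c (v + w) z = c v z + c w z
        rw [hcz, hcz, hcz]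
        rfl) }
  have hf : ∀ v : orb X z, (f v : V) = c v z' := fun v => rfl
  refine ⟨f, ?_, ?_, ?_⟩
  · intro x hx v w hw
    rw [hf, hf]
    refine (key _ (hcm w) (op V x * c v) (op_mul_mem hx (hcm v))).1 ?_
    rw [hcz, hw, ← hcz v]
    rfl
  · intro s hs v w hw
    rw [hf, hf, smul_apply (hzS' s hs)]
    refine (key _ (hcm w) _ (conj_mem (D.norm s hs) (hcm v))).1 ?_
    rw [hcz, hw, ← smul_apply (hzS s hs), hcz v]
  · intro v hv
    rw [hf]
    exact (key _ (hcm v) 1 (one_mem' X)).1 (by rw [hcz, hv]; rfl)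

omit [Finite V] in
theorem card_orb {z z' : V} (hz : z ≠ 0) (hzS : ∀ s ∈ S, s • z = z) (hz' : z' ≠ 0)
    (hzS' : ∀ s ∈ S, s • z' = z') : Nat.card (orb X z) = Nat.card (orb X z') := by
  obtain ⟨f, -⟩ := D.exists_iso hz hzS hz' hzS'
  exact Nat.card_congr f.toEquiv

/-- `orb X z` is irreducible. -/
theorem irr {z : V} (hz : z ≠ 0) (hzS : ∀ s ∈ S, s • z = z) {A : AddSubgroup V} (hA : A ≤ orb X z) (hne : A ≠ ⊥)
    (hX : ∀ x ∈ X, ∀ v ∈ A, x • v ∈ A) (hS : ∀ s ∈ S, ∀ v ∈ A, s • v ∈ A) : A = orb X z := by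
  obtain ⟨z', hz'A, hz', hzS'⟩ := exists_fix D.two D.exp hS hne
  have h1 : orb X z' ≤ A := orb_le hX hz'A
  have h2 : Nat.card (orb X z) ≤ Nat.card A := by
    rw [D.card_orb hz hzS hz' hzS']
    exact AddSubgroup.card_le_of_le h1
  exact AddSubgroup.eq_of_le_of_card_ge hA h2

/-- **`V` is a direct sum.** -/
theorem exists_fam : ∃ F : Finset V, (∀ z ∈ F, z ≠ 0 ∧ ∀ s ∈ S, s • z = z) ∧
    iSupIndep (fun z : F => orb X (z : V)) ∧ (⨆ z : F, orb X (z : V)) = ⊤ := by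
  classical
  have : Fintype V := Fintype.ofFinite V
  let P : Finset (Finset V) := Finset.univ.filter fun F =>
    (∀ z ∈ F, z ≠ 0 ∧ ∀ s ∈ S, s • z = z) ∧ F.SupIndep (orb X)
  have hP : P.Nonempty := ⟨∅, by
    rw [Finset.mem_filter]
    exact ⟨Finset.mem_univ _, by simp, Finset.supIndep_empty _⟩⟩
  obtain ⟨F, hF, hmax⟩ := P.exists_max_image Finset.card hP
  rw [Finset.mem_filter] at hF
  obtain ⟨-, hF1, hF2⟩ := hF
  refine ⟨F, hF1, hF2.independent, ?_⟩
  set B : AddSubgroup V := ⨆ z : F, orb X (z : V) with hB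
  have hBX : ∀ x ∈ X, ∀ v ∈ B, x • v ∈ B := by
    intro x hx v hv
    have h : B ≤ B.comap (op V x) := iSup_le fun z w hw =>
      (le_iSup (fun z : F => orb X (z : V)) z) (smul_mem_orb hx hw)
    exact h hv
  have hBS : ∀ s ∈ S, ∀ v ∈ B, s • v ∈ B := by
    intro s hs v hv
    have h : B ≤ B.comap (op V s) := iSup_le fun z w hw =>
      (le_iSup (fun z : F => orb X (z : V)) z) (D.smul_S hs (hF1 z z.2).2 hw)
    exact h hv
  refine D.gen B hBX fun z hzS => ?_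
  by_contra hzB
  have hz0 : z ≠ 0 := fun h0 => hzB (h0 ▸ B.zero_mem)
  have hinf : orb X z ⊓ B = ⊥ := by
    by_contra hne
    have h := D.irr hz0 hzS (A := orb X z ⊓ B) inf_le_left hne
      (fun x hx v hv => ⟨smul_mem_orb hx hv.1, hBX x hx v hv.2⟩)
      (fun s hs v hv => ⟨D.smul_S hs hzS hv.1, hBS s hs v hv.2⟩)
    exact hzB ((h.symm.le (self_mem X z)).2)
  have hzF : z ∉ F := fun hz => hzB ((le_iSup (fun z : F => orb X (z : V)) ⟨z, hz⟩) (self_mem X z))
  have hsup : F.sup (orb X) = B := by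
    rw [Finset.sup_eq_iSup, hB, iSup_subtype]
  have h1 : (insert z F) ∈ P := by
    rw [Finset.mem_filter]
    refine ⟨Finset.mem_univ _, ?_, hF2.insert ?_⟩
    · intro w hw
      rcases Finset.mem_insert.1 hw with rfl | hw
      · exact ⟨hz0, hzS⟩
      · exact hF1 w hw
    · rw [hsup, disjoint_iff, hinf]
  have h2 := hmax _ h1
  rw [Finset.card_insert_of_notMem hzF] at h2
  omega

/-- **`V = U₁^k`, `X`- and `S`-equivariantly.** -/
theorem exists_pow : ∃ (k : ℕ) (U : Fin k → AddSubgroup V),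
    (∀ j, ∃ z : V, z ≠ 0 ∧ (∀ s ∈ S, s • z = z) ∧ U j = orb X z) ∧ iSupIndep U ∧ (⨆ j, U j) = ⊤ ∧
    ∀ i j, ∃ f : U i ≃+ U j, (∀ x ∈ X, ∀ v w : U i, (w : V) = x • (v : V) → (f w : V) = x • (f v : V)) ∧
      ∀ s ∈ S, ∀ v w : U i, (w : V) = s • (v : V) → (f w : V) = s • (f v : V) := by
  obtain ⟨F, hF1, hF2, hF3⟩ := D.exists_fam
  let e : Fin F.card ≃ F := F.equivFin.symm
  refine ⟨F.card, fun j => orb X (e j : V), fun j => ⟨e j, (hF1 _ (e j).2).1, (hF1 _ (e j).2).2, rfl⟩,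
    hF2.comp e.injective, ?_, ?_⟩
  · rw [← hF3]
    exact e.surjective.iSup_comp (fun z : F => orb X (z : V))
  · intro i j
    obtain ⟨f, h1, h2, -⟩ := D.exists_iso (hF1 _ (e i).2).1 (hF1 _ (e i).2).2 (hF1 _ (e j).2).1 (hF1 _ (e j).2).2
    exact ⟨f, h1, h2⟩

end Dat

end Cfsg.Agent.Omega.NO3b.Exit.Descent

end

section


/-!
# Descent (helper255, bb 20076), part 2: one block `A ⊗_K E`

`Y` acts irreducibly on the finite additive group `A` of exponent 2, `K = KK Y A = End_Y(A)`, and `Y` induces all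
`K`-transvections of `A`; `T ≤ Y` a subgroup of odd index (a Sylow 2-subgroup).

* `fix_line` : `C_A(T) ≤ K n` for `0 ≠ n ∈ C_A(T)`;
* `img Y A U` : `⟨f a | f ∈ Hom_Y(A, U), a ∈ A⟩ = A ⊗ E`;
* `exists_of_fix` : `w ∈ img`, fixed by `T`, is `f n` for some `f ∈ Hom_Y(A, U)`;
* `ann_blk` : two elements `w ≠ 0`, `w'` of `img` fixed by `T`: every element of the ring generated by `Y` which kills
  `w` kills `w'`.
-/

set_option autoImplicit false

namespace Cfsg.Agent.Omega.NO3b.Exit.Descent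

open Subgroup Cfsg.Agent.Omega.NO3b.Exit.Ten

universe u v w

section blk

variable {Y : Type u} {A : Type v} [Group Y] [AddCommGroup A] [DistribMulAction Y A] [Finite A] [hI : IsIrr Y A]

/-- `Y` induces all transvections -/
def AllTv (Y : Type u) (A : Type v) [Group Y] [AddCommGroup A] [DistribMulAction Y A] [Finite A] [IsIrr Y A] :
    Prop :=
  ∀ (φ : Module.Dual (KK Y A) A) (a : A), φ a = 0 → ∃ k : Y, ∀ x : A, k • x = x + φ x • a

/-- `C_A(T)` is a line. -/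
theorem fix_line (htv : AllTv Y A) (two : ∀ a : A, a + a = 0) {T : Subgroup Y} (hT : ¬ 2 ∣ T.index)
    {n : A} (hn0 : n ≠ 0) (hn : ∀ t ∈ T, t • n = n) {n' : A} (hn' : ∀ t ∈ T, t • n' = n') :
    ∃ κ : KK Y A, n' = κ • n := by
  classical
  by_contra hcon
  push Not at hcon
  have hTn : T ≤ MulAction.stabilizer Y n := fun t ht => hn t ht
  let Yn := MulAction.stabilizer Y n
  let O : Set A := MulAction.orbit Yn n'
  -- the orbit has odd length
  have hodd : ¬ 2 ∣ Nat.card O := by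
    have h1 : Nat.card O = (MulAction.stabilizer Yn n').index := by
      rw [Subgroup.index]
      exact Nat.card_congr (MulAction.orbitEquivQuotientStabilizer Yn n')
    have h2 : T.subgroupOf Yn ≤ MulAction.stabilizer Yn n' := fun t ht => hn' (t : Y) ht
    have h3 : (MulAction.stabilizer Yn n').index ∣ (T.subgroupOf Yn).index := Subgroup.index_dvd_of_le h2
    have h4 : (T.subgroupOf Yn).index ∣ T.index := by
      have := Subgroup.relIndex_mul_index hTn
      exact ⟨_, this.symm⟩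
    intro h5
    exact hT ((h5.trans (h1 ▸ h3)).trans h4)
  -- translation by `n`
  have hmem : ∀ x ∈ O, x + n ∈ O := by
    rintro x ⟨y, rfl⟩
    have hx : ∀ κ : KK Y A, (y : Y) • n' ≠ κ • n := by
      intro κ hκ
      apply hcon κ
      have hy : (y : Y)⁻¹ • n = n := by rw [inv_smul_eq_iff]; exact (MulAction.mem_stabilizer_iff.1 y.2).symm
      calc n' = (y : Y)⁻¹ • (y : Y) • n' := (inv_smul_smul _ _).symm
        _ = (y : Y)⁻¹ • κ • n := by rw [hκ]
        _ = κ • (y : Y)⁻¹ • n := (KK.smul_smul_comm _ _ _).symm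
        _ = κ • n := by rw [hy]
    -- a functional with `φ n = 0`, `φ (y n') = 1`
    have hli : (y : Y) • n' ∉ Submodule.span (KK Y A) ({n} : Set A) := by
      intro h
      obtain ⟨κ, hκ⟩ := Submodule.mem_span_singleton.1 h
      exact hx κ hκ.symm
    obtain ⟨φ, hφ1, hφ2⟩ := Submodule.exists_dual_map_eq_bot_of_notMem hli inferInstance
    have hφn : φ n = 0 := by
      have h : φ n ∈ (Submodule.span (KK Y A) ({n} : Set A)).map φ :=
        ⟨n, Submodule.mem_span_singleton_self n, rfl⟩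
      rw [hφ2, Submodule.mem_bot] at h
      exact h
    set c := φ ((y : Y) • n') with hc
    obtain ⟨k, hk⟩ := htv (c⁻¹ • φ) n (by rw [LinearMap.smul_apply, hφn, smul_zero])
    have hkn : k • n = n := by
      rw [hk, LinearMap.smul_apply, hφn, smul_zero, zero_smul, add_zero]
    have hky : k • (y : Y) • n' = (y : Y) • n' + n := by
      rw [hk, LinearMap.smul_apply, ← hc, smul_eq_mul, inv_mul_cancel₀ hφ1, one_smul]
    refine ⟨(⟨k, hkn⟩ : Yn) * y, ?_⟩
    change (k * (y : Y)) • n' = (y : Y) • n' + n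
    rw [mul_smul, hky]
  apply hodd
  have hfin : Fintype O := Fintype.ofFinite O
  have h6 : ∑ x : O, (1 : ZMod 2) = 0 := by
    refine Finset.sum_involution (fun x _ => (⟨(x : A) + n, hmem x x.2⟩ : O)) ?_ ?_ ?_ ?_
    · intro x _; decide
    · intro x _ _ h0
      apply hn0
      have h7 := congrArg Subtype.val h0
      exact left_eq_add.1 h7.symm
    · intro x _; exact Finset.mem_univ _
    · intro x _
      apply Subtype.ext
      change (x : A) + n + n = x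
      rw [add_assoc, two, add_zero]
  rw [Finset.sum_const, Finset.card_univ, nsmul_eq_mul, mul_one] at h6
  rw [Nat.card_eq_fintype_card]
  exact (ZMod.natCast_eq_zero_iff _ 2).1 h6

variable (Y A) in
/-- `A ⊗ E` -/
def img (U : Type w) [AddCommGroup U] [DistribMulAction Y U] : AddSubgroup U :=
  AddSubgroup.closure {u | ∃ (f : HomY Y A U) (a : A), u = (f : A →+ U) a}

variable {U : Type w} [AddCommGroup U] [DistribMulAction Y U]

omit [Finite A] hI in
theorem mem_img (f : HomY Y A U) (a : A) : (f : A →+ U) a ∈ img Y A U :=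
  AddSubgroup.subset_closure ⟨f, a, rfl⟩

/-- elements of `img` in coordinates -/
theorem exists_coord [Finite U] : ∃ (d : ℕ) (f : Fin d → HomY Y A U), LinearIndependent (KK Y A) f ∧
    ∀ w ∈ img Y A U, ∃ a : Fin d → A, w = ∑ i, (f i : A →+ U) (a i) := by
  have hfin : Finite (A →+ U) := Finite.of_injective (fun f => (f : A → U)) DFunLike.coe_injective
  have hfin2 : Finite (HomY Y A U) := inferInstance
  have hfin3 : Module.Finite (KK Y A) (HomY Y A U) := Module.Finite.of_finite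
  let b := Module.finBasis (KK Y A) (HomY Y A U)
  refine ⟨_, b, b.linearIndependent, fun w hw => ?_⟩
  let N : AddSubgroup U :=
    { carrier := {w | ∃ a : Fin (Module.finrank (KK Y A) (HomY Y A U)) → A, w = ∑ i, ((b i : HomY Y A U) : A →+ U) (a i)}
      zero_mem' := ⟨0, by simp only [_root_.Pi.zero_apply, _root_.map_zero, _root_.Finset.sum_const_zero]⟩
      add_mem' := by
        rintro x y ⟨a, rfl⟩ ⟨c, rfl⟩
        refine ⟨a + c, ?_⟩
        rw [← Finset.sum_add_distrib]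
        exact Finset.sum_congr rfl fun i _ => by rw [Pi.add_apply, map_add]
      neg_mem' := by
        rintro x ⟨a, rfl⟩
        refine ⟨-a, ?_⟩
        rw [← Finset.sum_neg_distrib]
        exact Finset.sum_congr rfl fun i _ => by rw [Pi.neg_apply, map_neg] }
  have h : img Y A U ≤ N := by
    refine (AddSubgroup.closure_le _).2 ?_
    rintro _ ⟨f, a, rfl⟩
    refine ⟨fun i => b.repr f i • a, ?_⟩
    have e : f = ∑ i, b.repr f i • b i := (b.sum_repr f).symm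
    conv_lhs => rw [e]
    rw [AddSubgroup.val_finsetSum, AddMonoidHom.finsetSum_apply]
    exact Finset.sum_congr rfl fun i _ => by rw [HomY.smul_apply]
  exact h hw

/-- a fixed element of `A ⊗ E` is pure -/
theorem exists_of_fix [Finite U] (htv : AllTv Y A) (two : ∀ a : A, a + a = 0) {T : Subgroup Y}
    (hT : ¬ 2 ∣ T.index) {n : A} (hn0 : n ≠ 0) (hn : ∀ t ∈ T, t • n = n) {w : U} (hw : w ∈ img Y A U)
    (hwT : ∀ t ∈ T, t • w = w) : ∃ f : HomY Y A U, w = (f : A →+ U) n := by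
  obtain ⟨d, f, hf, hco⟩ := exists_coord (Y := Y) (A := A) (U := U)
  obtain ⟨a, rfl⟩ := hco w hw
  have h1 : ∀ t ∈ T, ∀ i, t • a i = a i := by
    intro t ht i
    have h2 := hwT t ht
    rw [Finset.smul_sum] at h2
    have h3 := HomY.ind hf Finset.univ (fun i => t • a i - a i) (by
      rw [← sub_eq_zero.2 h2, ← Finset.sum_sub_distrib]
      exact Finset.sum_congr rfl fun i _ => by rw [map_sub, (f i).2]) i (Finset.mem_univ _)
    exact sub_eq_zero.1 h3
  choose κ hκ using fun i => fix_line htv two hT hn0 hn (fun t ht => h1 t ht i)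
  refine ⟨∑ i, κ i • f i, ?_⟩
  rw [AddSubgroup.val_finsetSum, AddMonoidHom.finsetSum_apply]
  exact Finset.sum_congr rfl fun i _ => by rw [HomY.smul_apply, ← hκ]

end blk

end Cfsg.Agent.Omega.NO3b.Exit.Descent

end

section


/-!
# Descent (helper255, bb 20076), part 3: group form

`V` an elementary abelian 2-subgroup of the finite group `G`, normalised by `X` and by the 2-group `S`, `S ≤ N_G(X)`,
`V = ⟨C_V(S)^X⟩`, and all elements `≠ 1` of `C_V(S)` have the same annihilator in `F₂[X]` (`GDat`).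

* `GDat.exists_pow` : `V` is the direct product of subgroups `U j`, `j : Fin k`, normalised by `X` and `S`, irreducible
  under `⟨X, S⟩`, and for all `i`, `j` there is an `X`- and `S`-equivariant isomorphism `U i ≃* U j`.
-/

set_option autoImplicit false

namespace Cfsg.Agent.Omega.NO3b.Exit.Descent

open Subgroup

universe u

variable {G : Type u} [Group G]

/-- `V` as a module for `H ≤ N_G(V)`. -/
def VM {H V : Subgroup G} (_ : H ≤ normalizer (V : Set G)) (_ : V ≤ centralizer (V : Set G)) : Type u :=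
  Additive ↥V

namespace VM

variable {H V : Subgroup G} {hH : H ≤ normalizer (V : Set G)} {hV : V ≤ centralizer (V : Set G)}

/-- the underlying element -/
def val (v : VM hH hV) : G := ((Additive.toMul v : ↥V) : G)

def mk (g : G) (hg : g ∈ V) : VM hH hV := Additive.ofMul ⟨g, hg⟩

theorem val_mk (g : G) (hg : g ∈ V) : (mk g hg : VM hH hV).val = g := rfl

theorem val_mem (v : VM hH hV) : v.val ∈ V := (Additive.toMul v : ↥V).2

theorem ext {v w : VM hH hV} (h : v.val = w.val) : v = w := Subtype.ext h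

instance : AddCommGroup (VM hH hV) :=
  { (inferInstance : AddGroup (Additive ↥V)) with
    add_comm := fun v w => ext (mem_centralizer_iff.1 (hV (val_mem w)) _ (val_mem v)) }

theorem val_add (v w : VM hH hV) : (v + w).val = v.val * w.val := rfl

theorem val_zero : (0 : VM hH hV).val = 1 := rfl

theorem val_neg (v : VM hH hV) : (-v).val = v.val⁻¹ := rfl

instance : DistribMulAction H (VM hH hV) where
  smul h v := mk ((h : G) * v.val * (h : G)⁻¹) ((mem_normalizer_iff.1 (hH h.2) _).1 v.val_mem)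
  one_smul v := ext (by change (1 : G) * v.val * (1 : G)⁻¹ = v.val; group)
  mul_smul h k v := ext (by
    change ((h * k : H) : G) * v.val * ((h * k : H) : G)⁻¹ = h * (k * v.val * (k : G)⁻¹) * (h : G)⁻¹
    rw [Subgroup.coe_mul]; group)
  smul_zero h := ext (by change (h : G) * 1 * (h : G)⁻¹ = 1; group)
  smul_add h v w := ext (by
    change (h : G) * (v.val * w.val) * (h : G)⁻¹ = h * v.val * (h : G)⁻¹ * (h * w.val * (h : G)⁻¹)
    group)

theorem val_smul (h : H) (v : VM hH hV) : (h • v).val = h * v.val * (h : G)⁻¹ := rfl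

instance [Finite G] : Finite (VM hH hV) := Finite.of_injective (fun v => v.val) fun _ _ h => ext h

/-- the subgroup of `G` -/
def toG (A : AddSubgroup (VM hH hV)) : Subgroup G where
  carrier := {g | ∃ hg : g ∈ V, (mk g hg : VM hH hV) ∈ A}
  one_mem' := ⟨one_mem _, A.zero_mem⟩
  mul_mem' := by
    rintro x y ⟨hx, hx'⟩ ⟨hy, hy'⟩
    exact ⟨mul_mem hx hy, A.add_mem hx' hy'⟩
  inv_mem' := by
    rintro x ⟨hx, hx'⟩
    exact ⟨inv_mem hx, A.neg_mem hx'⟩

/-- the subgroup of the module -/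
def ofG (K : Subgroup G) : AddSubgroup (VM hH hV) where
  carrier := {v | v.val ∈ K}
  zero_mem' := K.one_mem
  add_mem' := fun {v w} (hv : v.val ∈ K) (hw : w.val ∈ K) => K.mul_mem hv hw
  neg_mem' := fun {v} (hv : v.val ∈ K) => K.inv_mem hv

theorem val_mem_toG {A : AddSubgroup (VM hH hV)} {v : VM hH hV} (hv : v ∈ A) : v.val ∈ toG A := ⟨v.val_mem, hv⟩

theorem of_val_mem {A : AddSubgroup (VM hH hV)} {v : VM hH hV} (hv : v.val ∈ toG A) : v ∈ A := hv.2

theorem toG_le (A : AddSubgroup (VM hH hV)) : toG A ≤ V := fun _ h => h.1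

theorem toG_mono {A B : AddSubgroup (VM hH hV)} (h : A ≤ B) : toG A ≤ toG B := fun _ hg => ⟨hg.1, h hg.2⟩

theorem toG_top : toG (⊤ : AddSubgroup (VM hH hV)) = V :=
  le_antisymm (toG_le _) fun _ hg => ⟨hg, trivial⟩

theorem toG_bot : toG (⊥ : AddSubgroup (VM hH hV)) = ⊥ := by
  rw [eq_bot_iff]
  rintro g ⟨hg, hg'⟩
  rw [AddSubgroup.mem_bot] at hg'
  have h := congrArg val hg'
  exact mem_bot.2 h

theorem toG_inf (A B : AddSubgroup (VM hH hV)) : toG (A ⊓ B) = toG A ⊓ toG B := by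
  ext g
  constructor
  · rintro ⟨hg, h1, h2⟩
    exact ⟨⟨hg, h1⟩, ⟨hg, h2⟩⟩
  · rintro ⟨⟨hg, h1⟩, ⟨_, h2⟩⟩
    exact ⟨hg, h1, h2⟩

theorem toG_iSup {κ : Sort*} (A : κ → AddSubgroup (VM hH hV)) : toG (⨆ i, A i) = ⨆ i, toG (A i) := by
  apply le_antisymm
  · have h : (⨆ i, A i) ≤ ofG (⨆ i, toG (A i)) := iSup_le fun i v hv =>
      (le_iSup (fun i => toG (A i)) i) (val_mem_toG hv)
    rintro g ⟨hg, hg'⟩
    exact h hg'
  · exact iSup_le fun i => toG_mono (le_iSup A i)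

theorem indep_toG {κ : Type*} {A : κ → AddSubgroup (VM hH hV)} (h : iSupIndep A) :
    iSupIndep fun i => toG (A i) := by
  rw [iSupIndep_def] at h ⊢
  intro i
  have h1 := h i
  rw [disjoint_iff] at h1 ⊢
  have e : (⨆ (j) (_ : j ≠ i), toG (A j)) = toG (⨆ (j) (_ : j ≠ i), A j) := by
    rw [toG_iSup]
    exact iSup_congr fun j => (toG_iSup _).symm
  rw [e, ← toG_inf, h1, toG_bot]

/-- an isomorphism -/
noncomputable def isoG {A B : AddSubgroup (VM hH hV)} (f : A ≃+ B) : toG A ≃* toG B where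
  toFun g := ⟨((f ⟨mk g.1 g.2.1, g.2.2⟩ : B) : VM hH hV).val, val_mem_toG (f _).2⟩
  invFun g := ⟨((f.symm ⟨mk g.1 g.2.1, g.2.2⟩ : A) : VM hH hV).val, val_mem_toG (f.symm _).2⟩
  left_inv g := Subtype.ext (by
    change ((f.symm (f ⟨mk g.1 g.2.1, g.2.2⟩) : A) : VM hH hV).val = g
    rw [f.symm_apply_apply]
    rfl)
  right_inv g := Subtype.ext (by
    change ((f (f.symm ⟨mk g.1 g.2.1, g.2.2⟩) : B) : VM hH hV).val = g
    rw [f.apply_symm_apply]
    rfl)
  map_mul' g g' := Subtype.ext (by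
    have e : (⟨mk (g * g' : toG A).1 (g * g').2.1, (g * g').2.2⟩ : A) =
        ⟨mk g.1 g.2.1, g.2.2⟩ + ⟨mk g'.1 g'.2.1, g'.2.2⟩ := rfl
    change ((f ⟨mk (g * g' : toG A).1 (g * g').2.1, (g * g').2.2⟩ : B) : VM hH hV).val = _
    rw [e, map_add]
    rfl)

theorem isoG_val {A B : AddSubgroup (VM hH hV)} (f : A ≃+ B) {v : A} {g : toG A} (h : (g : G) = (v : VM hH hV).val) :
    ((isoG f g : toG B) : G) = ((f v : B) : VM hH hV).val := by
  have e : (⟨mk g.1 g.2.1, g.2.2⟩ : A) = v := Subtype.ext (ext h)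
  change ((f ⟨mk g.1 g.2.1, g.2.2⟩ : B) : VM hH hV).val = _
  rw [e]

end VM

/-- The situation of LEMMA DESCENT, group form. -/
structure GDat (V X S : Subgroup G) : Prop where
  comm : V ≤ centralizer (V : Set G)
  sq : ∀ v ∈ V, v * v = 1
  two : IsPGroup 2 S
  SV : S ≤ normalizer (V : Set G)
  XV : X ≤ normalizer (V : Set G)
  SX : S ≤ normalizer (X : Set G)
  gen : ∀ A : Subgroup G, A ≤ V → X ≤ normalizer (A : Set G) → V ⊓ centralizer (S : Set G) ≤ A → A = V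
  ann : ∀ z z' : G, z ∈ V → z ≠ 1 → z ∈ centralizer (S : Set G) → z' ∈ V → z' ∈ centralizer (S : Set G) →
    ∀ l : List G, (∀ x ∈ l, x ∈ X) → (l.map fun x => x * z * x⁻¹).prod = 1 →
      (l.map fun x => x * z' * x⁻¹).prod = 1

namespace GDat

variable [Finite G] {V X S : Subgroup G} (D : GDat V X S)
include D

omit [Finite G] in
/-- elements of `ring` are sums of lists -/
theorem exists_list {H : Subgroup G} (hH : H ≤ normalizer (V : Set G)) {X' : Subgroup H}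
    {c : AddMonoid.End (VM hH D.comm)} (hc : c ∈ ring (VM hH D.comm) X') :
    ∃ l : List G, (∀ x ∈ l, ∃ x' ∈ X', (x' : G) = x) ∧
      ∀ v : VM hH D.comm, (c v).val = (l.map fun x => x * v.val * x⁻¹).prod := by
  have hneg : ∀ v : VM hH D.comm, -v = v := fun v => VM.ext (by
    rw [VM.val_neg]
    exact inv_eq_of_mul_eq_one_left (D.sq _ v.val_mem))
  induction hc using AddSubgroup.closure_induction with
  | mem c hc =>
    obtain ⟨x, hx, rfl⟩ := hc
    refine ⟨[(x : G)], fun y hy => ⟨x, hx, (List.mem_singleton.1 hy).symm⟩, fun v => ?_⟩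
    rw [List.map_cons, List.map_nil, List.prod_cons, List.prod_nil, mul_one]
    rfl
  | zero => exact ⟨[], by simp only [_root_.List.not_mem_nil, _root_.Subtype.exists, _root_.exists_and_right, _root_.exists_eq_right, _root_.IsEmpty.forall_iff, _root_.implies_true], fun v => rfl⟩
  | add c d _ _ hc hd =>
    obtain ⟨l, hl, h1⟩ := hc
    obtain ⟨m, hm, h2⟩ := hd
    refine ⟨l ++ m, fun x hx => ?_, fun v => ?_⟩
    · rcases List.mem_append.1 hx with h | h
      · exact hl x h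
      · exact hm x h
    · rw [List.map_append, List.prod_append, ← h1, ← h2]
      rfl
  | neg c _ hc =>
    obtain ⟨l, hl, h1⟩ := hc
    refine ⟨l, hl, fun v => ?_⟩
    rw [← h1]
    change (-(c v)).val = _
    rw [hneg]

/-- **LEMMA DESCENT.** -/
theorem exists_pow : ∃ (k : ℕ) (U : Fin k → Subgroup G), (∀ j, U j ≤ V) ∧ iSupIndep U ∧ (⨆ j, U j) = V ∧
    (∀ j, U j ≠ ⊥) ∧ (∀ j, X ≤ normalizer (U j : Set G)) ∧ (∀ j, S ≤ normalizer (U j : Set G)) ∧
    (∀ j, ∀ A : Subgroup G, A ≤ U j → A ≠ ⊥ → X ≤ normalizer (A : Set G) → S ≤ normalizer (A : Set G) → A = U j) ∧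
    ∀ i j, ∃ f : U i ≃* U j, (∀ x ∈ X, ∀ v w : U i, (w : G) = x * v * x⁻¹ → (f w : G) = x * f v * x⁻¹) ∧
      ∀ s ∈ S, ∀ v w : U i, (w : G) = s * v * s⁻¹ → (f w : G) = s * f v * s⁻¹ := by
  classical
  set H : Subgroup G := X ⊔ S with hHdef
  have hH : H ≤ normalizer (V : Set G) := sup_le D.XV D.SV
  let X' : Subgroup H := X.subgroupOf H
  let S' : Subgroup H := S.subgroupOf H
  have hfix : ∀ z : VM hH D.comm, (∀ s ∈ S', s • z = z) → z.val ∈ V ⊓ centralizer (S : Set G) := by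
    intro z hz
    refine ⟨z.val_mem, mem_centralizer_iff.2 fun s hs => ?_⟩
    have h1 := congrArg VM.val (hz ⟨s, (le_sup_right : S ≤ H) hs⟩ (mem_subgroupOf.2 hs))
    rw [VM.val_smul] at h1
    exact mul_inv_eq_iff_eq_mul.1 h1
  have hfix' : ∀ z : VM hH D.comm, z.val ∈ centralizer (S : Set G) → ∀ s ∈ S', s • z = z := by
    intro z hz s hs
    refine VM.ext ?_
    rw [VM.val_smul, mul_inv_eq_iff_eq_mul]
    exact mem_centralizer_iff.1 hz _ (mem_subgroupOf.1 hs)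
  have hXn : ∀ A : AddSubgroup (VM hH D.comm), (∀ x ∈ X', ∀ v ∈ A, x • v ∈ A) → X ≤ normalizer (VM.toG A : Set G) := by
    intro A hA
    have key : ∀ x ∈ X, ∀ g ∈ VM.toG A, x * g * x⁻¹ ∈ VM.toG A := by
      rintro x hx g ⟨hg, hg'⟩
      exact VM.val_mem_toG (hA ⟨x, (le_sup_left : X ≤ H) hx⟩ (mem_subgroupOf.2 hx) _ hg')
    intro x hx
    rw [mem_normalizer_iff]
    intro g
    refine ⟨key x hx g, fun h => ?_⟩
    have h1 := key x⁻¹ (inv_mem hx) _ h
    have e : x⁻¹ * (x * g * x⁻¹) * x⁻¹⁻¹ = g := by group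
    rwa [e] at h1
  have hSn : ∀ A : AddSubgroup (VM hH D.comm), (∀ x ∈ S', ∀ v ∈ A, x • v ∈ A) → S ≤ normalizer (VM.toG A : Set G) := by
    intro A hA
    have key : ∀ x ∈ S, ∀ g ∈ VM.toG A, x * g * x⁻¹ ∈ VM.toG A := by
      rintro x hx g ⟨hg, hg'⟩
      exact VM.val_mem_toG (hA ⟨x, (le_sup_right : S ≤ H) hx⟩ (mem_subgroupOf.2 hx) _ hg')
    intro x hx
    rw [mem_normalizer_iff]
    intro g
    refine ⟨key x hx g, fun h => ?_⟩
    have h1 := key x⁻¹ (inv_mem hx) _ h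
    have e : x⁻¹ * (x * g * x⁻¹) * x⁻¹⁻¹ = g := by group
    rwa [e] at h1
  have E : Dat (VM hH D.comm) X' S' :=
    { two := D.two.comap_of_injective _ (subtype_injective H)
      exp := fun v => VM.ext (D.sq _ v.val_mem)
      norm := fun s hs x hx => (mem_normalizer_iff.1 (D.SX (mem_subgroupOf.1 hs)) _).1 (mem_subgroupOf.1 hx)
      gen := by
        intro A hA hZ
        have h1 := D.gen (VM.toG A) (VM.toG_le A) (hXn A hA) (by
          intro z hz
          exact ⟨hz.1, hZ _ (hfix' _ hz.2)⟩)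
        rw [eq_top_iff]
        intro v _
        exact VM.of_val_mem (h1.symm ▸ v.val_mem)
      ann := by
        intro z z' hz0 hz hz' c hc h0
        obtain ⟨l, hl, h1⟩ := D.exists_list hH hc
        have h2 := hfix z hz
        have h3 := hfix z' hz'
        refine VM.ext ?_
        rw [h1, VM.val_zero]
        refine D.ann z.val z'.val h2.1 (fun h => hz0 (VM.ext h)) h2.2 h3.1 h3.2 l ?_ ?_
        · intro x hx
          obtain ⟨x', hx', rfl⟩ := hl x hx
          exact mem_subgroupOf.1 hx'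
        · rw [← h1, h0, VM.val_zero] }
  obtain ⟨k, U, hU, hind, htop, hiso⟩ := E.exists_pow
  have hUX : ∀ j, ∀ x ∈ X', ∀ v ∈ U j, x • v ∈ U j := by
    intro j x hx v hv
    obtain ⟨z, -, -, hz⟩ := hU j
    rw [hz] at hv ⊢
    exact smul_mem_orb hx hv
  have hUS : ∀ j, ∀ s ∈ S', ∀ v ∈ U j, s • v ∈ U j := by
    intro j s hs v hv
    obtain ⟨z, -, hzS, hz⟩ := hU j
    rw [hz] at hv ⊢
    exact E.smul_S hs hzS hv
  refine ⟨k, fun j => VM.toG (U j), fun j => VM.toG_le _, VM.indep_toG hind, ?_, ?_, fun j => hXn _ (hUX j),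
    fun j => hSn _ (hUS j), ?_, ?_⟩
  · rw [← VM.toG_iSup, htop, VM.toG_top]
  · intro j h0
    obtain ⟨z, hz0, -, hz⟩ := hU j
    apply hz0
    have h1 : z.val ∈ VM.toG (U j) := VM.val_mem_toG (by rw [hz]; exact self_mem X' z)
    have h2 : z.val ∈ (⊥ : Subgroup G) := h0 ▸ h1
    exact VM.ext (mem_bot.1 h2)
  · intro j A hA hne hAX hAS
    obtain ⟨z, hz0, hzS, hz⟩ := hU j
    have h1 := E.irr hz0 hzS (A := VM.ofG A) (by
      intro v hv
      rw [← hz]
      exact VM.of_val_mem (hA hv)) (by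
      intro h0
      apply hne
      rw [eq_bot_iff]
      intro g hg
      have h2 : (VM.mk g (hA hg).1 : VM hH D.comm) ∈ (VM.ofG A : AddSubgroup (VM hH D.comm)) := hg
      rw [h0, AddSubgroup.mem_bot] at h2
      exact mem_bot.2 (congrArg VM.val h2)) (by
      intro x hx v hv
      exact (mem_normalizer_iff.1 (hAX (mem_subgroupOf.1 hx)) _).1 hv) (by
      intro x hx v hv
      exact (mem_normalizer_iff.1 (hAS (mem_subgroupOf.1 hx)) _).1 hv)
    refine le_antisymm hA ?_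
    rintro g ⟨hg, hg'⟩
    rw [hz, ← h1] at hg'
    exact hg'
  · intro i j
    obtain ⟨f, h1, h2⟩ := hiso i j
    refine ⟨VM.isoG f, ?_, ?_⟩
    · intro x hx v w hw
      let v' : U i := ⟨VM.mk v.1 v.2.1, v.2.2⟩
      let w' : U i := ⟨VM.mk w.1 w.2.1, w.2.2⟩
      have h3 := h1 ⟨x, (le_sup_left : X ≤ H) hx⟩ (mem_subgroupOf.2 hx) v' w' (VM.ext hw)
      rw [VM.isoG_val f (v := w') rfl, VM.isoG_val f (v := v') rfl, h3, VM.val_smul]
    · intro x hx v w hw
      let v' : U i := ⟨VM.mk v.1 v.2.1, v.2.2⟩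
      let w' : U i := ⟨VM.mk w.1 w.2.1, w.2.2⟩
      have h3 := h2 ⟨x, (le_sup_right : S ≤ H) hx⟩ (mem_subgroupOf.2 hx) v' w' (VM.ext hw)
      rw [VM.isoG_val f (v := w') rfl, VM.isoG_val f (v := v') rfl, h3, VM.val_smul]

end GDat

end Cfsg.Agent.Omega.NO3b.Exit.Descent

end

section


/-!
# The local exit of NotFF: TYPE 2 (#18053 (3), helper999)

`MB.typeTwo` : if `|B : N_B(V^g)| = 2` for one line `V^g` which is not `B`-invariant, then `T2 B V F`:
`|B : B ∩ O₂(X)| = 2`, `f(B) = |W|`, `C_W(B ∩ O₂(X)) = C_W(B)`, `|B| |F| = |V|`, and for every line `V^x` which is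
not `B`-invariant `W = V^x C_W(B)`, `V^x ∩ C_W(B) = F`, `N_B(V^x) = B ∩ O₂(X)` acts faithfully on `V^x`.
-/

set_option autoImplicit false

namespace Cfsg.Agent.Omega.NO3b.Exit.TT

open Cfsg.Agent.Omega.FF.Basic Cfsg.Agent.Omega.FF.Quad
open Cfsg (pCore)
open scoped Pointwise

variable {X : Type*} [Group X] [Finite X] {W : Type*} [AddCommGroup W] [Finite W] [DistribMulAction X W]
  {S : Sylow 2 X} {V F : AddSubgroup W} {B : Subgroup X}

/-- The conclusion of (3) for the line `V^x`. -/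
structure T2x (B : Subgroup X) (V F : AddSubgroup W) (x : X) : Prop where
  sup : x • V ⊔ fx W B = ⊤
  inf : x • V ⊓ fx W B = F
  nf_eq : B ⊓ nf X (x • V) = B ⊓ pCore 2 X
  cf_eq : B ⊓ pCore 2 X ⊓ cf X (x • V) = ⊥
  inf₀ : x • V ⊓ fx W (B ⊓ pCore 2 X) = F

/-- The conclusion of (3): TYPE 2. -/
structure T2 (B : Subgroup X) (V F : AddSubgroup W) : Prop where
  idx : 2 * Nat.card ↥(B ⊓ pCore 2 X) = Nat.card B
  card : Nat.card B * Nat.card F = Nat.card V
  mm_eq : mm W B = Nat.card W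
  fx_eq : fx W (B ⊓ pCore 2 X) = fx W B
  all : ∀ x : X, ¬ B ≤ nf X (x • V) → T2x B V F x

theorem card_inf_lt {G : Type*} [Group G] [Finite G] {A C : Subgroup G} (hA : IsPGroup 2 A) (hne : ¬ A ≤ C) :
    2 * Nat.card ↥(A ⊓ C) ≤ Nat.card A := by
  have hf : Fact (Nat.Prime 2) := ⟨Nat.prime_two⟩
  have h1 : Nat.card ↥(A ⊓ C) < Nat.card A := by
    refine lt_of_le_of_ne (Subgroup.card_le_of_le inf_le_left) fun h => hne ?_
    have := Subgroup.eq_of_le_of_card_ge (inf_le_left : A ⊓ C ≤ A) h.ge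
    rw [← this]; exact inf_le_right
  exact two_mul_le_of_pow (IsPGroup.iff_card.1 (hA.to_le inf_le_left)) (IsPGroup.iff_card.1 hA) h1

/-- The elements which are trivial on `W / F`. -/
def KF (X : Type*) [Group X] {W : Type*} [AddCommGroup W] [DistribMulAction X W] (F : AddSubgroup W)
    (hF : ∀ x : X, ∀ f ∈ F, x • f = f) : Subgroup X where
  carrier := {x | ∀ w : W, x • w - w ∈ F}
  one_mem' := fun w => by rw [one_smul, sub_self]; exact F.zero_mem
  mul_mem' := fun {a b} ha hb w => by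
    have e : (a * b) • w - w = (a • (b • w - w)) + (a • w - w) := by rw [mul_smul, smul_sub]; abel
    rw [e, hF a _ (hb w)]; exact F.add_mem (hb w) (ha w)
  inv_mem' := fun {a} ha w => by
    have h1 := ha (a⁻¹ • w)
    rw [smul_inv_smul] at h1
    have e : a⁻¹ • w - w = -(w - a⁻¹ • w) := by abel
    rw [e]; exact F.neg_mem h1

namespace Dat

variable (h : Dat S V F)
include h

omit [Finite X] [Finite W] in
theorem KF_two {x : X} (hx : ∀ w : W, x • w - w ∈ F) : x * x = 1 := by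
  apply h.faith
  intro w
  have h1 := h.Fx x _ (hx w)
  have h2 : x • x • w = (x • w - w) + x • w := by
    have := h1
    rw [smul_sub] at this
    rw [← this]; abel
  rw [mul_smul, h2]
  have h3 := h.two (x • w)
  have e : (x • w - w) + x • w = (x • w + x • w) - w := by abel
  rw [e, h3, zero_sub]
  exact neg_eq_of_add_eq_zero_left (h.two w)

omit [Finite W] [Finite X] in
theorem KF_le : KF X F h.Fx ≤ pCore 2 X := by
  refine Lib.Cores.le_pCore ⟨fun a ha g => ?_⟩ ?_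
  · intro w
    have h1 := ha (g⁻¹ • w)
    have h2 := h.Fx g _ h1
    have e : (g * a * g⁻¹) • w - w = g • (a • g⁻¹ • w - g⁻¹ • w) := by
      rw [smul_sub, smul_inv_smul, mul_smul, mul_smul]
    rw [e, h2]; exact h1
  · intro x
    refine ⟨1, Subtype.ext ?_⟩
    have := h.KF_two x.2
    simpa only [pow_two, _root_.pow_one, _root_.Subgroup.coe_mul, _root_.OneMemClass.coe_one] using this

/-- `|V / F| > 2` -/
theorem two_lt : 2 * Nat.card F < Nat.card V := by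
  by_contra hcon
  rw [not_lt] at hcon
  have hsq : ∀ a ∈ (S : Subgroup X), ∀ v ∈ V, a • a • v = v := by
    intro a ha v hv
    have hmem : a • v - v ∈ F := by
      by_contra hne
      -- `0`, `v`, `a v - v` in different cosets
      have hvF : v ∉ F := fun h0 => hne (by rw [h.Fx a v h0, sub_self]; exact F.zero_mem)
      have havV := nf_smul (h.SV ha) hv
      have havF : a • v ∉ F := fun h0 => hvF (by
        have := h.Fx a⁻¹ _ h0
        rw [inv_smul_smul] at this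
        rw [this]; exact h0)
      have h3 : F.relIndex V ≤ 2 := by
        have := card_mul_relIndex h.FV
        have p : 0 < Nat.card F := Nat.card_pos
        rw [← this] at hcon
        by_contra h4
        rw [not_le] at h4
        have : Nat.card F * 3 ≤ Nat.card F * F.relIndex V := Nat.mul_le_mul_left _ h4
        omega
      have h4 : F.relIndex V ≠ 1 := by
        intro h5
        rw [AddSubgroup.relIndex_eq_one] at h5
        exact hvF (h5 hv)
      have h5 : F.relIndex V ≠ 0 := AddSubgroup.index_ne_zero_of_finite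
      have h6 : F.relIndex V = 2 := by omega
      have h7 := AddSubgroup.add_mem_iff_of_index_two (H := F.addSubgroupOf V) h6 (a := ⟨a • v, havV⟩)
        (b := ⟨v, hv⟩)
      have h8 : a • v + v ∈ F := by
        have : (⟨a • v, havV⟩ + ⟨v, hv⟩ : V) ∈ F.addSubgroupOf V := by
          rw [h7]
          simp only [AddSubgroup.mem_addSubgroupOf]
          exact ⟨fun h9 => absurd h9 havF, fun h9 => absurd h9 hvF⟩
        exact this
      apply hne
      have e : a • v - v = a • v + v - (v + v) := by abel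
      rw [e, h.two, sub_zero]; exact h8
    have h1 := h.Fx a _ hmem
    have h2 : a • a • v = (a • v - v) + a • v := by
      rw [smul_sub] at h1
      rw [← h1]; abel
    have e : (a • v - v) + a • v = (a • v + a • v) - v := by abel
    rw [h2, e, h.two, zero_sub]
    exact neg_eq_of_add_eq_zero_left (h.two v)
  have h1 := h.nff S S.isPGroup' h.SV hsq h.mv
  have h2 : Nat.card F ≤ Nat.card ↥(V ⊓ fx W (S : Subgroup X)) := card_le (le_inf h.FV (h.F_fx _))
  have h3 := card_inf_lt S.isPGroup' h.mv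
  have h4 : Nat.card V * Nat.card ↥((S : Subgroup X) ⊓ cf X V) ≤
      Nat.card ↥(S : Subgroup X) * Nat.card ↥(V ⊓ fx W (S : Subgroup X)) := by
    calc Nat.card V * Nat.card ↥((S : Subgroup X) ⊓ cf X V)
        ≤ (2 * Nat.card F) * Nat.card ↥((S : Subgroup X) ⊓ cf X V) := Nat.mul_le_mul_right _ hcon
      _ = (2 * Nat.card ↥((S : Subgroup X) ⊓ cf X V)) * Nat.card F := by ring
      _ ≤ Nat.card ↥(S : Subgroup X) * Nat.card F := Nat.mul_le_mul_right _ h3
      _ ≤ _ := Nat.mul_le_mul_left _ h2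
  exact absurd h1 (not_lt.2 h4)

end Dat

namespace MB

variable (m : MB W B) (h : Dat S V F)
include m h

/-- (3) for one line -/
theorem one {g : X} (hg : ¬ B ≤ nf X (g • V)) (hidx : 2 * Nat.card ↥(B ⊓ nf X (g • V)) = Nat.card B) :
    T2x B V F g ∧ 2 * Nat.card ↥(B ⊓ pCore 2 X) = Nat.card B ∧ Nat.card B * Nat.card F = Nat.card V ∧
      mm W B = Nat.card W ∧ fx W (B ⊓ pCore 2 X) = fx W B := by
  set Bg := B ⊓ nf X (g • V) with hBg
  have hBgB : Bg < B := lt_of_le_of_ne inf_le_left fun h0 => hg (by rw [← h0]; exact inf_le_right)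
  have hinf : g • V ⊓ fx W B = F :=
    le_antisymm (fx_le h hg) (le_inf (h.F_le g) (h.F_fx B))
  have hs := card_sup_inf (g • V) (fx W B)
  rw [hinf, card_smul'] at hs
  have hW := m.card_le_mm
  have p1 : 0 < Nat.card (fx W B) := Nat.card_pos
  have pF : 0 < Nat.card F := Nat.card_pos
  have hVF : ¬ g • V ≤ F := by
    intro h0
    apply hg
    have h1 : g • V = F := le_antisymm h0 (h.F_le g)
    intro b _
    rw [mem_nf, h1, h.F_smul]
  have hne : Bg ≠ ⊥ := by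
    intro h0
    have hc : Nat.card B = 2 := by rw [← hidx, h0, Subgroup.card_bot]
    rw [mm, hc] at hW
    have h1 := card_le_top (g • V ⊔ fx W B)
    have h2 : Nat.card V * Nat.card (fx W B) ≤ 2 * Nat.card F * Nat.card (fx W B) := by
      rw [← hs]
      calc Nat.card ↥(g • V ⊔ fx W B) * Nat.card F ≤ (2 * Nat.card (fx W B)) * Nat.card F :=
            Nat.mul_le_mul_right _ (h1.trans hW)
        _ = _ := by ring
    exact absurd h.two_lt (not_lt.2 (Nat.le_of_mul_le_mul_right h2 p1))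
  -- `C_W(B_g) = C_W(B)`
  have hfx : fx W Bg = fx W B := by
    refine (eq_of_card_le (fx_anti hBgB.le) ?_).symm
    have h1 := m.two_mul h hBgB hne
    rw [mm, mm, ← hidx] at h1
    have p : 0 < 2 * Nat.card Bg := Nat.mul_pos (by norm_num) Nat.card_pos
    refine Nat.le_of_mul_le_mul_left ?_ p
    calc 2 * Nat.card Bg * Nat.card (fx W Bg) = 2 * (Nat.card Bg * Nat.card (fx W Bg)) := by ring
      _ ≤ _ := h1
  have hmv : ¬ Bg ≤ cf X (g • V) := by
    intro h0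
    apply hVF
    rw [← hinf, ← hfx]
    exact le_inf le_rfl (le_cf.1 h0)
  set E := Bg ⊓ cf X (g • V) with hE
  have hea : EA Bg := m.bo.ea.mono hBgB.le
  have h1 := h.nff' g hea.isPGroup inf_le_right
    (fun a ha v _ => by rw [smul_smul, hea a ha, one_smul]) hmv
  rw [hfx, hinf] at h1
  have hf : Fact (Nat.Prime 2) := ⟨Nat.prime_two⟩
  have h2 : 2 * (Nat.card Bg * Nat.card F) ≤ Nat.card V * Nat.card E := by
    refine two_mul_le_of_pow ?_ ?_ h1
    · obtain ⟨a, ha⟩ := IsPGroup.iff_card.1 hea.isPGroup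
      obtain ⟨b, hb⟩ := card_pow h.two F
      exact ⟨a + b, by rw [ha, hb, pow_add]⟩
    · obtain ⟨a, ha⟩ := IsPGroup.iff_card.1 (hea.isPGroup.to_le (inf_le_left : E ≤ Bg))
      obtain ⟨b, hb⟩ := card_pow h.two V
      exact ⟨b + a, by rw [ha, hb, pow_add]⟩
  have h3 : g • V ⊔ fx W B ≤ fx W E :=
    sup_le (le_cf.1 inf_le_right) (fx_anti (inf_le_left.trans hBgB.le))
  have h4 := card_le h3
  have h5 : mm W B ≤ mm W E := by
    rw [mm, mm, ← hidx]
    refine Nat.le_of_mul_le_mul_right ?_ pF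
    calc 2 * Nat.card Bg * Nat.card (fx W B) * Nat.card F
        = 2 * (Nat.card Bg * Nat.card F) * Nat.card (fx W B) := by ring
      _ ≤ Nat.card V * Nat.card E * Nat.card (fx W B) := Nat.mul_le_mul_right _ h2
      _ = Nat.card E * (Nat.card V * Nat.card (fx W B)) := by ring
      _ = Nat.card E * (Nat.card ↥(g • V ⊔ fx W B) * Nat.card F) := by rw [hs]
      _ = Nat.card E * Nat.card ↥(g • V ⊔ fx W B) * Nat.card F := by ring
      _ ≤ Nat.card E * Nat.card (fx W E) * Nat.card F :=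
        Nat.mul_le_mul_right _ (Nat.mul_le_mul_left _ h4)
  have hE0 : E = ⊥ := by
    by_contra h0
    have h6 : 2 * mm W E ≤ mm W B := m.two_mul h (lt_of_le_of_lt (inf_le_left : E ≤ Bg) hBgB) h0
    have p : 0 < mm W B := Nat.mul_pos Nat.card_pos Nat.card_pos
    omega
  rw [hE0, mm_bot] at h5
  have hmm : mm W B = Nat.card W := le_antisymm h5 hW
  rw [hE0, Subgroup.card_bot, mul_one] at h2
  -- equality everywhere
  have h6 : Nat.card ↥(g • V ⊔ fx W B) = Nat.card W ∧ Nat.card V = 2 * (Nat.card Bg * Nat.card F) := by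
    have h7 := card_le_top (g • V ⊔ fx W B)
    have h8 : Nat.card W * Nat.card F = 2 * (Nat.card Bg * Nat.card F) * Nat.card (fx W B) := by
      rw [← hmm, mm, ← hidx]; ring
    have h9 : Nat.card W * Nat.card F ≤ Nat.card ↥(g • V ⊔ fx W B) * Nat.card F := by
      rw [h8, hs]; exact Nat.mul_le_mul_right _ h2
    have h10 := le_antisymm h7 (Nat.le_of_mul_le_mul_right h9 pF)
    refine ⟨h10, ?_⟩
    have h11 : Nat.card V * Nat.card (fx W B) = 2 * (Nat.card Bg * Nat.card F) * Nat.card (fx W B) := by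
      rw [← hs, h10, h8]
    exact Nat.eq_of_mul_eq_mul_right p1 h11
  have hsup : g • V ⊔ fx W B = ⊤ := by
    apply eq_of_card_le le_top
    rw [card_top, h6.1]
  -- `B_g ≤ O₂(X)`
  have hBgQ : Bg ≤ pCore 2 X := by
    refine le_trans (fun b hb => ?_) h.KF_le
    intro w
    have hw : w ∈ g • V ⊔ fx W B := by rw [hsup]; exact AddSubgroup.mem_top w
    obtain ⟨v, hv, c, hc, rfl⟩ := mem_sup hw
    have e : b • (v + c) - (v + c) = (b • v - v) + (b • c - c) := by rw [smul_add]; abel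
    rw [e, hc b (hBgB.le hb), sub_self, add_zero]
    exact m.comm_le h hg (hBgB.le hb) hb.2 hv
  have hBg0 : Bg = B ⊓ pCore 2 X :=
    le_antisymm (le_inf inf_le_left hBgQ) (le_inf inf_le_left (inf_le_right.trans (h.core_nf g)))
  refine ⟨⟨hsup, hinf, hBg0, ?_, ?_⟩, ?_, ?_, hmm, ?_⟩
  · rw [← hBg0]; exact hE0
  · rw [← hBg0, hfx]; exact hinf
  · rw [← hBg0]; exact hidx
  · rw [h6.2, ← hidx]; ring
  · rw [← hBg0]; exact hfx

/-- `[W, B ∩ O₂(X)] ≤ F` in TYPE 2 -/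
theorem T2.comm_core {B : Subgroup X} {V F : AddSubgroup W} (t : T2 B V F) (m : MB W B) (h : Dat S V F) {g : X}
    (hg : ¬ B ≤ nf X (g • V)) {b : X} (hb : b ∈ B ⊓ pCore 2 X) (w : W) : b • w - w ∈ F := by
  have tx := t.all g hg
  have hw : w ∈ g • V ⊔ fx W B := by rw [tx.sup]; exact AddSubgroup.mem_top w
  obtain ⟨v, hv, c, hc, rfl⟩ := mem_sup hw
  have e : b • (v + c) - (v + c) = (b • v - v) + (b • c - c) := by rw [smul_add]; abel
  rw [e, hc b hb.1, sub_self, add_zero]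
  have hb' : b ∈ B ⊓ nf X (g • V) := by rw [tx.nf_eq]; exact hb
  exact m.comm_le h hg hb.1 hb'.2 hv

end MB

end Cfsg.Agent.Omega.NO3b.Exit.TT

end

section


/-!
# END5 (#23013), the block lemma: the stabilisers of two different points generate

`Y` acts irreducibly on the finite additive group `A` of exponent 2, `K = End_Y(A)`, and `Y` induces all
`K`-transvections of `A`.  If `X ≤ Y` contains `C_Y(n)` and `C_Y(n')`, `n'` not a multiple of `n ≠ 0`, then `X = Y`.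
-/

set_option autoImplicit false

namespace Cfsg.Agent.Omega.NO3b.BasePt.TwoPts

open Subgroup Cfsg.Agent.Omega.NO3b.Exit.Ten
open Cfsg.Agent.Omega.NO3b.Exit.Descent (AllTv)

universe u v

variable {Y : Type u} {A : Type v} [Group Y] [AddCommGroup A] [DistribMulAction Y A] [Finite A] [hI : IsIrr Y A]

/-- a functional with given values on two independent vectors -/
theorem exists_dual {n m : A} (hn : n ≠ 0) (hm : ∀ κ : KK Y A, m ≠ κ • n) (c d : KK Y A) :
    ∃ φ : Module.Dual (KK Y A) A, φ n = c ∧ φ m = d := by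
  have h1 : m ∉ Submodule.span (KK Y A) ({n} : Set A) := by
    intro h
    obtain ⟨κ, hκ⟩ := Submodule.mem_span_singleton.1 h
    exact hm κ hκ.symm
  have h2 : n ∉ Submodule.span (KK Y A) ({m} : Set A) := by
    intro h
    obtain ⟨κ, hκ⟩ := Submodule.mem_span_singleton.1 h
    have h0 : κ ≠ 0 := by
      rintro rfl
      rw [zero_smul] at hκ
      exact hn hκ.symm
    apply hm κ⁻¹
    rw [← hκ, smul_smul, inv_mul_cancel₀ h0, one_smul]
  obtain ⟨α, hα1, hα2⟩ := Submodule.exists_dual_map_eq_bot_of_notMem h1 inferInstance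
  obtain ⟨β, hβ1, hβ2⟩ := Submodule.exists_dual_map_eq_bot_of_notMem h2 inferInstance
  have hαn : α n = 0 := by
    have h : α n ∈ (Submodule.span (KK Y A) ({n} : Set A)).map α := ⟨n, Submodule.mem_span_singleton_self n, rfl⟩
    rw [hα2, Submodule.mem_bot] at h
    exact h
  have hβm : β m = 0 := by
    have h : β m ∈ (Submodule.span (KK Y A) ({m} : Set A)).map β := ⟨m, Submodule.mem_span_singleton_self m, rfl⟩
    rw [hβ2, Submodule.mem_bot] at h
    exact h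
  refine ⟨(c * (β n)⁻¹) • β + (d * (α m)⁻¹) • α, ?_, ?_⟩
  · rw [LinearMap.add_apply, LinearMap.smul_apply, LinearMap.smul_apply, hαn, smul_zero, add_zero, smul_eq_mul,
      mul_assoc, inv_mul_cancel₀ hβ1, mul_one]
  · rw [LinearMap.add_apply, LinearMap.smul_apply, LinearMap.smul_apply, hβm, smul_zero, zero_add, smul_eq_mul,
      mul_assoc, inv_mul_cancel₀ hα1, mul_one]

end Cfsg.Agent.Omega.NO3b.BasePt.TwoPts

end

private theorem dce_fad71eababd2 : _root_.True := by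
  try have : _root_.True := by simp only [_root_.Cfsg.Agent.Omega.NO3b.Exit.Ten.KK.mk.congr_simp]
  exact _root_.True.intro
end

-- part: Mrg/Omega/NO3b/Exit/TightDat
section
prune_inst 0x9100214403400000001c050090001cd7d6000090000c04001c00014204865a0280000821fc800801103a004400340000004400100010000000000400011801a0808240003300a104240097807887110000000000000000000000000000041004004010000
set_option linter.all false
open scoped Cfsg.Agent.FastGrp

-- merged: Cfsg.Agent.Mrg.Omega.NO3b.Exit.TenBase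
section

section


/-!
# The second half of LOC (#18653, helper776), part 1: the situation; (0), (1)

Abstract form.  A finite group `H` acts faithfully on an additive group `U` of exponent 2, `br y u = y • u - u`.

* `Dat Y Q BB V F L C h` : `F ≤ V ≤ C`, `U = L + C`, `L ∩ C = F`; `BB` is trivial on `C` and on `U / C`; `y ∈ BB`
  satisfies `[U, y] ≤ F` or moves `L` (`[l, y] ∈ L` only for `l ∈ F`); `Y` normalises `BB` and is trivial on
  `U / V`; `Q ≤ Y` is trivial on `U / F` and on `F`; `h` maps `L` onto `V`, is trivial on `F`, and conjugates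
  `A₀ = {y ∈ BB | [U, y] ≤ F}` into `Q`; `A₀ ≠ 1`; `Q ≤ N` normal in `Y` implies `N = Y`; a normal subgroup of `Y`
  which acts on `V` as a 2-group centralises `V`;
* `Dat.br_conj` : `[u, k y k⁻¹] = k [u, y]`; `Dat.br_comm` : `[u, [k, y]] = [[u, y], k]` for `k ∈ Y`, `y ∈ BB`;
* `Dat.span` : `V = [L, y] + F`; `Dat.surj` : `[y, Q] = A₀` for `y ∈ BB - A₀`, `[U, y] ≤ V`.
-/

set_option autoImplicit false

namespace Cfsg.Agent.Omega.NO3b.Exit.Ten

open Subgroup

universe u v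

/-! ### Brackets -/

section br

variable {H : Type u} {U : Type v} [Group H] [AddCommGroup U] [DistribMulAction H U]

/-- `[u, y] = y • u - u` -/
def br (y : H) (u : U) : U := y • u - u

theorem br_def (y : H) (u : U) : br y u = y • u - u := rfl

theorem smul_eq (y : H) (u : U) : y • u = br y u + u := by rw [br_def]; abel

theorem br_one (u : U) : br (1 : H) u = 0 := by rw [br_def, one_smul, sub_self]

theorem br_zero (y : H) : br y (0 : U) = 0 := by rw [br_def, smul_zero, sub_self]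

theorem br_add (y : H) (u v : U) : br y (u + v) = br y u + br y v := by
  simp only [br_def, smul_add]; abel

theorem br_sub (y : H) (u v : U) : br y (u - v) = br y u - br y v := by
  simp only [br_def, smul_sub]; abel

theorem br_mul (x y : H) (u : U) : br (x * y) u = br x (br y u) + br y u + br x u := by
  simp only [br_def, mul_smul, smul_sub]; abel

theorem br_eq_zero {y : H} {u : U} : br y u = 0 ↔ y • u = u := by rw [br_def, sub_eq_zero]

theorem br_conj_smul (k y : H) (u : U) : br (k * y * k⁻¹) (k • u) = k • br y u := by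
  simp only [br_def, smul_smul, smul_sub, inv_mul_cancel_right]

end br

/-! ### The situation -/

section dat

variable {H : Type u} {U : Type v} [Group H] [AddCommGroup U] [DistribMulAction H U]

/-- The situation of #18653. -/
structure Dat (Y Q BB : Subgroup H) (V F L C : AddSubgroup U) (h : H) : Prop where
  faith : ∀ y : H, (∀ u : U, y • u = u) → y = 1
  two : ∀ u : U, u + u = 0
  FV : F ≤ V
  VC : V ≤ C
  FL : F ≤ L
  LC : ∀ u : U, ∃ l ∈ L, ∃ c ∈ C, u = l + c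
  LF : ∀ u ∈ L, u ∈ C → u ∈ F
  bC : ∀ y ∈ BB, ∀ c ∈ C, y • c = c
  bU : ∀ y ∈ BB, ∀ u : U, br y u ∈ C
  mov : ∀ y ∈ BB, (∀ u : U, br y u ∈ F) ∨ ∀ l ∈ L, br y l ∈ L → l ∈ F
  yB : ∀ k ∈ Y, ∀ b ∈ BB, k * b * k⁻¹ ∈ BB
  yV : ∀ k ∈ Y, ∀ u : U, br k u ∈ V
  QY : Q ≤ Y
  qF : ∀ d ∈ Q, ∀ f ∈ F, d • f = f
  qU : ∀ d ∈ Q, ∀ u : U, br d u ∈ F
  hL : ∀ l ∈ L, h • l ∈ V
  hV : ∀ v ∈ V, h⁻¹ • v ∈ L
  hF : ∀ f ∈ F, h • f = f
  hA : ∀ y ∈ BB, (∀ u : U, br y u ∈ F) → h * y * h⁻¹ ∈ Q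
  ne : ∃ y ∈ BB, y ≠ 1 ∧ ∀ u : U, br y u ∈ F
  gen : ∀ N : Subgroup H, N ≤ Y → (∀ k ∈ Y, ∀ n ∈ N, k * n * k⁻¹ ∈ N) → Q ≤ N → Y ≤ N
  red : ∀ N : Subgroup H, N ≤ Y → (∀ k ∈ Y, ∀ n ∈ N, k * n * k⁻¹ ∈ N) →
    (∀ n ∈ N, ∃ j : ℕ, ∀ v ∈ V, n ^ 2 ^ j • v = v) → ∀ n ∈ N, ∀ v ∈ V, n • v = v

namespace Dat

variable {Y Q BB : Subgroup H} {V F L C : AddSubgroup U} {h : H} (D : Dat Y Q BB V F L C h)
include D

theorem ext {x y : H} (hxy : ∀ u : U, br x u = br y u) : x = y := by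
  have h1 : y⁻¹ * x = 1 := D.faith _ fun u => by
    rw [mul_smul, smul_eq x u, hxy u, ← smul_eq y u, inv_smul_smul]
  exact (inv_mul_eq_one.1 h1).symm

theorem neg_eq (u : U) : -u = u := neg_eq_of_add_eq_zero_left (D.two u)

theorem sub_eq_add (u v : U) : u - v = u + v := by rw [sub_eq_add_neg, D.neg_eq]

theorem br_C {y : H} (hy : y ∈ BB) {c : U} (hc : c ∈ C) : br y c = 0 := br_eq_zero.2 (D.bC y hy c hc)

theorem br_mul_B {x y : H} (hx : x ∈ BB) (hy : y ∈ BB) (u : U) : br (x * y) u = br x u + br y u := by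
  rw [br_mul, D.br_C hx (D.bU y hy u), zero_add, add_comm]

theorem sq_B {y : H} (hy : y ∈ BB) : y * y = 1 :=
  D.ext fun u => by rw [D.br_mul_B hy hy, D.two, br_one]

theorem comm_B {x y : H} (hx : x ∈ BB) (hy : y ∈ BB) : x * y = y * x :=
  D.ext fun u => by rw [D.br_mul_B hx hy, D.br_mul_B hy hx, add_comm]

theorem inv_B {y : H} (hy : y ∈ BB) : y⁻¹ = y := inv_eq_of_mul_eq_one_left (D.sq_B hy)

theorem smul_V {k : H} (hk : k ∈ Y) {v : U} (hv : v ∈ V) : k • v ∈ V := by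
  rw [smul_eq]; exact V.add_mem (D.yV k hk v) hv

/-- `[u, k y k⁻¹] = k [u, y]`, if `k` is trivial on `U / C` -/
theorem br_conj' {k y : H} (hk : ∀ u : U, br k⁻¹ u ∈ C) (hy : y ∈ BB) (u : U) :
    br (k * y * k⁻¹) u = k • br y u := by
  have e : u = k • (k⁻¹ • u) := (smul_inv_smul k u).symm
  conv_lhs => rw [e]
  rw [br_conj_smul, smul_eq k⁻¹ u, br_add, D.br_C hy (hk u), zero_add]

/-- `[u, k y k⁻¹] = k [u, y]` -/
theorem br_conj {k y : H} (hk : k ∈ Y) (hy : y ∈ BB) (u : U) : br (k * y * k⁻¹) u = k • br y u :=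
  D.br_conj' (fun u => D.VC (D.yV _ (inv_mem hk) u)) hy u

/-- `[u, [k, y]] = [[u, y], k]` -/
theorem br_comm {k y : H} (hk : k ∈ Y) (hy : y ∈ BB) (u : U) :
    br (k * y * k⁻¹ * y⁻¹) u = br k (br y u) := by
  rw [D.inv_B hy, D.br_mul_B (D.yB k hk y hy) hy, D.br_conj hk hy, br_def k, D.sub_eq_add]

theorem comm_mem {k y : H} (hk : k ∈ Y) (hy : y ∈ BB) : k * y * k⁻¹ * y⁻¹ ∈ BB :=
  mul_mem (D.yB k hk y hy) (inv_mem hy)

/-- an element of `BB` is determined by its action on `L` -/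
theorem eq_one {y : H} (hy : y ∈ BB) (hl : ∀ l ∈ L, br y l = 0) : y = 1 :=
  D.ext fun u => by
    obtain ⟨l, hlL, c, hc, rfl⟩ := D.LC u
    rw [br_add, hl l hlL, D.br_C hy hc, add_zero, br_one]

/-- `A₀` -/
def AZ : Subgroup H where
  carrier := {y | y ∈ BB ∧ ∀ u : U, br y u ∈ F}
  one_mem' := ⟨one_mem _, fun u => by rw [br_one]; exact zero_mem _⟩
  mul_mem' := by
    rintro x y ⟨hx, hx'⟩ ⟨hy, hy'⟩
    exact ⟨mul_mem hx hy, fun u => by rw [D.br_mul_B hx hy]; exact F.add_mem (hx' u) (hy' u)⟩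
  inv_mem' := by
    rintro x ⟨hx, hx'⟩
    rw [D.inv_B hx]
    exact ⟨hx, hx'⟩

theorem AZ_le : D.AZ ≤ BB := fun _ hy => hy.1

theorem inj {y : H} (hy : y ∈ BB) (hy' : y ∉ D.AZ) {l : U} (hl : l ∈ L) (hb : br y l ∈ L) : l ∈ F := by
  rcases D.mov y hy with h1 | h1
  · exact absurd ⟨hy, h1⟩ hy'
  · exact h1 l hl hb

theorem inj0 {y : H} (hy : y ∈ BB) (hy' : y ∉ D.AZ) {l : U} (hl : l ∈ L) (hb : br y l = 0) : l ∈ F :=
  D.inj hy hy' hl (by rw [hb]; exact zero_mem _)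

/-- `Q` centralises `A₀` -/
theorem br_Q_AZ {d y : H} (hd : d ∈ Q) (hy : y ∈ D.AZ) : d * y * d⁻¹ = y := by
  have h1 : d * y * d⁻¹ * y⁻¹ = 1 := D.ext fun u => by
    rw [D.br_comm (D.QY hd) hy.1, br_eq_zero.2 (D.qF d hd _ (hy.2 u)), br_one]
  exact mul_inv_eq_one.1 h1

/-- `[BB, Q] ≤ A₀` -/
theorem comm_Q {d y : H} (hd : d ∈ Q) (hy : y ∈ BB) : d * y * d⁻¹ * y⁻¹ ∈ D.AZ :=
  ⟨D.comm_mem (D.QY hd) hy, fun u => by rw [D.br_comm (D.QY hd) hy]; exact D.qU d hd _⟩

/-- `Q` is elementary abelian. -/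
theorem Q_comm {d d' : H} (hd : d ∈ Q) (hd' : d' ∈ Q) : d * d' = d' * d :=
  D.ext fun u => by
    rw [br_mul, br_mul, br_eq_zero.2 (D.qF d hd _ (D.qU d' hd' u)),
      br_eq_zero.2 (D.qF d' hd' _ (D.qU d hd u)), zero_add, zero_add, add_comm]

theorem Q_sq {d : H} (hd : d ∈ Q) : d * d = 1 :=
  D.ext fun u => by
    rw [br_mul, br_eq_zero.2 (D.qF d hd _ (D.qU d hd u)), zero_add, D.two, br_one]

/-- `[u, h s h⁻¹] = [h⁻¹ u, s]` for `s ∈ A₀` -/
theorem br_h {s : H} (hs : s ∈ D.AZ) (u : U) : br (h * s * h⁻¹) u = br s (h⁻¹ • u) := by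
  have e : u = h • (h⁻¹ • u) := (smul_inv_smul h u).symm
  conv_lhs => rw [e]
  rw [br_conj_smul, D.hF _ (hs.2 _)]

/-- `h s h⁻¹` is faithful on `V` -/
theorem h_faith {s : H} (hs : s ∈ D.AZ) (h1 : ∀ v ∈ V, br (h * s * h⁻¹) v = 0) : s = 1 := by
  refine D.eq_one hs.1 fun l hl => ?_
  have h2 := h1 (h • l) (D.hL l hl)
  rwa [D.br_h hs, inv_smul_smul] at h2

variable [Finite U]

/-- `V = [L, y] + F` -/
theorem span {y : H} (hy : y ∈ BB) (hy' : y ∉ D.AZ) (hV : ∀ u : U, br y u ∈ V) {v : U} (hv : v ∈ V) :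
    ∃ l ∈ L, ∃ f ∈ F, v = br y l + f := by
  classical
  -- the map `L → V / F`
  let θ : L →+ V ⧸ F.addSubgroupOf V :=
    { toFun := fun l => QuotientAddGroup.mk (⟨br y (l : U), hV l⟩ : V)
      map_zero' := by
        have e : (⟨br y ((0 : L) : U), hV _⟩ : V) = 0 := Subtype.ext (br_zero y)
        rw [e]; rfl
      map_add' := fun a b => by
        have e : (⟨br y ((a + b : L) : U), hV _⟩ : V) = ⟨br y (a : U), hV a⟩ + ⟨br y (b : U), hV b⟩ :=
          Subtype.ext (br_add y (a : U) b)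
        rw [e]; rfl }
  have hker : θ.ker = F.addSubgroupOf L := by
    ext l
    rw [AddMonoidHom.mem_ker]
    change (QuotientAddGroup.mk (⟨br y (l : U), hV l⟩ : V) : V ⧸ F.addSubgroupOf V) = 0 ↔ _
    rw [QuotientAddGroup.eq_zero_iff, AddSubgroup.mem_addSubgroupOf, AddSubgroup.mem_addSubgroupOf]
    constructor
    · intro h1
      exact D.inj hy hy' l.2 (D.FL h1)
    · intro h1
      change br y (l : U) ∈ F
      rw [D.br_C hy (D.VC (D.FV h1))]
      exact zero_mem _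
  have hLV : Nat.card L = Nat.card V := by
    refine Nat.card_congr ⟨fun l => ⟨h • (l : U), D.hL l l.2⟩, fun v => ⟨h⁻¹ • (v : U), D.hV v v.2⟩,
      fun l => Subtype.ext (inv_smul_smul h _), fun v => Subtype.ext (smul_inv_smul h _)⟩
  have c1 : Nat.card θ.ker * Nat.card θ.range = Nat.card L := by
    rw [← AddSubgroup.index_ker]
    exact θ.ker.card_mul_index
  have c2 : Nat.card (F.addSubgroupOf V) * Nat.card (V ⧸ F.addSubgroupOf V) = Nat.card V :=
    (F.addSubgroupOf V).card_mul_index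
  have c3 : Nat.card θ.ker = Nat.card F := by
    rw [hker]
    exact Nat.card_congr (AddSubgroup.addSubgroupOfEquivOfLe D.FL).toEquiv
  have c4 : Nat.card (F.addSubgroupOf V) = Nat.card F :=
    Nat.card_congr (AddSubgroup.addSubgroupOfEquivOfLe D.FV).toEquiv
  have hF0 : 0 < Nat.card F := Nat.card_pos
  have c5 : Nat.card θ.range = Nat.card (V ⧸ F.addSubgroupOf V) := by
    refine Nat.eq_of_mul_eq_mul_left hF0 ?_
    rw [← c3, c1, hLV, ← c2, c3, c4]
  have c6 : θ.range = ⊤ := AddSubgroup.eq_top_of_card_eq _ c5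
  have h1 : (QuotientAddGroup.mk (⟨v, hv⟩ : V) : V ⧸ F.addSubgroupOf V) ∈ θ.range := by
    rw [c6]; trivial
  obtain ⟨l, hl⟩ := h1
  have h2 := QuotientAddGroup.eq.1 hl
  rw [AddSubgroup.mem_addSubgroupOf] at h2
  refine ⟨l, l.2, _, h2, ?_⟩
  change v = br y (l : U) + (-br y (l : U) + v)
  abel

/-- **(1)** `[y, Q] = A₀` -/
theorem surj [Finite H] {y : H} (hy : y ∈ BB) (hy' : y ∉ D.AZ) (hV : ∀ u : U, br y u ∈ V) {s : H}
    (hs : s ∈ D.AZ) : ∃ d ∈ Q, d * y * d⁻¹ * y⁻¹ = s := by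
  classical
  have hQ : ∀ s ∈ D.AZ, h * s * h⁻¹ ∈ Q := fun s hs => D.hA s hs.1 hs.2
  let φ : D.AZ → D.AZ := fun s =>
    ⟨h * (s : H) * h⁻¹ * y * (h * (s : H) * h⁻¹)⁻¹ * y⁻¹, D.comm_Q (hQ s s.2) hy⟩
  have hφ : Function.Injective φ := by
    intro s t hst
    have h1 : h * (s : H) * h⁻¹ * y * (h * (s : H) * h⁻¹)⁻¹ * y⁻¹ =
        h * (t : H) * h⁻¹ * y * (h * (t : H) * h⁻¹)⁻¹ * y⁻¹ := congrArg Subtype.val hst
    -- `s t⁻¹` is trivial on `V`
    have h2 : ∀ u : U, br (h * (s : H) * h⁻¹) (br y u) = br (h * (t : H) * h⁻¹) (br y u) := by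
      intro u
      rw [← D.br_comm (D.QY (hQ s s.2)) hy, h1, D.br_comm (D.QY (hQ t t.2)) hy]
    have h3 : ∀ v ∈ V, br (h * (s : H) * h⁻¹) v = br (h * (t : H) * h⁻¹) v := by
      intro v hv
      obtain ⟨l, hl, f, hf, rfl⟩ := D.span hy hy' hV hv
      rw [br_add, br_add, h2, br_eq_zero.2 (D.qF _ (hQ s s.2) f hf), br_eq_zero.2 (D.qF _ (hQ t t.2) f hf)]
    have h4 : (s : H) * (t : H) = 1 := by
      refine D.h_faith (mul_mem s.2 t.2) fun v hv => ?_
      have e : h * ((s : H) * (t : H)) * h⁻¹ = h * (s : H) * h⁻¹ * (h * (t : H) * h⁻¹) := by group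
      rw [e, br_mul, br_eq_zero.2 (D.qF _ (hQ s s.2) _ (D.qU _ (hQ t t.2) v)), zero_add, h3 v hv, D.two]
    have h5 := D.sq_B (D.AZ_le t.2)
    exact Subtype.ext (mul_right_cancel (h4.trans h5.symm))
  obtain ⟨t, ht⟩ := (Finite.injective_iff_surjective.1 hφ) ⟨s, hs⟩
  exact ⟨_, hQ t t.2, congrArg Subtype.val ht⟩

end Dat

end dat

end Cfsg.Agent.Omega.NO3b.Exit.Ten

end

section


/-!
# The second half of LOC (#18653, helper776), part 2: (2), (3), (4) first part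

`D : Dat Y Q BB V F L C h`.

* `Y0 Y` : the subgroup generated by the elements of odd order of `Y`; `Dat.exists_mul` : `Y = Y0 Q`;
* `Dat.AA` : `[BB, O²(Y)]`; `AA_V` : `[U, AA] ≤ V`; `AA_le_of` : coprime action;
* `Dat.eq_one_of_fix` : **(2)** `s ∈ A₀` fixed by `Y0` is trivial;
* `Dat.exists_notMem` : **(3)** `AA ≰ A₀`; `AZ_le_AA`; `fix_eq_one` : `C_AA(Y0) = 1`;
* `Dat.irr` : `AA` is an irreducible `Y`-module.
-/

set_option autoImplicit false

namespace Cfsg.Agent.Omega.NO3b.Exit.Ten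

open Subgroup

universe u v

/-! ### Maximal subgroups over `O^p` -/

theorem normal_of_coatom {Y : Type u} [Group Y] [Finite Y] {O : Subgroup Y} [hO : O.Normal]
    (h2 : IsPGroup 2 (Y ⧸ O)) {K : Subgroup Y} (hK : IsCoatom K) (hOK : O ≤ K) : K.Normal := by
  have : Fact (Nat.Prime 2) := ⟨Nat.prime_two⟩
  have hnil : Group.IsNilpotent (Y ⧸ O) := h2.isNilpotent
  have e1 : (K.map (QuotientGroup.mk' O)).comap (QuotientGroup.mk' O) = K := by
    rw [QuotientGroup.comap_map_mk', sup_eq_right.2 hOK]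
  have hco : IsCoatom (K.map (QuotientGroup.mk' O)) := by
    constructor
    · intro h
      rw [h, comap_top] at e1
      exact hK.1 e1.symm
    · intro N hN
      have h3 : K < N.comap (QuotientGroup.mk' O) := by
        refine lt_of_le_of_ne (map_le_iff_le_comap.1 hN.le) fun h4 => ?_
        apply hN.ne
        rw [h4, map_comap_eq_self_of_surjective (QuotientGroup.mk'_surjective O)]
      have h4 := hK.2 _ h3
      rw [← map_comap_eq_self_of_surjective (QuotientGroup.mk'_surjective O) N, h4,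
        map_top_of_surjective _ (QuotientGroup.mk'_surjective O)]
  have hn : (K.map (QuotientGroup.mk' O)).Normal :=
    NormalizerCondition.normal_of_coatom _ (Group.normalizerCondition_of_isNilpotent) hco
  rw [← e1]
  exact hn.comap _

section y0

variable {H : Type u} [Group H]

/-- The subgroup generated by the elements of odd order of `Y`. -/
def Y0 (Y : Subgroup H) : Subgroup H := closure {k | k ∈ Y ∧ Odd (orderOf k)}

theorem Y0_le (Y : Subgroup H) : Y0 Y ≤ Y := (closure_le _).2 fun _ hk => hk.1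

theorem orderOf_conj' (k n : H) : orderOf (k * n * k⁻¹) = orderOf n :=
  orderOf_injective (MulAut.conj k).toMonoidHom (MulAut.conj k).injective n

theorem Y0_conj {Y : Subgroup H} {k n : H} (hk : k ∈ Y) (hn : n ∈ Y0 Y) : k * n * k⁻¹ ∈ Y0 Y := by
  induction hn using closure_induction with
  | mem x hx => exact subset_closure ⟨mul_mem (mul_mem hk hx.1) (inv_mem hk), by rw [orderOf_conj']; exact hx.2⟩
  | one => rw [mul_one, mul_inv_cancel]; exact one_mem _
  | mul x y _ _ hx hy =>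
    have e : k * (x * y) * k⁻¹ = k * x * k⁻¹ * (k * y * k⁻¹) := by group
    rw [e]; exact mul_mem hx hy
  | inv x _ hx =>
    have e : k * x⁻¹ * k⁻¹ = (k * x * k⁻¹)⁻¹ := by group
    rw [e]; exact inv_mem hx

/-- `Y = Y0 Q` if the normal closure of `Q` in `Y` is `Y`. -/
theorem exists_mul_of [Finite H] {Y Q : Subgroup H} (hQY : Q ≤ Y)
    (hgen : ∀ N : Subgroup H, N ≤ Y → (∀ k ∈ Y, ∀ n ∈ N, k * n * k⁻¹ ∈ N) → Q ≤ N → Y ≤ N) {k : H} (hk : k ∈ Y) :
    ∃ k0 ∈ Y0 Y, ∃ d ∈ Q, k = k0 * d := by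
  have hO : ((Y0 Y).subgroupOf Y).Normal := ⟨fun n hn g => by
    rw [mem_subgroupOf] at hn ⊢
    exact Y0_conj g.2 hn⟩
  have h2 : IsPGroup 2 (Y ⧸ (Y0 Y).subgroupOf Y) := by
    intro q
    induction q using QuotientGroup.induction_on with | _ x =>
    obtain ⟨a, m, hm, h⟩ := Nat.exists_eq_two_pow_mul_odd (n := orderOf (x : H)) (orderOf_pos _).ne'
    refine ⟨a, ?_⟩
    rw [← QuotientGroup.mk_pow, QuotientGroup.eq_one_iff, mem_subgroupOf]
    refine subset_closure ⟨pow_mem x.2 _, ?_⟩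
    have h1 : ((x : H) ^ 2 ^ a) ^ m = 1 := by
      rw [← pow_mul, ← h, pow_orderOf_eq_one]
    exact Odd.of_dvd_nat hm (orderOf_dvd_of_pow_eq_one h1)
  have htop : (Y0 Y).subgroupOf Y ⊔ Q.subgroupOf Y = ⊤ := by
    by_contra hne
    obtain ⟨K, hK, hle⟩ := (eq_top_or_exists_le_coatom ((Y0 Y).subgroupOf Y ⊔ Q.subgroupOf Y)).resolve_left hne
    have hKn := normal_of_coatom h2 hK (le_sup_left.trans hle)
    have h3 : Y ≤ K.map Y.subtype := by
      refine hgen _ (map_subtype_le K) ?_ ?_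
      · rintro g hg _ ⟨n, hn, rfl⟩
        exact ⟨⟨g, hg⟩ * n * ⟨g, hg⟩⁻¹, hKn.conj_mem n hn ⟨g, hg⟩, rfl⟩
      · intro d hd
        exact ⟨⟨d, hQY hd⟩, hle (le_sup_right (a := (Y0 Y).subgroupOf Y) hd), rfl⟩
    apply hK.1
    rw [eq_top_iff]
    intro x _
    obtain ⟨y, hy, hyx⟩ := h3 x.2
    rwa [← Subtype.ext hyx]
  have h3 : (⟨k, hk⟩ : Y) ∈ (Y0 Y).subgroupOf Y ⊔ Q.subgroupOf Y := by rw [htop]; trivial
  rw [mem_sup_of_normal_left] at h3
  obtain ⟨a, ha, b, hb, hab⟩ := h3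
  exact ⟨a, ha, b, hb, (congrArg Subtype.val hab).symm⟩

end y0

/-! ### Coprime commutators -/

section cop

variable {H : Type u} {U : Type v} [Group H] [AddCommGroup U] [DistribMulAction H U]

theorem br_sq (two : ∀ u : U, u + u = 0) (k : H) (u : U) : br (k ^ 2) u = br k (br k u) := by
  rw [pow_two, br_mul, add_assoc, two, add_zero]

theorem br_pow (two : ∀ u : U, u + u = 0) (k : H) (j : ℕ) (u : U) : br (k ^ 2 ^ j) u = (br k)^[2 ^ j] u := by
  induction j generalizing u with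
  | zero => simp
  | succ j ih =>
    rw [pow_succ 2 j, pow_mul, br_sq two, ih, ih, ← Function.iterate_add_apply, ← mul_two]

/-- an odd order element is a `2^j`-th power of itself -/
theorem exists_pow_eq {k : H} (hk : Odd (orderOf k)) : ∃ j : ℕ, k ^ 2 ^ (j + 1) = k := by
  have hc : Nat.Coprime 2 (orderOf k) := (Nat.coprime_two_left).2 hk
  have h0 : 0 < orderOf k := hk.pos
  have h1 := Nat.ModEq.pow_totient hc
  have h2 : 0 < (orderOf k).totient := Nat.totient_pos.2 h0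
  refine ⟨(orderOf k).totient - 1, ?_⟩
  rw [Nat.sub_add_cancel h2]
  have h3 : k ^ 2 ^ (orderOf k).totient = k ^ 1 := by
    rw [pow_eq_pow_iff_modEq]
    exact h1
  rw [h3, pow_one]

end cop

section dat

variable {H : Type u} {U : Type v} [Group H] [AddCommGroup U] [DistribMulAction H U]

/-- `[k, y]` -/
def cm (k y : H) : H := k * y * k⁻¹ * y⁻¹

/-- `[BB, O²(Y)]` -/
def AAs (Y BB : Subgroup H) : Subgroup H :=
  closure {x | ∃ k ∈ Y, Odd (orderOf k) ∧ ∃ y ∈ BB, x = cm k y}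

namespace Dat

variable {Y Q BB : Subgroup H} {V F L C : AddSubgroup U} {h : H}

/-- `AA = [BB, O²(Y)]` -/
def AA (_D : Dat Y Q BB V F L C h) : Subgroup H := AAs Y BB

variable (D : Dat Y Q BB V F L C h)
include D

theorem cm_mem {k y : H} (hk : k ∈ Y) (hy : y ∈ BB) : cm k y ∈ BB := D.comm_mem hk hy

theorem br_cm {k y : H} (hk : k ∈ Y) (hy : y ∈ BB) (u : U) : br (cm k y) u = br k (br y u) :=
  D.br_comm hk hy u

theorem cm_iter {k y : H} (hk : k ∈ Y) (hy : y ∈ BB) (n : ℕ) :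
    (cm k)^[n] y ∈ BB ∧ ∀ u : U, br ((cm k)^[n] y) u = (br k)^[n] (br y u) := by
  induction n with
  | zero => exact ⟨hy, fun u => rfl⟩
  | succ n ih =>
    rw [Function.iterate_succ_apply']
    refine ⟨D.cm_mem hk ih.1, fun u => ?_⟩
    rw [D.br_cm hk ih.1, ih.2, Function.iterate_succ_apply']

/-- `[k, y]` is a repeated commutator -/
theorem cm_eq {k y : H} (hk : k ∈ Y) (ho : Odd (orderOf k)) (hy : y ∈ BB) :
    ∃ y' ∈ BB, cm k y = cm k (cm k y') := by
  obtain ⟨j, hj⟩ := exists_pow_eq ho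
  have h1 : cm k y = (cm k)^[2 ^ (j + 1)] y := D.ext fun u => by
    rw [(D.cm_iter hk hy _).2, D.br_cm hk hy, ← br_pow D.two, hj]
  obtain ⟨n, hn⟩ : ∃ n, 2 ^ (j + 1) = n + 2 :=
    ⟨2 ^ (j + 1) - 2, by
      have : 2 ≤ 2 ^ (j + 1) := by rw [pow_succ]; have := Nat.one_le_two_pow (n := j); omega
      omega⟩
  refine ⟨(cm k)^[n] y, (D.cm_iter hk hy n).1, ?_⟩
  rw [h1, hn, Function.iterate_add_apply]
  have h2 : (cm k)^[2] y = cm k (cm k y) := rfl
  rw [← Function.iterate_add_apply, add_comm, Function.iterate_add_apply]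
  rfl

theorem AA_le : D.AA ≤ BB := by
  refine (closure_le _).2 ?_
  rintro _ ⟨k, hk, -, y, hy, rfl⟩
  exact D.cm_mem hk hy

theorem AA_conj {k x : H} (hk : k ∈ Y) (hx : x ∈ D.AA) : k * x * k⁻¹ ∈ D.AA := by
  induction hx using closure_induction with
  | mem x hx =>
    obtain ⟨g, hg, ho, y, hy, rfl⟩ := hx
    refine subset_closure ⟨k * g * k⁻¹, mul_mem (mul_mem hk hg) (inv_mem hk), by rw [orderOf_conj']; exact ho,
      k * y * k⁻¹, D.yB k hk y hy, ?_⟩
    unfold cm; group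
  | one => rw [mul_one, mul_inv_cancel]; exact one_mem _
  | mul x y _ _ hx hy =>
    have e : k * (x * y) * k⁻¹ = k * x * k⁻¹ * (k * y * k⁻¹) := by group
    rw [e]; exact mul_mem hx hy
  | inv x _ hx =>
    have e : k * x⁻¹ * k⁻¹ = (k * x * k⁻¹)⁻¹ := by group
    rw [e]; exact inv_mem hx

theorem AA_V {x : H} (hx : x ∈ D.AA) (u : U) : br x u ∈ V := by
  have key : x ∈ BB ∧ br x u ∈ V := by
    induction hx using closure_induction with
    | mem x hx =>
      obtain ⟨g, hg, ho, y, hy, rfl⟩ := hx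
      exact ⟨D.cm_mem hg hy, by rw [D.br_cm hg hy]; exact D.yV g hg _⟩
    | one => exact ⟨one_mem _, by rw [br_one]; exact zero_mem _⟩
    | mul x y _ _ hx hy => exact ⟨mul_mem hx.1 hy.1, by rw [D.br_mul_B hx.1 hy.1]; exact V.add_mem hx.2 hy.2⟩
    | inv x _ hx => rw [D.inv_B hx.1]; exact hx
  exact key.2

/-- `[Y0, BB] ≤ AA` -/
theorem cm_mem_AA {k y : H} (hk : k ∈ Y0 Y) (hy : y ∈ BB) : cm k y ∈ D.AA := by
  induction hk using closure_induction generalizing y with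
  | mem k hk => exact subset_closure ⟨k, hk.1, hk.2, y, hy, rfl⟩
  | one =>
    have e : cm 1 y = 1 := by unfold cm; group
    rw [e]; exact one_mem _
  | mul a b ha hb iha ihb =>
    have e : cm (a * b) y = a * cm b y * a⁻¹ * cm a y := by unfold cm; group
    rw [e]
    exact mul_mem (D.AA_conj (Y0_le Y ha) (ihb hy)) (iha hy)
  | inv a ha iha =>
    have e : cm a⁻¹ y = (a⁻¹ * cm a y * a⁻¹⁻¹)⁻¹ := by unfold cm; group
    rw [e]
    exact inv_mem (D.AA_conj (inv_mem (Y0_le Y ha)) (iha hy))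

/-- Coprime action: `[AA, Y0] ≤ N` implies `AA ≤ N`. -/
theorem AA_le_of {N : Subgroup H} (hN : ∀ k ∈ Y0 Y, ∀ y ∈ D.AA, cm k y ∈ N) : D.AA ≤ N := by
  refine (closure_le _).2 ?_
  rintro _ ⟨k, hk, ho, y, hy, rfl⟩
  obtain ⟨y', hy', e⟩ := D.cm_eq hk ho hy
  rw [e]
  have hk0 : k ∈ Y0 Y := subset_closure ⟨hk, ho⟩
  exact hN k hk0 _ (D.cm_mem_AA hk0 hy')

variable [Finite H]

theorem exists_mul {k : H} (hk : k ∈ Y) : ∃ k0 ∈ Y0 Y, ∃ d ∈ Q, k = k0 * d :=
  exists_mul_of D.QY D.gen hk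

omit [Finite H] in
/-- A normal subgroup of `Y` which is trivial on `X` and on `V / X` centralises `V`. -/
theorem red2 {X : AddSubgroup U} {N : Subgroup H} (hN : N ≤ Y) (hn : ∀ k ∈ Y, ∀ n ∈ N, k * n * k⁻¹ ∈ N)
    (h1 : ∀ n ∈ N, ∀ x ∈ X, n • x = x) (h2 : ∀ n ∈ N, ∀ v ∈ V, br n v ∈ X) : ∀ n ∈ N, ∀ v ∈ V, n • v = v := by
  refine D.red N hN hn fun n hnN => ⟨1, fun v hv => ?_⟩
  rw [pow_one, ← br_eq_zero, br_sq D.two, br_eq_zero.2 (h1 n hnN _ (h2 n hnN v hv))]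

/-- **(2)** -/
theorem eq_one_of_fix {s : H} (hs : s ∈ D.AZ) (hf : ∀ k ∈ Y0 Y, k * s * k⁻¹ = s) : s = 1 := by
  have hd : h * s * h⁻¹ ∈ Q := D.hA s hs.1 hs.2
  have hdY := D.QY hd
  -- `C_V(Y0)`
  let X : AddSubgroup U :=
    { carrier := {v | v ∈ V ∧ ∀ k ∈ Y0 Y, k • v = v}
      zero_mem' := ⟨zero_mem _, fun k _ => smul_zero k⟩
      add_mem' := fun {a b} ha hb => ⟨V.add_mem ha.1 hb.1, fun k hk => by rw [smul_add, ha.2 k hk, hb.2 k hk]⟩
      neg_mem' := fun {a} ha => ⟨V.neg_mem ha.1, fun k hk => by rw [smul_neg, ha.2 k hk]⟩ }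
  have hXY : ∀ k ∈ Y, ∀ x ∈ X, k • x ∈ X := by
    intro k hk x hx
    refine ⟨D.smul_V hk hx.1, fun g hg => ?_⟩
    have h1 := hx.2 _ (Y0_conj (inv_mem hk) hg)
    have e : g • k • x = k • ((k⁻¹ * g * k⁻¹⁻¹) • x) := by
      rw [smul_smul, smul_smul]; congr 1; group
    rw [e, h1]
  -- `[U, d] ≤ C_V(Y0)`
  have hdX : ∀ u : U, br (h * s * h⁻¹) u ∈ X := by
    intro u
    rw [D.br_h hs]
    refine ⟨D.FV (hs.2 _), fun k hk => ?_⟩
    have h1 := D.br_conj (Y0_le Y hk) hs.1 (h⁻¹ • u)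
    rw [hf k hk] at h1
    exact h1.symm
  -- `Y* ∩ Y0` is trivial on `V`
  let N : Subgroup H :=
    { carrier := {k | k ∈ Y0 Y ∧ ∀ v ∈ V, br k v ∈ X}
      one_mem' := ⟨one_mem _, fun v _ => by rw [br_one]; exact zero_mem _⟩
      mul_mem' := fun {a b} ha hb => ⟨mul_mem ha.1 hb.1, fun v hv => by
        rw [br_mul, br_eq_zero.2 ((hb.2 v hv).2 a ha.1), zero_add]
        exact X.add_mem (hb.2 v hv) (ha.2 v hv)⟩
      inv_mem' := fun {a} ha => ⟨inv_mem ha.1, fun v hv => by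
        have h1 := ha.2 (a⁻¹ • v) (D.smul_V (inv_mem (Y0_le Y ha.1)) hv)
        have e : br a⁻¹ v = - br a (a⁻¹ • v) := by
          rw [br_def, br_def, smul_inv_smul]; abel
        rw [e]; exact X.neg_mem h1⟩ }
  have hN : ∀ n ∈ N, ∀ v ∈ V, n • v = v := by
    refine D.red2 (X := X) (fun n hn => Y0_le Y hn.1) (fun k hk n hn => ⟨Y0_conj hk hn.1, fun v hv => ?_⟩)
      (fun n hn x hx => hx.2 n hn.1) fun n hn v hv => hn.2 v hv
    have e : v = k • (k⁻¹ • v) := (smul_inv_smul k v).symm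
    rw [e, br_conj_smul]
    exact hXY k hk _ (hn.2 _ (D.smul_V (inv_mem hk) hv))
  -- `d` commutes with `Y0` on `V`
  have hcY0 : ∀ k ∈ Y0 Y, ∀ v ∈ V, (h * s * h⁻¹ * k) • v = (k * (h * s * h⁻¹)) • v := by
    intro k hk v hv
    have hmem : h * s * h⁻¹ * k * (h * s * h⁻¹)⁻¹ * k⁻¹ ∈ N := by
      refine ⟨mul_mem (Y0_conj hdY hk) (inv_mem hk), fun w hw => ?_⟩
      -- modulo `X`
      have a1 : ∀ w ∈ V, ∃ x ∈ X, (h * s * h⁻¹) • w = x + w := fun w _ => ⟨_, hdX w, smul_eq _ _⟩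
      have a2 : ∀ w ∈ V, ∃ x ∈ X, (h * s * h⁻¹)⁻¹ • w = x + w := fun w _ => by
        rw [inv_eq_of_mul_eq_one_left (D.Q_sq hd)]
        exact ⟨_, hdX w, smul_eq _ _⟩
      obtain ⟨x1, hx1, e1⟩ := a2 (k⁻¹ • w) (D.smul_V (inv_mem (Y0_le Y hk)) hw)
      obtain ⟨x2, hx2, e2⟩ := a1 (x1 + w) (V.add_mem hx1.1 hw)
      have e3 : (h * s * h⁻¹ * k * (h * s * h⁻¹)⁻¹ * k⁻¹) • w = x2 + (x1 + w) := by
        rw [mul_smul, mul_smul, mul_smul, e1, smul_add, smul_inv_smul, hx1.2 k hk, e2]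
      rw [br_def, e3]
      have e4 : x2 + (x1 + w) - w = x2 + x1 := by abel
      rw [e4]
      exact X.add_mem hx2 hx1
    have h1 := hN _ hmem ((k * (h * s * h⁻¹)) • v) (by
      rw [mul_smul]; exact D.smul_V (Y0_le Y hk) (D.smul_V hdY hv))
    rw [← h1, smul_smul]
    congr 1
    group
  have hcY : ∀ k ∈ Y, ∀ v ∈ V, (h * s * h⁻¹ * k) • v = (k * (h * s * h⁻¹)) • v := by
    intro k hk v hv
    obtain ⟨k0, hk0, d, hdQ, rfl⟩ := D.exists_mul hk
    have h1 := hcY0 k0 hk0 (d • v) (D.smul_V (D.QY hdQ) hv)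
    calc (h * s * h⁻¹ * (k0 * d)) • v = (h * s * h⁻¹ * k0) • d • v := by
          rw [smul_smul]; congr 1; group
      _ = (k0 * (h * s * h⁻¹)) • d • v := h1
      _ = (k0 * (h * s * h⁻¹ * d)) • v := by rw [smul_smul]; congr 1; group
      _ = (k0 * (d * (h * s * h⁻¹))) • v := by rw [D.Q_comm hd hdQ]
      _ = (k0 * d * (h * s * h⁻¹)) • v := by congr 1; group
  -- the group of the elements acting as a power of `d`
  let N' : Subgroup H :=
    { carrier := {k | k ∈ Y ∧ ((∀ v ∈ V, k • v = v) ∨ ∀ v ∈ V, k • v = (h * s * h⁻¹) • v)}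
      one_mem' := ⟨one_mem _, Or.inl fun v _ => one_smul _ v⟩
      mul_mem' := by
        rintro a b ⟨ha, ha'⟩ ⟨hb, hb'⟩
        refine ⟨mul_mem ha hb, ?_⟩
        rcases ha' with ha' | ha' <;> rcases hb' with hb' | hb'
        · exact Or.inl fun v hv => by rw [mul_smul, hb' v hv, ha' v hv]
        · exact Or.inr fun v hv => by rw [mul_smul, hb' v hv, ha' _ (D.smul_V hdY hv)]
        · exact Or.inr fun v hv => by rw [mul_smul, hb' v hv, ha' v hv]
        · exact Or.inl fun v hv => by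
            rw [mul_smul, hb' v hv, ha' _ (D.smul_V hdY hv), smul_smul, D.Q_sq hd, one_smul]
      inv_mem' := by
        rintro a ⟨ha, ha'⟩
        refine ⟨inv_mem ha, ?_⟩
        rcases ha' with ha' | ha'
        · exact Or.inl fun v hv => by rw [inv_smul_eq_iff, ha' v hv]
        · exact Or.inr fun v hv => by
            rw [inv_smul_eq_iff, ha' _ (D.smul_V hdY hv), smul_smul, D.Q_sq hd, one_smul] }
  have hN' : ∀ n ∈ N', ∀ v ∈ V, n • v = v := by
    refine D.red N' (fun n hn => hn.1) ?_ ?_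
    · rintro k hk n ⟨hn, hn'⟩
      refine ⟨mul_mem (mul_mem hk hn) (inv_mem hk), ?_⟩
      rcases hn' with hn' | hn'
      · exact Or.inl fun v hv => by
          rw [mul_smul, mul_smul, hn' _ (D.smul_V (inv_mem hk) hv), smul_inv_smul]
      · refine Or.inr fun v hv => ?_
        have h1 := hcY k hk (k⁻¹ • v) (D.smul_V (inv_mem hk) hv)
        rw [mul_smul, mul_smul, hn' _ (D.smul_V (inv_mem hk) hv), ← mul_smul k, ← h1, mul_smul, smul_inv_smul]
    · rintro n ⟨hn, hn'⟩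
      refine ⟨1, fun v hv => ?_⟩
      rw [pow_one, pow_two]
      rcases hn' with hn' | hn'
      · rw [mul_smul, hn' v hv, hn' v hv]
      · rw [mul_smul, hn' v hv, hn' _ (D.smul_V hdY hv), smul_smul, D.Q_sq hd, one_smul]
  refine D.h_faith hs fun v hv => ?_
  rw [br_eq_zero]
  exact hN' _ ⟨hdY, Or.inr fun _ _ => rfl⟩ v hv

omit [Finite H] in
/-- a normal subgroup of `Y` defined by a condition satisfied by `Q` -/
theorem gen_sep {p : H → Prop} (p1 : p 1) (pm : ∀ a ∈ Y, ∀ b ∈ Y, p a → p b → p (a * b))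
    (pi : ∀ a ∈ Y, p a → p a⁻¹) (pc : ∀ k ∈ Y, ∀ n ∈ Y, p n → p (k * n * k⁻¹)) (pQ : ∀ d ∈ Q, p d) :
    ∀ k ∈ Y, p k := by
  let N : Subgroup H :=
    { carrier := {k | k ∈ Y ∧ p k}
      one_mem' := ⟨one_mem _, p1⟩
      mul_mem' := fun {a b} ha hb => ⟨mul_mem ha.1 hb.1, pm a ha.1 b hb.1 ha.2 hb.2⟩
      inv_mem' := fun {a} ha => ⟨inv_mem ha.1, pi a ha.1 ha.2⟩ }
  exact fun k hk => (D.gen N (fun n hn => hn.1) (fun k hk n hn =>
    ⟨mul_mem (mul_mem hk hn.1) (inv_mem hk), pc k hk n hn.1 hn.2⟩) (fun d hd => ⟨D.QY hd, pQ d hd⟩) hk).2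

omit [Finite H] in
/-- `Q` centralises the `Y`-invariant subgroup `N`: so does `Y`. -/
theorem cent_of_Q {N : Subgroup H} (hN : ∀ k ∈ Y, ∀ n ∈ N, k * n * k⁻¹ ∈ N)
    (hQ : ∀ d ∈ Q, ∀ n ∈ N, d * n * d⁻¹ = n) : ∀ k ∈ Y, ∀ n ∈ N, k * n * k⁻¹ = n := by
  refine D.gen_sep (p := fun k => ∀ n ∈ N, k * n * k⁻¹ = n) ?_ ?_ ?_ ?_ hQ
  · intro n _; group
  · intro a _ b _ h1 h2 n hn
    calc a * b * n * (a * b)⁻¹ = a * (b * n * b⁻¹) * a⁻¹ := by group
      _ = n := by rw [h2 n hn, h1 n hn]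
  · intro a _ h1 n hn
    calc a⁻¹ * n * a⁻¹⁻¹ = a⁻¹ * (a * n * a⁻¹) * a⁻¹⁻¹ := by rw [h1 n hn]
      _ = n := by group
  · intro k hk g _ h1 n hn
    have h2 := h1 _ (hN k⁻¹ (inv_mem hk) n hn)
    calc k * g * k⁻¹ * n * (k * g * k⁻¹)⁻¹ = k * (g * (k⁻¹ * n * k⁻¹⁻¹) * g⁻¹) * k⁻¹ := by group
      _ = n := by rw [h2]; group

/-- **(3)** `AA ≰ A₀` -/
theorem exists_notMem : ∃ y ∈ D.AA, y ∉ D.AZ := by
  by_contra hcon
  push Not at hcon
  have h1 : ∀ k ∈ Y, ∀ n ∈ D.AA, k * n * k⁻¹ = n :=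
    D.cent_of_Q (fun k hk n hn => D.AA_conj hk hn) fun d hd n hn => D.br_Q_AZ hd (hcon n hn)
  have h2 : D.AA ≤ ⊥ := D.AA_le_of fun k hk y hy => by
    have h3 := h1 k (Y0_le Y hk) y hy
    rw [mem_bot]
    unfold cm
    rw [h3, mul_inv_cancel]
  obtain ⟨y, hy, hy1, hyF⟩ := D.ne
  apply hy1
  refine D.eq_one_of_fix ⟨hy, hyF⟩ fun k hk => ?_
  have h3 := h2 (D.cm_mem_AA hk hy)
  rw [mem_bot] at h3
  exact mul_inv_eq_one.1 h3

/-- `A₀ ≤ AA` -/
theorem AZ_le_AA [Finite U] : D.AZ ≤ D.AA := by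
  intro s hs
  obtain ⟨y, hy, hy'⟩ := D.exists_notMem
  obtain ⟨d, hd, rfl⟩ := D.surj (D.AA_le hy) hy' (D.AA_V hy) hs
  exact mul_mem (D.AA_conj (D.QY hd) hy) (inv_mem hy)

/-- `V = [U, AA] + F` -/
theorem V_span [Finite U] {v : U} (hv : v ∈ V) : ∃ y ∈ D.AA, ∃ l ∈ L, ∃ f ∈ F, v = br y l + f := by
  obtain ⟨y, hy, hy'⟩ := D.exists_notMem
  obtain ⟨l, hl, f, hf, e⟩ := D.span (D.AA_le hy) hy' (D.AA_V hy) hv
  exact ⟨y, hy, l, hl, f, hf, e⟩

omit [Finite H] in
/-- `C_U(AA) = C`, more precisely -/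
theorem mem_C_of {y : H} (hy : y ∈ BB) (hy' : y ∉ D.AZ) {u : U} (hu : br y u = 0) : u ∈ C := by
  obtain ⟨l, hl, c, hc, rfl⟩ := D.LC u
  rw [br_add, D.br_C hy hc, add_zero] at hu
  exact C.add_mem (D.VC (D.FV (D.inj0 hy hy' hl hu))) hc

/-- **(4)**, first part: `AA` is an irreducible `Y`-module. -/
theorem irr [Finite U] {N : Subgroup H} (hNA : N ≤ D.AA) (hN : ∀ k ∈ Y, ∀ n ∈ N, k * n * k⁻¹ ∈ N) :
    N = ⊥ ∨ N = D.AA := by
  by_cases hz : N ≤ D.AZ
  · left
    have h1 : ∀ k ∈ Y, ∀ n ∈ N, k * n * k⁻¹ = n :=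
      D.cent_of_Q hN fun d hd n hn => D.br_Q_AZ hd (hz hn)
    rw [eq_bot_iff]
    intro n hn
    rw [mem_bot]
    exact D.eq_one_of_fix (hz hn) fun k hk => h1 k (Y0_le Y hk) n hn
  · right
    obtain ⟨y, hy, hy'⟩ := SetLike.not_le_iff_exists.1 hz
    have hZN : D.AZ ≤ N := by
      intro s hs
      obtain ⟨d, hd, rfl⟩ := D.surj (D.AA_le (hNA hy)) hy' (D.AA_V (hNA hy)) hs
      exact mul_mem (hN d (D.QY hd) y hy) (inv_mem hy)
    refine le_antisymm hNA (D.AA_le_of fun k hk x hx => ?_)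
    have h1 : ∀ k ∈ Y, ∀ x ∈ D.AA, cm k x ∈ N := by
      refine D.gen_sep (p := fun k => ∀ x ∈ D.AA, cm k x ∈ N) ?_ ?_ ?_ ?_ ?_
      · intro x _
        have e : cm 1 x = 1 := by unfold cm; group
        rw [e]; exact one_mem _
      · intro a ha b hb h1 h2 x hx
        have e : cm (a * b) x = a * cm b x * a⁻¹ * cm a x := by unfold cm; group
        rw [e]
        exact mul_mem (hN a ha _ (h2 x hx)) (h1 x hx)
      · intro a ha h1 x hx
        have e : cm a⁻¹ x = (a⁻¹ * cm a x * a⁻¹⁻¹)⁻¹ := by unfold cm; group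
        rw [e]
        exact inv_mem (hN _ (inv_mem ha) _ (h1 x hx))
      · intro g hg n _ h1 x hx
        have h2 := h1 _ (D.AA_conj (inv_mem hg) hx)
        have e : cm (g * n * g⁻¹) x = g * cm n (g⁻¹ * x * g⁻¹⁻¹) * g⁻¹ := by unfold cm; group
        rw [e]
        exact hN g hg _ h2
      · intro d hd x hx
        exact hZN (D.comm_Q hd (D.AA_le hx))
    exact h1 k (Y0_le Y hk) x hx

/-- the elements of `Y0` do not all centralise `V` -/
theorem exists_move : ∃ k ∈ Y0 Y, ∃ v ∈ V, k • v ≠ v := by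
  by_contra hcon
  push Not at hcon
  have h1 : ∀ n ∈ Y, ∀ v ∈ V, n • v = v := by
    refine D.red Y le_rfl (fun k hk n hn => mul_mem (mul_mem hk hn) (inv_mem hk)) fun n hn => ⟨1, fun v hv => ?_⟩
    obtain ⟨k0, hk0, d, hd, rfl⟩ := D.exists_mul hn
    rw [pow_one, pow_two, mul_smul, mul_smul, mul_smul, hcon k0 hk0 _ (D.smul_V (D.QY hd) hv),
      hcon k0 hk0 _ (D.smul_V (D.QY hd) (D.smul_V (D.QY hd) hv)), smul_smul, D.Q_sq hd, one_smul]
  obtain ⟨y, hy, hy1, hyF⟩ := D.ne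
  apply hy1
  refine D.h_faith ⟨hy, hyF⟩ fun v hv => ?_
  rw [br_eq_zero]
  exact h1 _ (D.QY (D.hA y hy hyF)) v hv

/-- `C_AA(Y0) = 1` -/
theorem fix_eq_one [Finite U] {y : H} (hy : y ∈ D.AA) (hf : ∀ k ∈ Y0 Y, k * y * k⁻¹ = y) : y = 1 := by
  by_cases hz : y ∈ D.AZ
  · exact D.eq_one_of_fix hz hf
  exfalso
  -- `C_V(Y0)`
  let X : AddSubgroup U :=
    { carrier := {v | v ∈ V ∧ ∀ k ∈ Y0 Y, k • v = v}
      zero_mem' := ⟨zero_mem _, fun k _ => smul_zero k⟩
      add_mem' := fun {a b} ha hb => ⟨V.add_mem ha.1 hb.1, fun k hk => by rw [smul_add, ha.2 k hk, hb.2 k hk]⟩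
      neg_mem' := fun {a} ha => ⟨V.neg_mem ha.1, fun k hk => by rw [smul_neg, ha.2 k hk]⟩ }
  have hXY : ∀ k ∈ Y, ∀ x ∈ X, k • x ∈ X := by
    intro k hk x hx
    refine ⟨D.smul_V hk hx.1, fun g hg => ?_⟩
    have h1 := hx.2 _ (Y0_conj (inv_mem hk) hg)
    have e : g • k • x = k • ((k⁻¹ * g * k⁻¹⁻¹) • x) := by
      rw [smul_smul, smul_smul]; congr 1; group
    rw [e, h1]
  have hyX : ∀ u : U, br y u ∈ X := fun u => ⟨D.AA_V hy u, fun k hk => by
    rw [← D.br_conj (Y0_le Y hk) (D.AA_le hy), hf k hk]⟩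
  have h1 : ∀ k ∈ Y, ∀ v ∈ V, br k v ∈ X := by
    refine D.gen_sep (p := fun k => ∀ v ∈ V, br k v ∈ X) ?_ ?_ ?_ ?_ ?_
    · intro v _; rw [br_one]; exact zero_mem _
    · intro a ha b hb h1 h2 v hv
      have e : br (a * b) v = a • br b v + br a v := by
        simp only [br_def, mul_smul, smul_sub]; abel
      rw [e]
      exact X.add_mem (hXY a ha _ (h2 v hv)) (h1 v hv)
    · intro a ha h1 v hv
      have e : br a⁻¹ v = - br a (a⁻¹ • v) := by
        rw [br_def, br_def, smul_inv_smul]; abel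
      rw [e]
      exact X.neg_mem (h1 _ (D.smul_V (inv_mem ha) hv))
    · intro k hk n _ h1 v hv
      have e : v = k • (k⁻¹ • v) := (smul_inv_smul k v).symm
      rw [e, br_conj_smul]
      exact hXY k hk _ (h1 _ (D.smul_V (inv_mem hk) hv))
    · intro d hd v hv
      obtain ⟨l, _, f, hf', rfl⟩ := D.span (D.AA_le hy) hz (D.AA_V hy) hv
      rw [br_add, br_eq_zero.2 (D.qF d hd f hf'), add_zero, br_def]
      exact X.sub_mem (hXY d (D.QY hd) _ (hyX l)) (hyX l)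
  obtain ⟨k, hk, v, hv, hne⟩ := D.exists_move
  apply hne
  exact D.red2 (X := X) (N := Y0 Y) (Y0_le Y) (fun k hk n hn => Y0_conj hk hn) (fun n hn x hx => hx.2 n hn)
    (fun n hn v hv => h1 n (Y0_le Y hn) v hv) k hk v hv

end Dat

end dat

end Cfsg.Agent.Omega.NO3b.Exit.Ten

end

section


/-!
# The blocks of `V` in LOC (#18319 (2), #18815 (2); piece L6 of #19802)

`Blk Y Q BB V F L C h M KV S O` : the situation `Ten.Dat` together with `KV ⊴ M` (trivial on `U / V`, normalising `BB`), `Y`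
subnormal in `KV`, `S ∈ Syl₂(M)`, `V = ⟨C_V(S)^M⟩`, and a subgroup `O` of `M` (`= O²(P)`), contained in every
subgroup normalised by `O` and `S` which contains a suitable conjugate of `Q`, and without fixed points on `C_V(S)`.

* `Dat.AA_KV` : `AA` is invariant under every group in which `Y` is subnormal (no Clifford, no cohomology);
* `Blk.V1` : `V₁ = [U, AA]`; `Blk.dich` : `m V₁ = V₁` or `V₁ ∩ m V₁ = 0`;
* `Blk.cent` : `m V₁ ≠ m' V₁` implies that `Y^m` centralises `m' V₁`;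
* `Blk.le_sum` : `V = Σ m V₁` (Gaschütz); `Blk.indep` : the sum is direct;
* `Blk.trans` : `S` is transitive on the blocks;
* `Blk.le_F` : `m V₁ ≤ F` if `m V₁ ≠ V₁`; `Blk.fix_of_F` : elements trivial on `F` normalise `V₁`.
-/

set_option autoImplicit false

open scoped Pointwise

namespace Cfsg.Agent.Omega.NO3b.Exit.TBlk

open Subgroup Ten

universe u v

/-! ### Subnormal chains -/

/-- `Y` is subnormal in `K`. -/
inductive Sn {H : Type u} [Group H] (Y : Subgroup H) : Subgroup H → Prop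
  | refl : Sn Y Y
  | step {K K' : Subgroup H} : Sn Y K → K ≤ K' → (∀ k ∈ K', ∀ n ∈ K, k * n * k⁻¹ ∈ K) → Sn Y K'

theorem Sn.le {H : Type u} [Group H] {Y K : Subgroup H} (h : Sn Y K) : Y ≤ K := by
  induction h with
  | refl => exact le_rfl
  | step _ h1 _ ih => exact ih.trans h1

/-! ### Averaging -/

theorem not_dvd_relIndex {M : Type u} [Group M] [Finite M] {S N : Subgroup M} [N.Normal] (h : ¬ 2 ∣ S.index) :
    ¬ 2 ∣ S.relIndex N := by
  have h1 : S.relIndex N * N.relIndex (N ⊔ S) = (S ⊓ N).relIndex (N ⊔ S) := by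
    have := relIndex_inf_mul_relIndex S N (N ⊔ S)
    rwa [inf_eq_left.2 (le_sup_left : N ≤ N ⊔ S)] at this
  have h2 : N.relIndex S * S.relIndex (N ⊔ S) = (N ⊓ S).relIndex (N ⊔ S) := by
    have := relIndex_inf_mul_relIndex N S (N ⊔ S)
    rwa [inf_eq_left.2 (le_sup_right : S ≤ N ⊔ S)] at this
  rw [relIndex_sup_left] at h1
  rw [inf_comm, ← h1] at h2
  have h3 : N.relIndex S ≠ 0 := index_ne_zero_of_finite
  have h4 : S.relIndex (N ⊔ S) = S.relIndex N := by
    refine Nat.eq_of_mul_eq_mul_left (Nat.pos_of_ne_zero h3) ?_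
    rw [h2, mul_comm]
  rw [← h4]
  intro h5
  exact h (h5.trans (relIndex_dvd_index_of_le le_sup_right))

/-- **Gaschütz**, for one vector. -/
theorem exists_fixed {M : Type u} {U : Type v} [Group M] [Finite M] [AddCommGroup U] [DistribMulAction M U]
    [Finite U] (two : ∀ u : U, u + u = 0) {S N : Subgroup M} [hN : N.Normal] (h : ¬ 2 ∣ S.index)
    (W : AddSubgroup U) {z : U} (hz : ∀ s ∈ S, s • z = z) (hW : ∀ n ∈ N, n • z - z ∈ W) :
    ∃ z' : U, (∀ n ∈ N, n • z' = z') ∧ (∀ s ∈ S, s • z' = z') ∧ z' - z ∈ W := by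
  classical
  have : Fintype U := Fintype.ofFinite U
  let O : Finset U := Finset.univ.filter fun x => ∃ n ∈ N, x = n • z
  have hO : ∀ x, x ∈ O ↔ ∃ n ∈ N, x = n • z := fun x => by simp [O]
  have hcard : O.card = Nat.card (MulAction.orbit N z) := by
    rw [← Nat.card_eq_finsetCard]
    refine Nat.card_congr (Equiv.subtypeEquivRight fun x => ?_)
    rw [hO, MulAction.mem_orbit_iff]
    constructor
    · rintro ⟨n, hn, rfl⟩; exact ⟨⟨n, hn⟩, rfl⟩
    · rintro ⟨n, rfl⟩; exact ⟨n, n.2, rfl⟩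
  have hodd : Odd O.card := by
    rw [hcard, Nat.card_congr (MulAction.orbitEquivQuotientStabilizer N z)]
    change Odd (MulAction.stabilizer N z).index
    rw [← Nat.not_even_iff_odd, even_iff_two_dvd]
    intro h1
    refine not_dvd_relIndex (N := N) h (h1.trans ?_)
    refine index_dvd_of_le (fun n hn => ?_)
    rw [MulAction.mem_stabilizer_iff]
    exact hz _ (mem_subgroupOf.1 hn)
  have hperm : ∀ g : M, (∀ x ∈ O, g • x ∈ O) → g • (∑ x ∈ O, x) = ∑ x ∈ O, x := by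
    intro g hg
    rw [Finset.smul_sum]
    refine Finset.sum_bij (fun x _ => g • x) (fun x hx => hg x hx) (fun x _ y _ e => smul_left_cancel g e) ?_
      fun x _ => rfl
    have hinj : Set.InjOn (fun x => g • x) (O : Set U) := fun x _ y _ e => smul_left_cancel g e
    have h1 : O.image (fun x => g • x) = O := by
      refine Finset.eq_of_subset_of_card_le ?_ ?_
      · intro x hx
        obtain ⟨y, hy, rfl⟩ := Finset.mem_image.1 hx
        exact hg y hy
      · rw [Finset.card_image_of_injOn hinj]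
    intro x hx
    rw [← h1] at hx
    obtain ⟨y, hy, e⟩ := Finset.mem_image.1 hx
    exact ⟨y, hy, e⟩
  refine ⟨∑ x ∈ O, x, fun n hn => hperm n ?_, fun s hs => hperm s ?_, ?_⟩
  · intro x hx
    obtain ⟨m, hm, rfl⟩ := (hO x).1 hx
    exact (hO _).2 ⟨n * m, mul_mem hn hm, smul_smul _ _ _⟩
  · intro x hx
    obtain ⟨m, hm, rfl⟩ := (hO x).1 hx
    refine (hO _).2 ⟨s * m * s⁻¹, hN.conj_mem m hm s, ?_⟩
    have e : (s * m * s⁻¹) • z = (s * m * s⁻¹) • s • z := by rw [hz s hs]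
    rw [e, smul_smul, smul_smul]
    congr 1
    group
  · have h1 : (∑ x ∈ O, x) - z = ∑ x ∈ O, (x - z) := by
      rw [Finset.sum_sub_distrib, Finset.sum_const]
      obtain ⟨k, hk⟩ := hodd
      rw [hk, add_smul, one_smul, mul_smul, two_nsmul, two, zero_add]
    rw [h1]
    refine sum_mem fun x hx => ?_
    obtain ⟨m, hm, rfl⟩ := (hO x).1 hx
    exact hW m hm

/-! ### Consequences of `Dat` -/

section dat

variable {H : Type u} {U : Type v} [Group H] [AddCommGroup U] [DistribMulAction H U]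
variable {Y Q BB : Subgroup H} {V F L C : AddSubgroup U} {h : H} (D : Dat Y Q BB V F L C h)
include D

theorem br_AA_mul {x y : H} (hx : x ∈ D.AA) (hy : y ∈ D.AA) (u : U) : br (x * y) u = br x u + br y u :=
  D.br_mul_B (D.AA_le hx) (D.AA_le hy) u

/-- `AA` is invariant under every group in which `Y` is subnormal. -/
theorem AA_KV [Finite H] [Finite U] {K : Subgroup H} (sn : Sn Y K) (kB : ∀ k ∈ K, ∀ b ∈ BB, k * b * k⁻¹ ∈ BB)
    (kV : ∀ k ∈ K, ∀ u : U, br k u ∈ V) : ∀ k ∈ K, ∀ x ∈ D.AA, k * x * k⁻¹ ∈ D.AA := by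
  induction sn with
  | refl => exact fun k hk x hx => D.AA_conj hk hx
  | @step K K' sn hKK' hn ih =>
    have ih' := ih (fun k hk => kB k (hKK' hk)) (fun k hk => kV k (hKK' hk))
    intro g hg
    let N : Subgroup H := D.AA.map (MulAut.conj g).toMonoidHom
    have hNm : ∀ y, y ∈ N ↔ ∃ x ∈ D.AA, g * x * g⁻¹ = y := fun y => Iff.rfl
    have hcard : Nat.card N = Nat.card D.AA := Nat.card_congr
      (D.AA.equivMapOfInjective _ (MulAut.conj g).injective).symm.toEquiv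
    have hNB : ∀ y ∈ N, y ∈ BB ∧ ∀ u : U, br y u ∈ V := by
      rintro y hy
      obtain ⟨x, hx, rfl⟩ := (hNm y).1 hy
      refine ⟨kB g hg x (D.AA_le hx), fun u => ?_⟩
      rw [D.br_conj' (fun u => D.VC (kV _ (inv_mem hg) u)) (D.AA_le hx), smul_eq]
      exact V.add_mem (kV g hg _) (D.AA_V hx u)
    have hNK : ∀ k ∈ K, ∀ y ∈ N, k * y * k⁻¹ ∈ N := by
      intro k hk y hy
      obtain ⟨x, hx, rfl⟩ := (hNm y).1 hy
      refine (hNm _).2 ⟨g⁻¹ * k * g⁻¹⁻¹ * x * (g⁻¹ * k * g⁻¹⁻¹)⁻¹, ih' _ (hn _ (inv_mem hg) k hk) x hx, ?_⟩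
      group
    rcases D.irr (N := N ⊓ D.AA) inf_le_right (fun k hk y hy =>
      ⟨hNK k (sn.le hk) y hy.1, D.AA_conj hk hy.2⟩) with h1 | h1
    · exfalso
      have h2 : ∃ y ∈ N, y ∉ D.AZ := by
        by_contra hcon
        push Not at hcon
        have h3 : N = D.AA := eq_of_le_of_card_ge (fun y hy => D.AZ_le_AA (hcon y hy)) hcard.ge
        obtain ⟨y, hy, hy'⟩ := D.exists_notMem
        exact hy' (hcon y (h3 ▸ hy))
      obtain ⟨y, hy, hy'⟩ := h2
      obtain ⟨s, hs, hs1, hsF⟩ := D.ne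
      obtain ⟨d, hd, e⟩ := D.surj (hNB y hy).1 hy' (hNB y hy).2 (s := s) ⟨hs, hsF⟩
      apply hs1
      have h3 : s ∈ N ⊓ D.AA := by
        refine ⟨?_, D.AZ_le_AA ⟨hs, hsF⟩⟩
        change s ∈ N
        rw [← e]
        exact mul_mem (hNK d (sn.le (D.QY hd)) y hy) (inv_mem hy)
      rwa [h1, mem_bot] at h3
    · have h2 : D.AA ≤ N := by rw [← h1]; exact inf_le_left
      have h3 : D.AA = N := eq_of_le_of_card_ge h2 hcard.le
      intro x hx
      have h4 : g * x * g⁻¹ ∈ N := (hNm _).2 ⟨x, hx, rfl⟩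
      rwa [← h3] at h4

/-- Every `Y`-homomorphism `AA → V` is `[l, ·]` for some `l ∈ L`. -/
theorem exists_hom [Finite H] [Finite U] {φ : H → U} (hadd : ∀ x ∈ D.AA, ∀ y ∈ D.AA, φ (x * y) = φ x + φ y)
    (hval : ∀ y ∈ D.AA, φ y ∈ V) (heq : ∀ k ∈ Y, ∀ y ∈ D.AA, φ (k * y * k⁻¹) = k • φ y) :
    ∃ l ∈ L, ∀ y ∈ D.AA, φ y = br y l := by
  obtain ⟨a, ha, ha'⟩ := D.exists_notMem
  obtain ⟨l, hl, f, hf, e⟩ := D.span (D.AA_le ha) ha' (D.AA_V ha) (hval a ha)
  have hone : φ 1 = 0 := by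
    have h1 := hadd 1 (one_mem _) 1 (one_mem _)
    rw [one_mul] at h1
    exact left_eq_add.1 h1
  have hinv : ∀ x ∈ D.AA, φ x⁻¹ = - φ x := fun x hx => by
    have h1 := hadd x hx x⁻¹ (inv_mem hx)
    rw [mul_inv_cancel, hone] at h1
    exact (neg_eq_of_add_eq_zero_right h1.symm).symm
  have hbinv : ∀ x ∈ D.AA, br x⁻¹ l = - br x l := fun x hx => by
    rw [D.inv_B (D.AA_le hx), D.neg_eq]
  let N : Subgroup H :=
    { carrier := {y | y ∈ D.AA ∧ φ y = br y l}
      one_mem' := ⟨one_mem _, by rw [hone, br_one]⟩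
      mul_mem' := fun {x y} hx hy => ⟨mul_mem hx.1 hy.1, by
        rw [hadd x hx.1 y hy.1, br_AA_mul D hx.1 hy.1, hx.2, hy.2]⟩
      inv_mem' := fun {x} hx => ⟨inv_mem hx.1, by rw [hinv x hx.1, hbinv x hx.1, hx.2]⟩ }
  have hNA : N ≤ D.AA := fun y hy => hy.1
  have hN : ∀ k ∈ Y, ∀ n ∈ N, k * n * k⁻¹ ∈ N := fun k hk n hn =>
    ⟨D.AA_conj hk hn.1, by rw [heq k hk n hn.1, D.br_conj hk (D.AA_le hn.1), hn.2]⟩
  have hNe : N ≠ ⊥ := by
    obtain ⟨s, hs, hs1, hsF⟩ := D.ne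
    obtain ⟨d, hd, e'⟩ := D.surj (D.AA_le ha) ha' (D.AA_V ha) (s := s) ⟨hs, hsF⟩
    intro h0
    apply hs1
    have h1 : s ∈ N := by
      refine ⟨D.AZ_le_AA ⟨hs, hsF⟩, ?_⟩
      have h2 : d * a * d⁻¹ ∈ D.AA := D.AA_conj (D.QY hd) ha
      rw [← e', hadd _ h2 _ (inv_mem ha), br_AA_mul D h2 (inv_mem ha), heq d (D.QY hd) a ha,
        D.br_conj (D.QY hd) (D.AA_le ha), hinv a ha, hbinv a ha, e, smul_add, D.qF d hd f hf]
      abel
    rwa [h0, mem_bot] at h1
  have h1 := (D.irr hNA hN).resolve_left hNe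
  exact ⟨l, hl, fun y hy => by rw [← h1] at hy; exact hy.2⟩

/-- `Ker [·, l] = 1` on `AA` for `l ∉ C` -/
theorem eq_one_of_br [Finite H] [Finite U] {l : U} (hl : l ∉ C) {y : H} (hy : y ∈ D.AA) (h0 : br y l = 0) :
    y = 1 := by
  let N : Subgroup H :=
    { carrier := {y | y ∈ D.AA ∧ br y l = 0}
      one_mem' := ⟨one_mem _, br_one l⟩
      mul_mem' := fun {x y} hx hy => ⟨mul_mem hx.1 hy.1, by
        rw [br_AA_mul D hx.1 hy.1, hx.2, hy.2, add_zero]⟩
      inv_mem' := fun {x} hx => ⟨inv_mem hx.1, by rw [D.inv_B (D.AA_le hx.1)]; exact hx.2⟩ }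
  have hNA : N ≤ D.AA := fun y hy => hy.1
  have hN : ∀ k ∈ Y, ∀ n ∈ N, k * n * k⁻¹ ∈ N := fun k hk n hn =>
    ⟨D.AA_conj hk hn.1, by rw [D.br_conj hk (D.AA_le hn.1), hn.2, smul_zero]⟩
  rcases D.irr hNA hN with h1 | h1
  · have h2 : y ∈ N := ⟨hy, h0⟩
    rwa [h1, mem_bot] at h2
  · exfalso
    obtain ⟨a, ha, ha'⟩ := D.exists_notMem
    have h2 : a ∈ N := by rw [h1]; exact ha
    exact hl (D.mem_C_of (D.AA_le ha) ha' h2.2)

/-- `V₁ = [U, AA]` -/
def V1 : AddSubgroup U := AddSubgroup.closure {v | ∃ y ∈ D.AA, ∃ u : U, v = br y u}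

theorem br_mem_V1 {y : H} (hy : y ∈ D.AA) (u : U) : br y u ∈ V1 D :=
  AddSubgroup.subset_closure ⟨y, hy, u, rfl⟩

theorem V1_le : V1 D ≤ V := by
  refine (AddSubgroup.closure_le _).2 ?_
  rintro _ ⟨y, hy, u, rfl⟩
  exact D.AA_V hy u

theorem V1_inv {K : Subgroup H} (kA : ∀ k ∈ K, ∀ x ∈ D.AA, k * x * k⁻¹ ∈ D.AA) (kV : ∀ k ∈ K, ∀ u : U, br k u ∈ V)
    {k : H} (hk : k ∈ K) {v : U} (hv : v ∈ V1 D) : k • v ∈ V1 D := by
  induction hv using AddSubgroup.closure_induction with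
  | mem v hv =>
    obtain ⟨y, hy, u, rfl⟩ := hv
    rw [← D.br_conj' (fun u => D.VC (kV _ (inv_mem hk) u)) (D.AA_le hy)]
    exact br_mem_V1 D (kA k hk y hy) u
  | zero => rw [smul_zero]; exact zero_mem _
  | add a b _ _ ha hb => rw [smul_add]; exact add_mem ha hb
  | neg a _ ha => rw [smul_neg]; exact neg_mem ha

theorem V1_Y {k : H} (hk : k ∈ Y) {v : U} (hv : v ∈ V1 D) : k • v ∈ V1 D :=
  V1_inv D (fun _ hk _ hx => D.AA_conj hk hx) D.yV hk hv

theorem V_le [Finite H] [Finite U] {v : U} (hv : v ∈ V) : ∃ w ∈ V1 D, ∃ f ∈ F, v = w + f := by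
  obtain ⟨y, hy, l, hl, f, hf, e⟩ := D.V_span hv
  exact ⟨_, br_mem_V1 D hy l, f, hf, e⟩

/-- `[V, Y] ≤ V₁` -/
theorem br_Y_V1 [Finite H] [Finite U] {k : H} (hk : k ∈ Y) {v : U} (hv : v ∈ V) : br k v ∈ V1 D := by
  revert v
  refine D.gen_sep (p := fun k => ∀ {v : U}, v ∈ V → br k v ∈ V1 D) ?_ ?_ ?_ ?_ ?_ k hk
  · intro v _; rw [br_one]; exact zero_mem _
  · intro a ha b hb h1 h2 v hv
    have e : br (a * b) v = a • br b v + br a v := by
      simp only [br_def, mul_smul, smul_sub]; abel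
    rw [e]
    exact add_mem (V1_Y D ha (h2 hv)) (h1 hv)
  · intro a ha h1 v hv
    have e : br a⁻¹ v = - br a (a⁻¹ • v) := by
      rw [br_def, br_def, smul_inv_smul]; abel
    rw [e]
    exact neg_mem (h1 (D.smul_V (inv_mem ha) hv))
  · intro k hk n _ h1 v hv
    have e : v = k • (k⁻¹ • v) := (smul_inv_smul k v).symm
    rw [e, br_conj_smul]
    exact V1_Y D hk (h1 (D.smul_V (inv_mem hk) hv))
  · intro d hd v hv
    obtain ⟨w, hw, f, hf, rfl⟩ := V_le D hv
    rw [br_add, br_eq_zero.2 (D.qF d hd f hf), add_zero, br_def]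
    exact sub_mem (V1_Y D (D.QY hd) hw) hw

/-- `C_{V₁}(Y) = 0` -/
theorem V1_fix [Finite H] [Finite U] {v : U} (hv : v ∈ V1 D) (hf : ∀ k ∈ Y, k • v = v) : v = 0 := by
  classical
  -- a maximal `Y`-invariant subgroup without fixed points
  let P : Set (AddSubgroup U) := {X | X ≤ V1 D ∧ (∀ k ∈ Y, ∀ x ∈ X, k • x ∈ X) ∧
    ∀ x ∈ X, (∀ k ∈ Y, k • x = x) → x = 0}
  have hP0 : (⊥ : AddSubgroup U) ∈ P := ⟨bot_le, fun k _ x hx => by
    rw [AddSubgroup.mem_bot] at hx ⊢; rw [hx, smul_zero], fun x hx _ => AddSubgroup.mem_bot.1 hx⟩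
  obtain ⟨X, hXP, hmax⟩ := P.toFinite.exists_maximal ⟨_, hP0⟩
  have key : V1 D ≤ X := by
    refine (AddSubgroup.closure_le _).2 ?_
    rintro _ ⟨y0, hy0, u, rfl⟩
    by_contra hne
    -- `X + [u, AA]`
    have hdisj : ∀ y ∈ D.AA, br y u ∈ X → y = 1 := by
      intro y hy hyX
      let N : Subgroup H :=
        { carrier := {y | y ∈ D.AA ∧ br y u ∈ X}
          one_mem' := ⟨one_mem _, by rw [br_one]; exact zero_mem _⟩
          mul_mem' := fun {x y} hx hy => ⟨mul_mem hx.1 hy.1, by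
            rw [br_AA_mul D hx.1 hy.1]; exact add_mem hx.2 hy.2⟩
          inv_mem' := fun {x} hx => ⟨inv_mem hx.1, by rw [D.inv_B (D.AA_le hx.1)]; exact hx.2⟩ }
      rcases D.irr (N := N) (fun y hy => hy.1) (fun k hk n hn =>
        ⟨D.AA_conj hk hn.1, by rw [D.br_conj hk (D.AA_le hn.1)]; exact hXP.2.1 k hk _ hn.2⟩) with h1 | h1
      · have h2 : y ∈ N := ⟨hy, hyX⟩
        rwa [h1, mem_bot] at h2
      · exact absurd (show y0 ∈ N by rw [h1]; exact hy0).2 hne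
    let X' : AddSubgroup U :=
      { carrier := {w | ∃ x ∈ X, ∃ y ∈ D.AA, w = x + br y u}
        zero_mem' := ⟨0, zero_mem _, 1, one_mem _, by rw [br_one, add_zero]⟩
        add_mem' := by
          rintro _ _ ⟨x, hx, y, hy, rfl⟩ ⟨x', hx', y', hy', rfl⟩
          exact ⟨x + x', add_mem hx hx', y * y', mul_mem hy hy', by rw [br_AA_mul D hy hy']; abel⟩
        neg_mem' := by
          rintro _ ⟨x, hx, y, hy, rfl⟩
          exact ⟨x, hx, y, hy, by rw [D.neg_eq]⟩ }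
    have hX' : X' ∈ P := by
      refine ⟨?_, ?_, ?_⟩
      · rintro _ ⟨x, hx, y, hy, rfl⟩
        exact add_mem (hXP.1 hx) (br_mem_V1 D hy u)
      · rintro k hk _ ⟨x, hx, y, hy, rfl⟩
        exact ⟨k • x, hXP.2.1 k hk x hx, k * y * k⁻¹, D.AA_conj hk hy, by
          rw [D.br_conj hk (D.AA_le hy), smul_add]⟩
      · rintro _ ⟨x, hx, y, hy, rfl⟩ hfix
        have h1 : ∀ k ∈ Y, k • x = x ∧ k * y * k⁻¹ = y := by
          intro k hk
          have h2 := hfix k hk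
          rw [smul_add, ← D.br_conj hk (D.AA_le hy)] at h2
          have h3 : br (cm k y) u = br (k * y * k⁻¹) u + br y u := by
            unfold cm
            rw [D.inv_B (D.AA_le hy), br_AA_mul D (D.AA_conj hk hy) hy]
          have h4 : br (cm k y) u ∈ X := by
            have e : br (cm k y) u = x - k • x := by
              rw [h3, ← D.sub_eq_add (br (k * y * k⁻¹) u), sub_eq_sub_iff_add_eq_add, add_comm, h2]
            rw [e]
            exact sub_mem hx (hXP.2.1 k hk x hx)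
          have h5 : cm k y = 1 := hdisj _ (mul_mem (D.AA_conj hk hy) (inv_mem hy)) h4
          have h6 : k * y * k⁻¹ = y := mul_inv_eq_one.1 h5
          refine ⟨?_, h6⟩
          rw [h6] at h2
          exact add_right_cancel h2
        have h2 : x = 0 := hXP.2.2 x hx fun k hk => (h1 k hk).1
        have h3 : y = 1 := D.fix_eq_one hy fun k hk => (h1 k (Y0_le Y hk)).2
        rw [h2, h3, br_one, add_zero]
    have h1 : X ≤ X' := fun x hx => ⟨x, hx, 1, one_mem _, by rw [br_one, add_zero]⟩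
    have h2 : X' ≤ X := hmax hX' h1
    exact hne (h2 ⟨0, zero_mem _, y0, hy0, by rw [zero_add]⟩)
  exact hXP.2.2 v (key hv) hf

/-- A `Y`-invariant subgroup of `V`, not contained in `F`, contains some `[l, AA]`, `l ∈ L - F`. -/
theorem exists_sub [Finite H] [Finite U] {W : AddSubgroup U} (hWV : W ≤ V) (hW : ∀ k ∈ Y, ∀ w ∈ W, k • w ∈ W)
    (hF : ¬ W ≤ F) : ∃ l ∈ L, l ∉ C ∧ ∀ y ∈ D.AA, br y l ∈ W := by
  obtain ⟨a, ha, ha'⟩ := D.exists_notMem
  obtain ⟨w, hw, hwF⟩ := SetLike.not_le_iff_exists.1 hF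
  obtain ⟨l, hl, f, hf, e⟩ := D.span (D.AA_le ha) ha' (D.AA_V ha) (hWV hw)
  refine ⟨l, hl, fun hlC => hwF ?_, ?_⟩
  · rw [e, D.br_C (D.AA_le ha) hlC, zero_add]; exact hf
  let N : Subgroup H :=
    { carrier := {y | y ∈ D.AA ∧ br y l ∈ W}
      one_mem' := ⟨one_mem _, by rw [br_one]; exact zero_mem _⟩
      mul_mem' := fun {x y} hx hy => ⟨mul_mem hx.1 hy.1, by
        rw [br_AA_mul D hx.1 hy.1]; exact add_mem hx.2 hy.2⟩
      inv_mem' := fun {x} hx => ⟨inv_mem hx.1, by rw [D.inv_B (D.AA_le hx.1)]; exact hx.2⟩ }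
  have hN := (D.irr (N := N) (fun y hy => hy.1) (fun k hk n hn =>
    ⟨D.AA_conj hk hn.1, by rw [D.br_conj hk (D.AA_le hn.1)]; exact hW k hk _ hn.2⟩)).resolve_left ?_
  · intro y hy
    rw [← hN] at hy
    exact hy.2
  · obtain ⟨s, hs, hs1, hsF⟩ := D.ne
    obtain ⟨d, hd, e'⟩ := D.surj (D.AA_le ha) ha' (D.AA_V ha) (s := s) ⟨hs, hsF⟩
    intro h0
    apply hs1
    have h1 : s ∈ N := by
      refine ⟨D.AZ_le_AA ⟨hs, hsF⟩, ?_⟩
      have h2 : br s l = br d w := by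
        rw [← e', D.br_comm (D.QY hd) (D.AA_le ha), e, br_add, br_eq_zero.2 (D.qF d hd f hf), add_zero]
      rw [h2, br_def]
      exact sub_mem (hW d (D.QY hd) w hw) hw
    rwa [h0, mem_bot] at h1

/-- A non-zero `Y`-invariant subgroup of `V₁` is not contained in `F`. -/
theorem not_le_F [Finite H] [Finite U] {W : AddSubgroup U} (hWV : W ≤ V1 D) (hW : ∀ k ∈ Y, ∀ w ∈ W, k • w ∈ W)
    (hne : W ≠ ⊥) : ¬ W ≤ F := by
  intro hWF
  apply hne
  rw [eq_bot_iff]
  intro w hw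
  rw [AddSubgroup.mem_bot]
  refine V1_fix D (hWV hw) ?_
  have h1 : ∀ k ∈ Y, ∀ w ∈ W, k • w = w := by
    refine D.gen_sep (p := fun k => ∀ w ∈ W, k • w = w) ?_ ?_ ?_ ?_ ?_
    · intro w _; exact one_smul _ w
    · intro a _ b _ h1 h2 w hw
      rw [mul_smul, h2 w hw, h1 w hw]
    · intro a _ h1 w hw
      rw [inv_smul_eq_iff, h1 w hw]
    · intro k hk g _ h1 w hw
      rw [mul_smul, mul_smul, h1 _ (hW _ (inv_mem hk) w hw), smul_inv_smul]
    · intro d hd w hw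
      exact D.qF d hd w (hWF hw)
  exact fun k hk => h1 k hk w hw

end dat

/-! ### The frame with `M` -/

/-- The situation with `M`. -/
structure Blk {H : Type u} {U : Type v} [Group H] [AddCommGroup U] [DistribMulAction H U]
    (Y Q BB : Subgroup H) (V F L C : AddSubgroup U) (h : H) (M KV S O : Subgroup H) : Prop where
  dat : Dat Y Q BB V F L C h
  KM : KV ≤ M
  nK : ∀ m ∈ M, ∀ k ∈ KV, m * k * m⁻¹ ∈ KV
  mV : ∀ m ∈ M, ∀ v ∈ V, m • v ∈ V
  kV : ∀ k ∈ KV, ∀ u : U, br k u ∈ V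
  kB : ∀ k ∈ KV, ∀ b ∈ BB, k * b * k⁻¹ ∈ BB
  sn : Sn Y KV
  SM : S ≤ M
  S2 : IsPGroup 2 S
  syl : ¬ 2 ∣ S.relIndex M
  gen : ∀ W : AddSubgroup U, (∀ m ∈ M, ∀ w ∈ W, m • w ∈ W) → (∀ v ∈ V, (∀ s ∈ S, s • v = v) → v ∈ W) → V ≤ W
  OM : O ≤ M
  pr : ∃ m ∈ M, ∀ N : Subgroup H, N ≤ M → (∀ q ∈ Q, m * q * m⁻¹ ∈ N) → (∀ o ∈ O, ∀ n ∈ N, o * n * o⁻¹ ∈ N) →
    (∀ s ∈ S, ∀ n ∈ N, s * n * s⁻¹ ∈ N) → O ≤ N
  cz : ∀ z ∈ V, (∀ s ∈ S, s • z = z) → (∀ o ∈ O, o • z = z) → z = 0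

namespace Blk

variable {H : Type u} {U : Type v} [Group H] [AddCommGroup U] [DistribMulAction H U]
variable {Y Q BB : Subgroup H} {V F L C : AddSubgroup U} {h : H} {M KV S O : Subgroup H}
variable (B : Blk Y Q BB V F L C h M KV S O)
include B

theorem AA_K [Finite H] [Finite U] : ∀ k ∈ KV, ∀ x ∈ B.dat.AA, k * x * k⁻¹ ∈ B.dat.AA :=
  AA_KV B.dat B.sn B.kB B.kV

theorem V1_K [Finite H] [Finite U] {k : H} (hk : k ∈ KV) {v : U} (hv : v ∈ V1 B.dat) : k • v ∈ V1 B.dat :=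
  V1_inv B.dat B.AA_K B.kV hk hv

theorem YK : Y ≤ KV := B.sn.le

theorem br_K [Finite H] [Finite U] {k y : H} (hk : k ∈ KV) (hy : y ∈ B.dat.AA) (u : U) :
    br (k * y * k⁻¹) u = k • br y u :=
  B.dat.br_conj' (fun u => B.dat.VC (B.kV _ (inv_mem hk) u)) (B.dat.AA_le hy) u

theorem nK' {m : H} (hm : m ∈ M) {k : H} (hk : k ∈ KV) : m⁻¹ * k * m ∈ KV := by
  have := B.nK m⁻¹ (inv_mem hm) k hk
  rwa [inv_inv] at this

/-- `m V₁` is `KV`-invariant. -/
theorem smul_V1_K [Finite H] [Finite U] {m : H} (hm : m ∈ M) {k : H} (hk : k ∈ KV) {v : U}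
    (hv : v ∈ m • V1 B.dat) : k • v ∈ m • V1 B.dat := by
  obtain ⟨w, hw, rfl⟩ := (AddSubgroup.mem_smul_pointwise_iff_exists _ _ _).1 hv
  refine (AddSubgroup.mem_smul_pointwise_iff_exists _ _ _).2 ⟨(m⁻¹ * k * m) • w, B.V1_K (B.nK' hm hk) hw, ?_⟩
  rw [smul_smul, smul_smul]
  congr 1
  group

theorem smul_V1_le {m : H} (hm : m ∈ M) : m • V1 B.dat ≤ V := by
  intro v hv
  obtain ⟨w, hw, rfl⟩ := (AddSubgroup.mem_smul_pointwise_iff_exists _ _ _).1 hv
  exact B.mV m hm w (V1_le B.dat hw)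

/-- **Dichotomy**, half: `V₁ ∩ m V₁ ≠ 0` implies `m V₁ ≤ V₁`. -/
theorem le_of_inf_ne [Finite H] [Finite U] {m : H} (hm : m ∈ M) (hne : V1 B.dat ⊓ m • V1 B.dat ≠ ⊥) :
    m • V1 B.dat ≤ V1 B.dat := by
  have D := B.dat
  -- `[l, AA] ≤ V₁ ∩ m V₁`
  have hW : ∀ k ∈ KV, ∀ w ∈ V1 B.dat ⊓ m • V1 B.dat, k • w ∈ V1 B.dat ⊓ m • V1 B.dat :=
    fun k hk w hw => ⟨B.V1_K hk hw.1, B.smul_V1_K hm hk hw.2⟩
  obtain ⟨l, hl, hlC, hlW⟩ := exists_sub D (W := V1 B.dat ⊓ m • V1 B.dat) (inf_le_left.trans (V1_le D))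
    (fun k hk => hW k (B.YK hk)) (not_le_F D inf_le_left (fun k hk => hW k (B.YK hk)) hne)
  -- `W' = m⁻¹ [l, AA]`
  let W' : AddSubgroup U :=
    { carrier := {w | ∃ y ∈ D.AA, m • w = br y l}
      zero_mem' := ⟨1, one_mem _, by rw [smul_zero, br_one]⟩
      add_mem' := by
        rintro a b ⟨y, hy, e⟩ ⟨y', hy', e'⟩
        exact ⟨y * y', mul_mem hy hy', by rw [smul_add, e, e', br_AA_mul D hy hy']⟩
      neg_mem' := by
        rintro a ⟨y, hy, e⟩
        exact ⟨y, hy, by rw [smul_neg, e, D.neg_eq]⟩ }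
  have hW1 : W' ≤ V1 D := by
    rintro w ⟨y, hy, e⟩
    have h1 : m • w ∈ m • V1 B.dat := by rw [e]; exact (hlW y hy).2
    exact (AddSubgroup.smul_mem_pointwise_smul_iff).1 h1
  have hW2 : ∀ k ∈ KV, ∀ w ∈ W', k • w ∈ W' := by
    rintro k hk w ⟨y, hy, e⟩
    refine ⟨m * k * m⁻¹ * y * (m * k * m⁻¹)⁻¹, B.AA_K _ (B.nK m hm k hk) y hy, ?_⟩
    rw [B.br_K (B.nK m hm k hk) hy, ← e, smul_smul, smul_smul]
    congr 1
    group
  have hW3 : W' ≠ ⊥ := by
    obtain ⟨a, ha, ha'⟩ := D.exists_notMem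
    intro h0
    have h1 : m⁻¹ • br a l ∈ W' := ⟨a, ha, by rw [smul_inv_smul]⟩
    rw [h0, AddSubgroup.mem_bot] at h1
    have h2 : br a l = 0 := by rw [← smul_inv_smul m (br a l), h1, smul_zero]
    have h3 := eq_one_of_br D hlC ha h2
    exact ha' (h3 ▸ one_mem _)
  obtain ⟨l', hl', hlC', hlW'⟩ := exists_sub D (W := W') (hW1.trans (V1_le D)) (fun k hk => hW2 k (B.YK hk))
    (not_le_F D hW1 (fun k hk => hW2 k (B.YK hk)) hW3)
  -- the bijection
  have hex : ∀ y : D.AA, ∃ x : D.AA, m • br (y : H) l' = br (x : H) l := fun y => by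
    obtain ⟨x, hx, e⟩ := hlW' y y.2
    exact ⟨⟨x, hx⟩, e⟩
  choose θ hθ using hex
  have hinj : Function.Injective θ := by
    intro y y' e
    have h1 : m • br (y : H) l' = m • br (y' : H) l' := by rw [hθ, hθ, e]
    have h2 : br (y : H) l' = br (y' : H) l' := smul_left_cancel m h1
    have h3 : (y : H) * (y' : H) = 1 := by
      refine eq_one_of_br D hlC' (mul_mem y.2 y'.2) ?_
      rw [br_AA_mul D y.2 y'.2, h2, D.two]
    have h4 := D.sq_B (D.AA_le y'.2)
    exact Subtype.ext (mul_right_cancel (h3.trans h4.symm))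
  have hbij : Function.Bijective θ := (Finite.injective_iff_bijective).1 hinj
  have hθmul : ∀ y y' : D.AA, θ (y * y') = θ y * θ y' := by
    intro y y'
    have h1 : br ((θ (y * y') : D.AA) : H) l = br ((θ y * θ y' : D.AA) : H) l := by
      rw [← hθ, Subgroup.coe_mul, Subgroup.coe_mul, br_AA_mul D y.2 y'.2, br_AA_mul D (θ y).2 (θ y').2, smul_add,
        hθ, hθ]
    have h3 : ((θ (y * y') : D.AA) : H) * ((θ y * θ y' : D.AA) : H) = 1 := by
      refine eq_one_of_br D hlC (mul_mem (θ (y * y')).2 (θ y * θ y').2) ?_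
      rw [br_AA_mul D (θ (y * y')).2 (θ y * θ y').2, h1, D.two]
    have h4 := D.sq_B (D.AA_le (θ y * θ y').2)
    exact Subtype.ext (mul_right_cancel (h3.trans h4.symm))
  have hθK : ∀ k ∈ KV, ∀ y : D.AA, ∀ y' : D.AA, (y' : H) = k * y * k⁻¹ →
      ((θ y' : D.AA) : H) = m * k * m⁻¹ * (θ y : H) * (m * k * m⁻¹)⁻¹ := by
    intro k hk y y' e
    have hmk := B.nK m hm k hk
    have hx : m * k * m⁻¹ * (θ y : H) * (m * k * m⁻¹)⁻¹ ∈ D.AA := B.AA_K _ hmk _ (θ y).2
    have h1 : br ((θ y' : D.AA) : H) l = br (m * k * m⁻¹ * (θ y : H) * (m * k * m⁻¹)⁻¹) l := by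
      rw [← hθ, e, B.br_K hk y.2, B.br_K hmk (θ y).2, ← hθ, smul_smul, smul_smul]
      congr 1
      group
    have h3 : ((θ y' : D.AA) : H) * (m * k * m⁻¹ * (θ y : H) * (m * k * m⁻¹)⁻¹) = 1 := by
      refine eq_one_of_br D hlC (mul_mem (θ y').2 hx) ?_
      rw [br_AA_mul D (θ y').2 hx, h1, D.two]
    have h4 := D.sq_B (D.AA_le hx)
    exact mul_right_cancel (h3.trans h4.symm)
  -- the homomorphisms
  intro v hv
  obtain ⟨w, hw, rfl⟩ := (AddSubgroup.mem_smul_pointwise_iff_exists _ _ _).1 hv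
  clear hv
  induction hw using AddSubgroup.closure_induction with
  | zero => rw [smul_zero]; exact zero_mem _
  | add a b _ _ ha hb => rw [smul_add]; exact add_mem ha hb
  | neg a _ ha => rw [smul_neg]; exact neg_mem ha
  | mem w hw =>
    obtain ⟨x0, hx0, u, rfl⟩ := hw
    classical
    let ψ : D.AA → D.AA := fun y => (hbij.2 y).choose
    have hψ : ∀ y, θ (ψ y) = y := fun y => (hbij.2 y).choose_spec
    let φ : H → U := fun y => if hy : y ∈ D.AA then m • br ((ψ ⟨y, hy⟩ : D.AA) : H) u else 0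
    have hφ : ∀ y (hy : y ∈ D.AA), φ y = m • br ((ψ ⟨y, hy⟩ : D.AA) : H) u := fun y hy => dif_pos hy
    have hψmul : ∀ y y' : D.AA, ψ (y * y') = ψ y * ψ y' := fun y y' => hinj (by
      rw [hθmul, hψ, hψ, hψ])
    obtain ⟨l2, hl2, e2⟩ := exists_hom D (φ := φ) (fun x hx y hy => by
        rw [hφ x hx, hφ y hy, hφ _ (mul_mem hx hy)]
        have e : (⟨x * y, mul_mem hx hy⟩ : D.AA) = ⟨x, hx⟩ * ⟨y, hy⟩ := rfl
        rw [e, hψmul, Subgroup.coe_mul, br_AA_mul D (ψ _).2 (ψ _).2, smul_add])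
      (fun y hy => by rw [hφ y hy]; exact B.mV m hm _ (D.AA_V (ψ _).2 u))
      (fun k hk y hy => by
        have hkK := B.YK hk
        have hmk := B.nK' hm hkK
        rw [hφ y hy, hφ _ (D.AA_conj hk hy)]
        have hx : m⁻¹ * k * m * (ψ ⟨y, hy⟩ : H) * (m⁻¹ * k * m)⁻¹ ∈ D.AA := B.AA_K _ hmk _ (ψ _).2
        have h1 : ψ ⟨k * y * k⁻¹, D.AA_conj hk hy⟩ = ⟨_, hx⟩ := by
          apply hinj
          rw [hψ]
          apply Subtype.ext
          rw [hθK _ hmk (ψ ⟨y, hy⟩) ⟨_, hx⟩ rfl, hψ]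
          group
        rw [h1]
        change m • br (m⁻¹ * k * m * (ψ ⟨y, hy⟩ : H) * (m⁻¹ * k * m)⁻¹) u = _
        rw [B.br_K hmk (ψ _).2, smul_smul, smul_smul]
        congr 1
        group)
    have h1 := e2 (θ ⟨x0, hx0⟩) (θ ⟨x0, hx0⟩).2
    rw [hφ _ (θ ⟨x0, hx0⟩).2] at h1
    have h2 : ψ ⟨(θ ⟨x0, hx0⟩ : H), (θ ⟨x0, hx0⟩).2⟩ = ⟨x0, hx0⟩ := hinj (by rw [hψ])
    rw [h2] at h1
    rw [h1]
    exact br_mem_V1 D (θ ⟨x0, hx0⟩).2 l2

omit B in
theorem card_smul (m : H) (X : AddSubgroup U) : Nat.card (m • X : AddSubgroup U) = Nat.card X :=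
  Nat.card_congr ⟨fun x => ⟨m⁻¹ • (x : U), AddSubgroup.mem_pointwise_smul_iff_inv_smul_mem.1 x.2⟩,
    fun x => ⟨m • (x : U), AddSubgroup.smul_mem_pointwise_smul _ _ _ x.2⟩,
    fun _ => Subtype.ext (smul_inv_smul m _), fun _ => Subtype.ext (inv_smul_smul m _)⟩

theorem mem_smul {m : H} {v : U} : v ∈ m • V1 B.dat ↔ ∃ w ∈ V1 B.dat, m • w = v :=
  AddSubgroup.mem_smul_pointwise_iff_exists _ _ _

/-- **Dichotomy** -/
theorem dich [Finite H] [Finite U] {m : H} (hm : m ∈ M) : m • V1 B.dat = V1 B.dat ∨ V1 B.dat ⊓ m • V1 B.dat = ⊥ := by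
  by_cases hne : V1 B.dat ⊓ m • V1 B.dat = ⊥
  · exact Or.inr hne
  left
  have h1 := B.le_of_inf_ne hm hne
  refine AddSubgroup.eq_of_le_of_card_ge h1 (le_of_eq ?_)
  exact (card_smul m _).symm

/-- `Y^m` centralises `m' V₁ ≠ m V₁`. -/
theorem cent [Finite H] [Finite U] {m m' : H} (hm : m ∈ M) (hm' : m' ∈ M)
    (hne : m • V1 B.dat ≠ m' • V1 B.dat) {k : H} (hk : k ∈ Y) {v : U} (hv : v ∈ m' • V1 B.dat) :
    (m * k * m⁻¹) • v = v := by
  have hn : m⁻¹ * m' ∈ M := mul_mem (inv_mem hm) hm'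
  have h1 : V1 B.dat ⊓ (m⁻¹ * m') • V1 B.dat = ⊥ := by
    refine (B.dich hn).resolve_left fun h1 => hne ?_
    rw [mul_smul, inv_smul_eq_iff] at h1
    exact h1.symm
  have hv' : m⁻¹ • v ∈ (m⁻¹ * m') • V1 B.dat := by
    rw [mul_smul]
    exact AddSubgroup.smul_mem_pointwise_smul _ _ _ hv
  have h2 : br k (m⁻¹ • v) ∈ V1 B.dat ⊓ (m⁻¹ * m') • V1 B.dat := by
    refine ⟨br_Y_V1 B.dat hk (B.smul_V1_le hn hv'), ?_⟩
    change br k (m⁻¹ • v) ∈ (m⁻¹ * m') • V1 B.dat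
    rw [br_def]
    exact sub_mem (B.smul_V1_K hn (B.YK hk) hv') hv'
  rw [h1, AddSubgroup.mem_bot, br_eq_zero] at h2
  rw [mul_smul, mul_smul, h2, smul_inv_smul]

/-- the sum of the blocks different from `m V₁` -/
def rest (m : H) : AddSubgroup U := AddSubgroup.closure {v | ∃ m' ∈ M, m • V1 B.dat ≠ m' • V1 B.dat ∧ v ∈ m' • V1 B.dat}

/-- the sum of all blocks -/
def all : AddSubgroup U := AddSubgroup.closure {v | ∃ m ∈ M, v ∈ m • V1 B.dat}

theorem le_rest {m m' : H} (hm' : m' ∈ M) (hne : m • V1 B.dat ≠ m' • V1 B.dat) : m' • V1 B.dat ≤ B.rest m :=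
  fun _ hv => AddSubgroup.subset_closure ⟨m', hm', hne, hv⟩

theorem le_all {m : H} (hm : m ∈ M) : m • V1 B.dat ≤ B.all :=
  fun _ hv => AddSubgroup.subset_closure ⟨m, hm, hv⟩

theorem rest_le_all (m : H) : B.rest m ≤ B.all := by
  refine (AddSubgroup.closure_le _).2 ?_
  rintro v ⟨m', hm', -, hv⟩
  exact B.le_all hm' hv

theorem all_le : B.all ≤ V := by
  refine (AddSubgroup.closure_le _).2 ?_
  rintro v ⟨m, hm, hv⟩
  exact B.smul_V1_le hm hv

theorem cent_rest [Finite H] [Finite U] {m : H} (hm : m ∈ M) {k : H} (hk : k ∈ Y) {v : U} (hv : v ∈ B.rest m) :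
    (m * k * m⁻¹) • v = v := by
  induction hv using AddSubgroup.closure_induction with
  | mem v hv =>
    obtain ⟨m', hm', hne, hv⟩ := hv
    exact B.cent hm hm' hne hk hv
  | zero => exact smul_zero _
  | add a b _ _ ha hb => rw [smul_add, ha, hb]
  | neg a _ ha => rw [smul_neg, ha]

/-- **The sum of the blocks is direct.** -/
theorem indep [Finite H] [Finite U] {m : H} (hm : m ∈ M) : m • V1 B.dat ⊓ B.rest m = ⊥ := by
  rw [eq_bot_iff]
  rintro v ⟨hv1, hv2⟩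
  obtain ⟨w, hw, rfl⟩ := B.mem_smul.1 hv1
  have h1 : w = 0 := V1_fix B.dat hw fun k hk => by
    have h2 := B.cent_rest hm hk hv2
    rw [smul_smul, inv_mul_cancel_right, mul_smul] at h2
    exact smul_left_cancel m h2
  rw [h1, smul_zero]
  exact zero_mem _

theorem mem_all {v : U} (hv : v ∈ B.all) (m : H) : ∃ a ∈ m • V1 B.dat, ∃ b ∈ B.rest m, v = a + b := by
  classical
  induction hv using AddSubgroup.closure_induction with
  | mem v hv =>
    obtain ⟨m', hm', hv⟩ := hv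
    by_cases hne : m • V1 B.dat = m' • V1 B.dat
    · exact ⟨v, hne ▸ hv, 0, zero_mem _, (add_zero v).symm⟩
    · exact ⟨0, zero_mem _, v, B.le_rest hm' hne hv, (zero_add v).symm⟩
  | zero => exact ⟨0, zero_mem _, 0, zero_mem _, (add_zero 0).symm⟩
  | add a b _ _ ha hb =>
    obtain ⟨a1, ha1, a2, ha2, rfl⟩ := ha
    obtain ⟨b1, hb1, b2, hb2, rfl⟩ := hb
    exact ⟨_, add_mem ha1 hb1, _, add_mem ha2 hb2, by abel⟩
  | neg a _ ha =>
    obtain ⟨a1, ha1, a2, ha2, rfl⟩ := ha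
    exact ⟨_, neg_mem ha1, _, neg_mem ha2, by abel⟩

/-- `M` permutes the blocks. -/
theorem all_M {m : H} (hm : m ∈ M) {v : U} (hv : v ∈ B.all) : m • v ∈ B.all := by
  induction hv using AddSubgroup.closure_induction with
  | mem v hv =>
    obtain ⟨m', hm', hv⟩ := hv
    refine B.le_all (mul_mem hm hm') ?_
    rw [mul_smul]
    exact AddSubgroup.smul_mem_pointwise_smul _ _ _ hv
  | zero => rw [smul_zero]; exact zero_mem _
  | add a b _ _ ha hb => rw [smul_add]; exact add_mem ha hb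
  | neg a _ ha => rw [smul_neg]; exact neg_mem ha

/-- the normal closure of `Y` in `M` -/
def YM (_B : Blk Y Q BB V F L C h M KV S O) : Subgroup H := closure {x | ∃ m ∈ M, ∃ k ∈ Y, x = m * k * m⁻¹}

theorem YM_le : B.YM ≤ KV := by
  refine (closure_le _).2 ?_
  rintro _ ⟨m, hm, k, hk, rfl⟩
  exact B.nK m hm k (B.YK hk)

theorem YM_conj {m x : H} (hm : m ∈ M) (hx : x ∈ B.YM) : m * x * m⁻¹ ∈ B.YM := by
  induction hx using closure_induction with
  | mem x hx =>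
    obtain ⟨g, hg, k, hk, rfl⟩ := hx
    exact subset_closure ⟨m * g, mul_mem hm hg, k, hk, by group⟩
  | one => rw [mul_one, mul_inv_cancel]; exact one_mem _
  | mul x y _ _ hx hy =>
    have e : m * (x * y) * m⁻¹ = m * x * m⁻¹ * (m * y * m⁻¹) := by group
    rw [e]; exact mul_mem hx hy
  | inv x _ hx =>
    have e : m * x⁻¹ * m⁻¹ = (m * x * m⁻¹)⁻¹ := by group
    rw [e]; exact inv_mem hx

theorem conj_mem_YM {m k : H} (hm : m ∈ M) (hk : k ∈ Y) : m * k * m⁻¹ ∈ B.YM :=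
  subset_closure ⟨m, hm, k, hk, rfl⟩

/-- `[V, Y^M] ≤ Σ m V₁` -/
theorem br_YM [Finite H] [Finite U] {x : H} (hx : x ∈ B.YM) {v : U} (hv : v ∈ V) : br x v ∈ B.all := by
  induction hx using closure_induction generalizing v with
  | mem x hx =>
    obtain ⟨m, hm, k, hk, rfl⟩ := hx
    have e : v = m • (m⁻¹ • v) := (smul_inv_smul m v).symm
    rw [e, br_conj_smul]
    refine B.le_all hm (AddSubgroup.smul_mem_pointwise_smul _ _ _ ?_)
    exact br_Y_V1 B.dat hk (B.mV _ (inv_mem hm) v hv)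
  | one => rw [br_one]; exact zero_mem _
  | mul a b ha _ iha ihb =>
    have e : br (a * b) v = a • br b v + br a v := by
      simp only [br_def, mul_smul, smul_sub]; abel
    rw [e]
    exact add_mem (B.all_M (B.KM (B.YM_le ha)) (ihb hv)) (iha hv)
  | inv a ha iha =>
    have e : br a⁻¹ v = - br a (a⁻¹ • v) := by
      rw [br_def, br_def, smul_inv_smul]; abel
    rw [e]
    exact neg_mem (iha (B.mV _ (inv_mem (B.KM (B.YM_le ha))) v hv))

/-- `O ≤ Y^M` -/
theorem O_le : O ≤ B.YM := by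
  obtain ⟨m, hm, hpr⟩ := B.pr
  exact hpr _ (B.YM_le.trans B.KM) (fun q hq => B.conj_mem_YM hm (B.dat.QY hq)) (fun o ho n hn => B.YM_conj (B.OM ho) hn)
    fun s hs n hn => B.YM_conj (B.SM hs) hn

/-- **Gaschütz** -/
theorem le_sum [Finite H] [Finite U] : V ≤ B.all := by
  refine B.gen _ (fun m hm w hw => B.all_M hm hw) fun z hzV hz => ?_
  have hn : (B.YM.subgroupOf M).Normal := ⟨fun n hn g => by
    rw [mem_subgroupOf] at hn ⊢
    exact B.YM_conj g.2 hn⟩
  obtain ⟨z', h1, h2, h3⟩ := exists_fixed (M := M) (U := U) B.dat.two (S := S.subgroupOf M) (N := B.YM.subgroupOf M)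
    (z := z) B.syl B.all (fun s hs => hz _ (mem_subgroupOf.1 hs)) fun n hn => B.br_YM (mem_subgroupOf.1 hn) hzV
  have hz'V : z' ∈ V := by
    have e : z' = (z' - z) + z := by abel
    rw [e]; exact add_mem (B.all_le h3) hzV
  have h4 : z' = 0 := B.cz z' hz'V (fun s hs => h2 ⟨s, B.SM hs⟩ (mem_subgroupOf.2 hs)) fun o ho =>
    h1 ⟨o, B.OM ho⟩ (mem_subgroupOf.2 (B.O_le ho))
  rw [h4, zero_sub] at h3
  exact neg_mem_iff.1 h3

theorem all_eq [Finite H] [Finite U] : B.all = V := le_antisymm B.all_le B.le_sum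

/-- `V = m V₁ + rest`. -/
theorem exists_add [Finite H] [Finite U] (m : H) {v : U} (hv : v ∈ V) :
    ∃ a ∈ m • V1 B.dat, ∃ b ∈ B.rest m, v = a + b := B.mem_all (B.le_sum hv) m

/-- `KV` normalises every block. -/
theorem smul_eq_K [Finite H] [Finite U] {m k : H} (hm : m ∈ M) (hk : k ∈ KV) :
    k • m • V1 B.dat = m • V1 B.dat := by
  refine AddSubgroup.eq_of_le_of_card_ge (fun v hv => ?_) (le_of_eq ?_)
  · obtain ⟨w, hw, rfl⟩ := (AddSubgroup.mem_smul_pointwise_iff_exists _ _ _).1 hv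
    exact B.smul_V1_K hm hk hw
  · exact (card_smul k _).symm

/-- **`S` is transitive on the blocks.** -/
theorem trans [Finite H] [Finite U] {m m' : H} (hm : m ∈ M) (hm' : m' ∈ M) :
    ∃ s ∈ S, s • m • V1 B.dat = m' • V1 B.dat := by
  classical
  obtain ⟨m0, hm0, hpr⟩ := B.pr
  suffices key : ∀ m ∈ M, ∃ s ∈ S, s • m0 • V1 B.dat = m • V1 B.dat by
    obtain ⟨s, hs, e⟩ := key m hm
    obtain ⟨s', hs', e'⟩ := key m' hm'
    refine ⟨s' * s⁻¹, mul_mem hs' (inv_mem hs), ?_⟩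
    rw [mul_smul, inv_smul_eq_iff.2 e.symm, e']
  intro m1 hm1
  by_contra hcon
  push Not at hcon
  -- the sum of the other blocks
  let X : AddSubgroup U := AddSubgroup.closure {v | ∃ m ∈ M, (∀ s ∈ S, s • m0 • V1 B.dat ≠ m • V1 B.dat) ∧
    v ∈ m • V1 B.dat}
  have hXV : X ≤ V := by
    refine (AddSubgroup.closure_le _).2 ?_
    rintro v ⟨m, hm, -, hv⟩
    exact B.smul_V1_le hm hv
  have hXS : ∀ s ∈ S, ∀ x ∈ X, s • x ∈ X := by
    intro s hs x hx
    induction hx using AddSubgroup.closure_induction with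
    | mem v hv =>
      obtain ⟨m, hm, hne, hv⟩ := hv
      refine AddSubgroup.subset_closure ⟨s * m, mul_mem (B.SM hs) hm, fun t ht e => ?_, ?_⟩
      · refine hne (s⁻¹ * t) (mul_mem (inv_mem hs) ht) ?_
        rw [mul_smul, e, mul_smul, inv_smul_smul]
      · rw [mul_smul]
        exact AddSubgroup.smul_mem_pointwise_smul _ _ _ hv
    | zero => rw [smul_zero]; exact zero_mem _
    | add a b _ _ ha hb => rw [smul_add]; exact add_mem ha hb
    | neg a _ ha => rw [smul_neg]; exact neg_mem ha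
  have hXK : ∀ k ∈ KV, ∀ x ∈ X, k • x ∈ X := by
    intro k hk x hx
    induction hx using AddSubgroup.closure_induction with
    | mem v hv =>
      obtain ⟨m, hm, hne, hv⟩ := hv
      exact AddSubgroup.subset_closure ⟨m, hm, hne, B.smul_V1_K hm hk hv⟩
    | zero => rw [smul_zero]; exact zero_mem _
    | add a b _ _ ha hb => rw [smul_add]; exact add_mem ha hb
    | neg a _ ha => rw [smul_neg]; exact neg_mem ha
  have hXne : ∃ x ∈ X, x ≠ 0 := by
    obtain ⟨a, ha, ha'⟩ := B.dat.exists_notMem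
    have h1 : ∃ u : U, br a u ≠ 0 := by
      by_contra h0
      push Not at h0
      have h2 : a = 1 := B.dat.ext fun u => by rw [h0 u, br_one]
      exact ha' (h2 ▸ one_mem _)
    obtain ⟨u, hu⟩ := h1
    refine ⟨m1 • br a u, AddSubgroup.subset_closure ⟨m1, hm1, hcon,
      AddSubgroup.smul_mem_pointwise_smul _ _ _ (br_mem_V1 B.dat ha u)⟩, fun h0 => hu ?_⟩
    rw [← inv_smul_smul m1 (br a u), h0, smul_zero]
  -- `O` centralises `X`
  let N : Subgroup H :=
    { carrier := {n | n ∈ B.YM ∧ ∀ x ∈ X, n • x = x}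
      one_mem' := ⟨one_mem _, fun x _ => one_smul _ x⟩
      mul_mem' := fun {a b} ha hb => ⟨mul_mem ha.1 hb.1, fun x hx => by rw [mul_smul, hb.2 x hx, ha.2 x hx]⟩
      inv_mem' := fun {a} ha => ⟨inv_mem ha.1, fun x hx => by rw [inv_smul_eq_iff, ha.2 x hx]⟩ }
  have hconj : ∀ g ∈ M, (∀ x ∈ X, g⁻¹ • x ∈ X) → ∀ n ∈ N, g * n * g⁻¹ ∈ N := by
    intro g hg hgX n hn
    refine ⟨B.YM_conj hg hn.1, fun x hx => ?_⟩
    rw [mul_smul, mul_smul, hn.2 _ (hgX x hx), smul_inv_smul]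
  have hON : O ≤ N := by
    refine hpr N (fun n hn => B.KM (B.YM_le hn.1)) (fun q hq => ⟨B.conj_mem_YM hm0 (B.dat.QY hq), fun x hx => ?_⟩)
      (fun o ho => hconj o (B.OM ho) fun x hx => hXK _ (inv_mem (B.YM_le (B.O_le ho))) x hx)
      fun s hs => hconj s (B.SM hs) fun x hx => hXS _ (inv_mem hs) x hx
    induction hx using AddSubgroup.closure_induction with
    | mem v hv =>
      obtain ⟨m, hm, hne, hv⟩ := hv
      refine B.cent hm0 hm ?_ (B.dat.QY hq) hv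
      have := hne 1 (one_mem _)
      rwa [one_smul] at this
    | zero => exact smul_zero _
    | add a b _ _ ha hb => rw [smul_add, ha, hb]
    | neg a _ ha => rw [smul_neg, ha]
  -- a fixed point of `S` on `X`
  have : Fact (Nat.Prime 2) := ⟨Nat.prime_two⟩
  let act : MulAction S X :=
    { smul := fun s x => ⟨(s : H) • (x : U), hXS s s.2 x x.2⟩
      one_smul := fun x => Subtype.ext (one_smul H (x : U))
      mul_smul := fun s t x => Subtype.ext (mul_smul (s : H) (t : H) (x : U)) }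
  have hsmul : ∀ (s : S) (x : X), ((s • x : X) : U) = (s : H) • (x : U) := fun s x => rfl
  obtain ⟨x, hx, hx0⟩ := hXne
  have hXp : 2 ∣ Nat.card X := by
    have h1 : addOrderOf (⟨x, hx⟩ : X) = 2 := by
      refine addOrderOf_eq_prime ?_ fun h0 => hx0 (congrArg Subtype.val h0)
      rw [two_nsmul]
      exact Subtype.ext (B.dat.two x)
    rw [← h1]
    exact addOrderOf_dvd_natCard _
  have h0fix : (0 : X) ∈ MulAction.fixedPoints S X := fun s => Subtype.ext (smul_zero (s : H))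
  obtain ⟨z, hz, hzne⟩ := B.S2.exists_fixed_point_of_prime_dvd_card_of_fixed_point X hXp h0fix
  apply hzne
  have h1 : (z : U) = 0 := B.cz z (hXV z.2) (fun s hs => by
    have := hz ⟨s, hs⟩
    exact congrArg Subtype.val this) fun o ho => (hON ho).2 z z.2
  exact (Subtype.ext h1).symm

/-- `m V₁ ≤ F` for `m V₁ ≠ V₁`. -/
theorem le_F [Finite H] [Finite U] {m : H} (hm : m ∈ M) (hne : m • V1 B.dat ≠ V1 B.dat) : m • V1 B.dat ≤ F := by
  by_contra hnot
  obtain ⟨l, hl, hlC, hlW⟩ := exists_sub B.dat (W := m • V1 B.dat) (B.smul_V1_le hm)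
    (fun k hk w hw => B.smul_V1_K hm (B.YK hk) hw) hnot
  obtain ⟨a, ha, ha'⟩ := B.dat.exists_notMem
  have h1 : V1 B.dat ⊓ m • V1 B.dat = ⊥ := (B.dich hm).resolve_left hne
  have h2 : br a l ∈ V1 B.dat ⊓ m • V1 B.dat := ⟨br_mem_V1 B.dat ha l, hlW a ha⟩
  rw [h1, AddSubgroup.mem_bot] at h2
  exact ha' (eq_one_of_br B.dat hlC ha h2 ▸ one_mem _)

theorem rest_le_F [Finite H] [Finite U] : B.rest 1 ≤ F := by
  refine (AddSubgroup.closure_le _).2 ?_
  rintro v ⟨m, hm, hne, hv⟩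
  refine B.le_F hm (fun h1 => hne ?_) hv
  rw [one_smul, h1]

/-- `F = (F ∩ V₁) + (the other blocks)` -/
theorem F_eq [Finite H] [Finite U] {f : U} (hf : f ∈ F) : ∃ a ∈ V1 B.dat, a ∈ F ∧ ∃ b ∈ B.rest 1, f = a + b := by
  obtain ⟨a, ha, b, hb, e⟩ := B.exists_add 1 (B.dat.FV hf)
  rw [one_smul] at ha
  refine ⟨a, ha, ?_, b, hb, e⟩
  have e' : a = f - b := by rw [e]; abel
  rw [e']
  exact sub_mem hf (B.rest_le_F hb)

end Blk

end Cfsg.Agent.Omega.NO3b.Exit.TBlk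

end

end

-- merged: Cfsg.Agent.Mrg.Omega.NO3b.Exit.TightDat
section

section


/-!
# From TIGHT to the M-side (#18319 (1), #18653; plug X-side → `Ten.Dat`)

* `nst M Q n` : `M`, `⟨Q^M⟩`, `⟨Q^{⟨Q^M⟩}⟩`, …; `sbc M Q = ⨅ n, nst M Q n` : the subnormal closure of `Q` in `M`;
  `sbc_gen`, `sbc_conj` (conjugation), `sbc_red` (`O₂(sbc M Q / C(V)) = 1` if `O₂(M / C_M(V)) = 1`);
* `MX M X D B V F g` : `H` acts faithfully on `U`, `M` stabilises `V`, `D ⊴ M`, `D ≤ X` centralises `V`, `B ≤ D`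
  quadratic, `X` centralises `F ≤ V` and the lines `x V ≠ V` meet `V` in `F`, `U = g V + C_U(B)`,
  `g V ∩ C_U(B) = F`, `g ∈ X`, some `1 ≠ y ∈ B` has `[U, y] ≤ F`, and the elements `x ∈ X` with `[U, x] ≤ F` lie in
  `M`;
* `KV M V = C_M(U / V)`, `FFq M F = {m ∈ M | [U, m] ≤ F, [F, m] = 0}`, `BBq M V B = ⟨B^{KV}⟩`;
* `MX.dat : Ten.Dat (sbc M (FFq M F)) (FFq M F) (BBq M V B) V F (g • V) (fx U B) g⁻¹`.
-/

set_option autoImplicit false

namespace Cfsg.Agent.Omega.NO3b.Exit.TDat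

open Subgroup
open Cfsg.Agent.Omega.FF.Basic
open Cfsg.Agent.Omega.NO3b.Exit.Ten (br br_def br_add br_mul br_one br_zero br_conj_smul br_eq_zero smul_eq)
open scoped Pointwise

universe u v

/-! ### The subnormal closure -/

section sbc

variable {H : Type u} [Group H]

/-- `M`, `⟨Q^M⟩`, … -/
def nst (M Q : Subgroup H) : ℕ → Subgroup H
  | 0 => M
  | n + 1 => closure {x | ∃ k ∈ nst M Q n, ∃ q ∈ Q, x = k * q * k⁻¹}

/-- The subnormal closure of `Q` in `M`. -/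
def sbc (M Q : Subgroup H) : Subgroup H := ⨅ n, nst M Q n

variable {M Q : Subgroup H}

theorem le_nst (hQ : Q ≤ M) (n : ℕ) : Q ≤ nst M Q n := by
  cases n with
  | zero => exact hQ
  | succ n => exact fun q hq => subset_closure ⟨1, one_mem _, q, hq, by group⟩

theorem nst_succ_le (hQ : Q ≤ M) (n : ℕ) : nst M Q (n + 1) ≤ nst M Q n := by
  refine (closure_le _).2 ?_
  rintro _ ⟨k, hk, q, hq, rfl⟩
  exact mul_mem (mul_mem hk (le_nst hQ n hq)) (inv_mem hk)

theorem nst_anti (hQ : Q ≤ M) : Antitone (nst M Q) := antitone_nat_of_succ_le (nst_succ_le hQ)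

theorem nst_norm (n : ℕ) {k x : H} (hk : k ∈ nst M Q n) (hx : x ∈ nst M Q (n + 1)) :
    k * x * k⁻¹ ∈ nst M Q (n + 1) := by
  change x ∈ Subgroup.closure _ at hx
  induction hx using closure_induction with
  | mem x hx =>
    obtain ⟨l, hl, q, hq, rfl⟩ := hx
    exact subset_closure ⟨k * l, mul_mem hk hl, q, hq, by group⟩
  | one => rw [mul_one, mul_inv_cancel]; exact one_mem _
  | mul x y _ _ hx hy =>
    have e : k * (x * y) * k⁻¹ = k * x * k⁻¹ * (k * y * k⁻¹) := by group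
    rw [e]; exact mul_mem hx hy
  | inv x _ hx =>
    have e : k * x⁻¹ * k⁻¹ = (k * x * k⁻¹)⁻¹ := by group
    rw [e]; exact inv_mem hx

theorem le_sbc (hQ : Q ≤ M) : Q ≤ sbc M Q := le_iInf fun n => le_nst hQ n

theorem sbc_le_nst (n : ℕ) : sbc M Q ≤ nst M Q n := iInf_le _ n

theorem exists_stab [Finite H] (hQ : Q ≤ M) : ∃ n, sbc M Q = nst M Q n ∧ nst M Q (n + 1) = nst M Q n := by
  obtain ⟨n, hn⟩ := WellFoundedGT.monotone_chain_condition (α := (Subgroup H)ᵒᵈ)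
    ⟨fun n => OrderDual.toDual (nst M Q n), fun _ _ h => nst_anti hQ h⟩
  have h1 : ∀ m, n ≤ m → nst M Q n = nst M Q m := fun m hm => hn m hm
  refine ⟨n, le_antisymm (sbc_le_nst n) (le_iInf fun m => ?_), (h1 (n + 1) (Nat.le_succ n)).symm⟩
  rcases le_total n m with h | h
  · exact (h1 m h).le
  · exact nst_anti hQ h

/-- the normal closure of `Q` in `sbc M Q` is `sbc M Q` -/
theorem sbc_gen [Finite H] (hQ : Q ≤ M) {N : Subgroup H} (hN : ∀ k ∈ sbc M Q, ∀ n ∈ N, k * n * k⁻¹ ∈ N)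
    (hQN : Q ≤ N) : sbc M Q ≤ N := by
  obtain ⟨n, h1, h2⟩ := exists_stab hQ
  rw [h1, ← h2]
  refine (closure_le _).2 ?_
  rintro _ ⟨k, hk, q, hq, rfl⟩
  exact hN k (by rw [h1]; exact hk) q (hQN hq)

/-- a normal subgroup of `M` containing `Q` contains `sbc M Q` -/
theorem sbc_le_of_normal {N : Subgroup H} (hN : ∀ k ∈ M, ∀ n ∈ N, k * n * k⁻¹ ∈ N) (hQN : Q ≤ N) :
    sbc M Q ≤ N := by
  refine (sbc_le_nst 1).trans ((closure_le _).2 ?_)
  rintro _ ⟨k, hk, q, hq, rfl⟩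
  exact hN k hk q (hQN hq)

end sbc

/-! ### `O₂(M / C_M(V)) = 1` -/

section red

variable {H : Type u} {U : Type v} [Group H] [AddCommGroup U] [DistribMulAction H U]

/-- `O₂(M / C_M(V)) = 1` -/
def Red (M : Subgroup H) (V : AddSubgroup U) : Prop :=
  ∀ N : Subgroup H, N ≤ M → (∀ k ∈ M, ∀ n ∈ N, k * n * k⁻¹ ∈ N) →
    (∀ n ∈ N, ∃ j : ℕ, ∀ v ∈ V, n ^ 2 ^ j • v = v) → ∀ n ∈ N, ∀ v ∈ V, n • v = v

/-- a normal subgroup inherits `Red` -/
theorem Red.normal [Finite H] {M M' : Subgroup H} {V : AddSubgroup U} (hr : Red M V)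
    (hV : ∀ m ∈ M, ∀ v ∈ V, m • v ∈ V) (hle : M' ≤ M) (hn : ∀ k ∈ M, ∀ n ∈ M', k * n * k⁻¹ ∈ M') : Red M' V := by
  classical
  have : Fact (Nat.Prime 2) := ⟨Nat.prime_two⟩
  -- the set of normal subgroups of `M'` which act as 2-groups
  let 𝒩 : Set (Subgroup H) := {N | N ≤ M' ∧ (∀ k ∈ M', ∀ n ∈ N, k * n * k⁻¹ ∈ N) ∧
    ∀ n ∈ N, ∃ j : ℕ, ∀ v ∈ V, n ^ 2 ^ j • v = v}
  have hbot : (⊥ : Subgroup H) ∈ 𝒩 := by
    refine ⟨bot_le, fun k _ n hn => ?_, fun n hn => ⟨0, fun v _ => ?_⟩⟩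
    · rw [mem_bot] at hn ⊢; rw [hn]; group
    · rw [mem_bot] at hn; rw [hn, one_pow, one_smul]
  -- closed under sup
  have hsup : ∀ N₁ ∈ 𝒩, ∀ N₂ ∈ 𝒩, N₁ ⊔ N₂ ∈ 𝒩 := by
    rintro N₁ ⟨a1, a2, a3⟩ N₂ ⟨b1, b2, b3⟩
    have hle' : N₁ ⊔ N₂ ≤ M' := sup_le a1 b1
    have hnn : N₁ ≤ normalizer (N₂ : Set H) := by
      intro x hx
      rw [mem_normalizer_iff]
      intro y
      refine ⟨fun hy => b2 x (a1 hx) y hy, fun hy => ?_⟩
      have h1 := b2 x⁻¹ (inv_mem (a1 hx)) _ hy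
      have e : x⁻¹ * (x * y * x⁻¹) * x⁻¹⁻¹ = y := by group
      rwa [e] at h1
    refine ⟨hle', ?_, ?_⟩
    · intro k hk n hn'
      have h1 : N₁ ⊔ N₂ ≤ (N₁ ⊔ N₂).comap (MulAut.conj k).toMonoidHom := by
        refine sup_le (fun x hx => ?_) fun x hx => ?_
        · exact (le_sup_left : N₁ ≤ N₁ ⊔ N₂) (a2 k hk x hx)
        · exact (le_sup_right : N₂ ≤ N₁ ⊔ N₂) (b2 k hk x hx)
      exact h1 hn'
    · -- the action as a homomorphism from the stabiliser
      let P : Subgroup H := N₁ ⊔ N₂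
      let C : Subgroup P :=
        { carrier := {x | ∀ v ∈ V, (x : H) • v = v}
          one_mem' := fun v _ => one_smul _ v
          mul_mem' := fun {a b} ha hb v hv => by
            rw [Subgroup.coe_mul, mul_smul, hb v hv, ha v hv]
          inv_mem' := fun {a} ha v hv => by
            rw [Subgroup.coe_inv, inv_smul_eq_iff, ha v hv] }
      have hC : C.Normal := by
        constructor
        intro n hn g v hv
        have hg : ((g : H))⁻¹ • v ∈ V := hV _ (inv_mem (hle (hle' g.2))) v hv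
        have e : ((g * n * g⁻¹ : P) : H) • v = (g : H) • (n : H) • (g : H)⁻¹ • v := by
          rw [Subgroup.coe_mul, Subgroup.coe_mul, Subgroup.coe_inv, mul_smul, mul_smul]
        rw [e, hn _ hg, smul_inv_smul]
      have key : ∀ (N : Subgroup H) (hNP : N ≤ P), (∀ n ∈ N, ∃ j : ℕ, ∀ v ∈ V, n ^ 2 ^ j • v = v) →
          IsPGroup 2 ((N.subgroupOf P).map (QuotientGroup.mk' C)) := by
        rintro N hNP hN ⟨_, ⟨x, hx, rfl⟩⟩
        obtain ⟨j, hj⟩ := hN x hx
        refine ⟨j, Subtype.ext ?_⟩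
        rw [Subgroup.coe_pow, Subgroup.coe_one]
        change (QuotientGroup.mk' C x) ^ 2 ^ j = 1
        rw [← map_pow, QuotientGroup.mk'_apply, QuotientGroup.eq_one_iff]
        intro v hv
        rw [Subgroup.coe_pow]
        exact hj v hv
      have k1 := key N₁ le_sup_left a3
      have k2 := key N₂ le_sup_right b3
      have k3 : IsPGroup 2 (((N₁.subgroupOf P).map (QuotientGroup.mk' C) ⊔
          (N₂.subgroupOf P).map (QuotientGroup.mk' C) : Subgroup (P ⧸ C))) := by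
        have hN2 : (N₂.subgroupOf P).Normal := ⟨fun n hn g => by
          rw [mem_subgroupOf] at hn ⊢
          exact b2 g (hle' g.2) n hn⟩
        have := hN2.map (QuotientGroup.mk' C) (QuotientGroup.mk'_surjective C)
        exact IsPGroup.to_sup_of_normal_right k1 k2
      rw [← Subgroup.map_sup] at k3
      have k4 : N₁.subgroupOf P ⊔ N₂.subgroupOf P = ⊤ := by
        rw [← subgroupOf_sup (le_sup_left : N₁ ≤ P) (le_sup_right : N₂ ≤ P), subgroupOf_self]
      rw [k4] at k3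
      intro n hn'
      obtain ⟨j, hj⟩ := k3 ⟨QuotientGroup.mk' C ⟨n, hn'⟩, ⟨⟨n, hn'⟩, trivial, rfl⟩⟩
      refine ⟨j, fun v hv => ?_⟩
      have h1 := congrArg Subtype.val hj
      rw [Subgroup.coe_pow, Subgroup.coe_one] at h1
      change (QuotientGroup.mk' C ⟨n, hn'⟩) ^ 2 ^ j = 1 at h1
      rw [← map_pow, QuotientGroup.mk'_apply, QuotientGroup.eq_one_iff] at h1
      have h2 := h1 v hv
      rwa [Subgroup.coe_pow] at h2
  obtain ⟨R, hR, hmax⟩ := Set.exists_max_image 𝒩 (fun N => Nat.card N) (Set.toFinite _) ⟨⊥, hbot⟩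
  have hall : ∀ N ∈ 𝒩, N ≤ R := by
    intro N hN
    have h1 := hmax _ (hsup N hN R hR)
    have h2 : R = N ⊔ R := Subgroup.eq_of_le_of_card_ge le_sup_right h1
    rw [h2]; exact le_sup_left
  -- `R` is normalised by `M`
  have hRM : ∀ k ∈ M, ∀ n ∈ R, k * n * k⁻¹ ∈ R := by
    intro k hk n hn'
    have h1 : R.map (MulAut.conj k).toMonoidHom ∈ 𝒩 := by
      refine ⟨?_, ?_, ?_⟩
      · rintro _ ⟨x, hx, rfl⟩
        exact hn k hk x (hR.1 hx)
      · rintro l hl _ ⟨x, hx, rfl⟩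
        refine ⟨k⁻¹ * l * k * x * (k⁻¹ * l * k)⁻¹, ?_, ?_⟩
        · refine hR.2.1 _ ?_ x hx
          have := hn k⁻¹ (inv_mem hk) l hl
          rwa [inv_inv] at this
        · simp only [MulEquiv.coe_toMonoidHom, MulAut.conj_apply]
          group
      · rintro _ ⟨x, hx, rfl⟩
        obtain ⟨j, hj⟩ := hR.2.2 x hx
        refine ⟨j, fun v hv => ?_⟩
        have e : (MulAut.conj k).toMonoidHom x ^ 2 ^ j • v = k • (x ^ 2 ^ j) • k⁻¹ • v := by
          have e1 : (MulAut.conj k).toMonoidHom x ^ 2 ^ j = k * x ^ 2 ^ j * k⁻¹ := by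
            rw [← map_pow]; rfl
          rw [e1, mul_smul, mul_smul]
        rw [e, hj _ (hV _ (inv_mem hk) v hv), smul_inv_smul]
    exact hall _ h1 ⟨n, hn', rfl⟩
  intro N hN1 hN2 hN3 n hn'
  exact hr R (hR.1.trans hle) hRM hR.2.2 n (hall N ⟨hN1, hN2, hN3⟩ hn')

theorem Red.nst [Finite H] {M Q : Subgroup H} {V : AddSubgroup U} (hr : Red M V)
    (hV : ∀ m ∈ M, ∀ v ∈ V, m • v ∈ V) (hQ : Q ≤ M) (n : ℕ) : Red (nst M Q n) V := by
  induction n with
  | zero => exact hr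
  | succ n ih =>
    exact ih.normal (fun m hm v hv => hV m (nst_anti hQ (Nat.zero_le n) hm) v hv) (nst_succ_le hQ n)
      fun k hk x hx => nst_norm n hk hx

theorem Red.sbc [Finite H] {M Q : Subgroup H} {V : AddSubgroup U} (hr : Red M V)
    (hV : ∀ m ∈ M, ∀ v ∈ V, m • v ∈ V) (hQ : Q ≤ M) : Red (sbc M Q) V := by
  obtain ⟨n, h1, -⟩ := exists_stab hQ
  rw [h1]; exact hr.nst hV hQ n

end red

/-! ### The M-side frame -/

section mx

variable {H : Type u} {U : Type v} [Group H] [AddCommGroup U] [DistribMulAction H U]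

/-- `C_M(U / V)` -/
def KV (M : Subgroup H) (V : AddSubgroup U) (hV : ∀ m ∈ M, ∀ v ∈ V, m • v ∈ V) : Subgroup H where
  carrier := {m | m ∈ M ∧ ∀ u : U, br m u ∈ V}
  one_mem' := ⟨one_mem _, fun u => by rw [br_one]; exact zero_mem _⟩
  mul_mem' := by
    rintro a b ⟨ha, ha'⟩ ⟨hb, hb'⟩
    refine ⟨mul_mem ha hb, fun u => ?_⟩
    rw [br_mul]
    exact V.add_mem (V.add_mem (ha' _) (hb' u)) (ha' u)
  inv_mem' := by
    rintro a ⟨ha, ha'⟩
    refine ⟨inv_mem ha, fun u => ?_⟩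
    have e : br a⁻¹ u = - (a⁻¹ • br a u) := by
      simp only [br_def, smul_sub, inv_smul_smul]; abel
    rw [e]
    exact V.neg_mem (hV _ (inv_mem ha) _ (ha' u))

/-- `{m ∈ M | [U, m] ≤ F, [F, m] = 0}` -/
def FFq (M : Subgroup H) (F : AddSubgroup U) : Subgroup H where
  carrier := {m | m ∈ M ∧ (∀ u : U, br m u ∈ F) ∧ ∀ f ∈ F, m • f = f}
  one_mem' := ⟨one_mem _, fun u => by rw [br_one]; exact zero_mem _, fun f _ => one_smul _ f⟩
  mul_mem' := by
    rintro a b ⟨ha, ha', ha''⟩ ⟨hb, hb', hb''⟩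
    refine ⟨mul_mem ha hb, fun u => ?_, fun f hf => ?_⟩
    · rw [br_mul]
      exact F.add_mem (F.add_mem (ha' _) (hb' u)) (ha' u)
    · rw [mul_smul, hb'' f hf, ha'' f hf]
  inv_mem' := by
    rintro a ⟨ha, ha', ha''⟩
    have h1 : ∀ f ∈ F, a⁻¹ • f = f := fun f hf => by rw [inv_smul_eq_iff, ha'' f hf]
    refine ⟨inv_mem ha, fun u => ?_, h1⟩
    have e : br a⁻¹ u = - (a⁻¹ • br a u) := by
      simp only [br_def, smul_sub, inv_smul_smul]; abel
    rw [e, h1 _ (ha' u)]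
    exact F.neg_mem (ha' u)

/-- `⟨B^K⟩` -/
def ncl (K B : Subgroup H) : Subgroup H := closure {x | ∃ k ∈ K, ∃ b ∈ B, x = k * b * k⁻¹}

theorem le_ncl (K B : Subgroup H) : B ≤ ncl K B := fun b hb => subset_closure ⟨1, one_mem _, b, hb, by group⟩

theorem ncl_conj {K B : Subgroup H} {k x : H} (hk : k ∈ K) (hx : x ∈ ncl K B) : k * x * k⁻¹ ∈ ncl K B := by
  unfold ncl at hx
  induction hx using closure_induction with
  | mem x hx =>
    obtain ⟨l, hl, q, hq, rfl⟩ := hx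
    exact subset_closure ⟨k * l, mul_mem hk hl, q, hq, by group⟩
  | one => rw [mul_one, mul_inv_cancel]; exact one_mem _
  | mul x y _ _ hx hy =>
    have e : k * (x * y) * k⁻¹ = k * x * k⁻¹ * (k * y * k⁻¹) := by group
    rw [e]; exact mul_mem hx hy
  | inv x _ hx =>
    have e : k * x⁻¹ * k⁻¹ = (k * x * k⁻¹)⁻¹ := by group
    rw [e]; exact inv_mem hx

/-- The frame of #18653. -/
structure MX (M X D B : Subgroup H) (V F : AddSubgroup U) (g : H) : Prop where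
  faith : ∀ y : H, (∀ u : U, y • u = u) → y = 1
  two : ∀ u : U, u + u = 0
  MV : ∀ m ∈ M, ∀ v ∈ V, m • v ∈ V
  FV : F ≤ V
  Fx : ∀ x ∈ X, ∀ f ∈ F, x • f = f
  ti : ∀ x ∈ X, x • V ≠ V → V ⊓ x • V ≤ F
  gX : g ∈ X
  DX : D ≤ X
  BD : B ≤ D
  MD : ∀ m ∈ M, ∀ d ∈ D, m * d * m⁻¹ ∈ D
  DV : ∀ d ∈ D, ∀ v ∈ V, d • v = v
  quad : ∀ a ∈ B, ∀ b ∈ B, ∀ u : U, b • (a • u - u) = a • u - u
  sup : g • V ⊔ fx U B = ⊤
  inf : g • V ⊓ fx U B ≤ F
  ne : ∃ y ∈ B, y ≠ 1 ∧ ∀ u : U, y • u - u ∈ F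
  RM : ∀ x ∈ X, (∀ u : U, x • u - u ∈ F) → x ∈ M
  red : Red M V

namespace MX

variable {M X D B : Subgroup H} {V F : AddSubgroup U} {g : H} (h : MX M X D B V F g)
include h

theorem V_le_C : V ≤ fx U B := fun v hv b hb => h.DV b (h.BD hb) v hv

omit h in
theorem FFq_le_M : FFq M F ≤ M := fun _ hm => hm.1

theorem FFq_le_KV : FFq M F ≤ KV M V h.MV := fun _ hm => ⟨hm.1, fun u => h.FV (hm.2.1 u)⟩

theorem KV_norm {m k : H} (hm : m ∈ M) (hk : k ∈ KV M V h.MV) : m * k * m⁻¹ ∈ KV M V h.MV := by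
  refine ⟨mul_mem (mul_mem hm hk.1) (inv_mem hm), fun u => ?_⟩
  have e : u = m • (m⁻¹ • u) := (smul_inv_smul m u).symm
  rw [e, br_conj_smul]
  exact h.MV m hm _ (hk.2 _)

theorem sbc_le_KV : sbc M (FFq M F) ≤ KV M V h.MV :=
  sbc_le_of_normal (fun _ hk _ hn => h.KV_norm hk hn) h.FFq_le_KV

theorem ncl_le_D : ncl (KV M V h.MV) B ≤ D := by
  refine (closure_le _).2 ?_
  rintro _ ⟨k, hk, b, hb, rfl⟩
  exact h.MD k hk.1 b (h.BD hb)

/-- `C_U(B)` is `K_V`-invariant -/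
theorem KV_C {k : H} (hk : k ∈ KV M V h.MV) {c : U} (hc : c ∈ fx U B) : k • c ∈ fx U B := by
  rw [smul_eq]
  exact (fx U B).add_mem (h.V_le_C (hk.2 c)) hc

/-- `BB = ⟨B^{K_V}⟩` is trivial on `C` and on `U / C` -/
theorem ncl_C {y : H} (hy : y ∈ ncl (KV M V h.MV) B) :
    (∀ c ∈ fx U B, y • c = c) ∧ ∀ u : U, br y u ∈ fx U B := by
  unfold ncl at hy
  induction hy using closure_induction with
  | mem x hx =>
    obtain ⟨k, hk, b, hb, rfl⟩ := hx
    have hk' : k⁻¹ ∈ KV M V h.MV := inv_mem hk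
    refine ⟨fun c hc => ?_, fun u => ?_⟩
    · rw [mul_smul, mul_smul, h.KV_C hk' hc b hb, smul_inv_smul]
    · have e : u = k • (k⁻¹ • u) := (smul_inv_smul k u).symm
      rw [e, br_conj_smul]
      exact h.KV_C hk fun b' hb' => h.quad b hb b' hb' _
  | one => exact ⟨fun c _ => one_smul _ c, fun u => by rw [br_one]; exact zero_mem _⟩
  | mul x y _ _ hx hy =>
    refine ⟨fun c hc => by rw [mul_smul, hy.1 c hc, hx.1 c hc], fun u => ?_⟩
    rw [br_mul]
    exact (fx U B).add_mem ((fx U B).add_mem (hx.2 _) (hy.2 u)) (hx.2 u)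
  | inv x _ hx =>
    have h1 : ∀ c ∈ fx U B, x⁻¹ • c = c := fun c hc => by rw [inv_smul_eq_iff, hx.1 c hc]
    refine ⟨h1, fun u => ?_⟩
    have e : br x⁻¹ u = - (x⁻¹ • br x u) := by
      simp only [br_def, smul_sub, inv_smul_smul]; abel
    rw [e, h1 _ (hx.2 u)]
    exact (fx U B).neg_mem (hx.2 u)

theorem F_le_L : F ≤ g • V := by
  intro f hf
  rw [TT.mem_smul]
  have h1 : g⁻¹ • f = f := by rw [inv_smul_eq_iff, h.Fx g h.gX f hf]
  rw [h1]; exact h.FV hf

theorem exists_sup (u : U) : ∃ l ∈ g • V, ∃ c ∈ fx U B, u = l + c := by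
  have h1 : u ∈ g • V ⊔ fx U B := by rw [h.sup]; trivial
  obtain ⟨l, hl, c, hc, e⟩ := AddSubgroup.mem_sup.1 h1
  exact ⟨l, hl, c, hc, e.symm⟩

/-- an element of `X` trivial on `C` and on `U / C` which does not move `g V` -/
theorem mov {y : H} (hyX : y ∈ X) (hC : ∀ c ∈ fx U B, y • c = c) (hU : ∀ u : U, br y u ∈ fx U B) :
    (∀ u : U, br y u ∈ F) ∨ ∀ l ∈ g • V, br y l ∈ g • V → l ∈ F := by
  by_cases hy : y • g • V = g • V
  · left
    intro u
    obtain ⟨l, hl, c, hc, rfl⟩ := h.exists_sup u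
    rw [br_add, br_eq_zero.2 (hC c hc), add_zero]
    refine h.inf ⟨?_, hU l⟩
    rw [br_def]
    refine (g • V).sub_mem ?_ hl
    have h1 : y • l ∈ y • g • V := TT.smul_mem' hl
    rwa [hy] at h1
  · right
    intro l hl hb
    have h1 : y • l ∈ g • V := by
      rw [smul_eq]; exact (g • V).add_mem hb hl
    have h2 : y • l ∈ y • g • V := TT.smul_mem' hl
    -- move back by `g`
    have hg : (g⁻¹ * y * g) ∈ X := mul_mem (mul_mem (inv_mem h.gX) hyX) h.gX
    have hne : (g⁻¹ * y * g) • V ≠ V := by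
      intro h0
      apply hy
      have e : y • g • V = g • (g⁻¹ * y * g) • V := by
        rw [smul_smul, smul_smul]; congr 1; group
      rw [e, h0]
    have h3 : g⁻¹ • y • l ∈ F := by
      have e : (g⁻¹ * y * g)⁻¹ • g⁻¹ • y • l = g⁻¹ • l := by
        rw [smul_smul, smul_smul]; congr 1; group
      refine h.ti _ hg hne ⟨TT.mem_smul.1 h1, TT.mem_smul.2 ?_⟩
      rw [e]; exact TT.mem_smul.1 hl
    have h4 : y • l ∈ F := by
      have h5 := h.Fx g h.gX _ h3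
      rw [smul_inv_smul] at h5
      rw [h5]; exact h3
    have h5 := h.Fx y⁻¹ (inv_mem hyX) _ h4
    rw [inv_smul_smul] at h5
    rw [h5]; exact h4

/-- **The plug.** -/
theorem dat [Finite H] : Ten.Dat (sbc M (FFq M F)) (FFq M F) (ncl (KV M V h.MV) B) V F (g • V) (fx U B) g⁻¹ where
  faith := h.faith
  two := h.two
  FV := h.FV
  VC := h.V_le_C
  FL := h.F_le_L
  LC := h.exists_sup
  LF := fun u hu hc => h.inf ⟨hu, hc⟩
  bC := fun y hy c hc => (h.ncl_C hy).1 c hc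
  bU := fun y hy u => (h.ncl_C hy).2 u
  mov := fun y hy => h.mov (h.DX (h.ncl_le_D hy)) (h.ncl_C hy).1 (h.ncl_C hy).2
  yB := fun k hk b hb => ncl_conj (h.sbc_le_KV hk) hb
  yV := fun k hk u => (h.sbc_le_KV hk).2 u
  QY := le_sbc FFq_le_M
  qF := fun d hd => hd.2.2
  qU := fun d hd => hd.2.1
  hL := fun l hl => TT.mem_smul.1 hl
  hV := fun v hv => by rw [inv_inv]; exact TT.smul_mem' hv
  hF := fun f hf => by rw [inv_smul_eq_iff, h.Fx g h.gX f hf]
  hA := fun y hy hyF => by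
    have hyX : y ∈ X := h.DX (h.ncl_le_D hy)
    have hgX : g⁻¹ * y * g⁻¹⁻¹ ∈ X := by
      rw [inv_inv]; exact mul_mem (mul_mem (inv_mem h.gX) hyX) h.gX
    have hU : ∀ u : U, br (g⁻¹ * y * g⁻¹⁻¹) u ∈ F := by
      intro u
      have e : u = g⁻¹ • (g • u) := (inv_smul_smul g u).symm
      rw [e, br_conj_smul]
      have h1 : g⁻¹ • br y (g • u) = br y (g • u) := by
        rw [inv_smul_eq_iff, h.Fx g h.gX _ (hyF _)]
      rw [h1]; exact hyF _
    exact ⟨h.RM _ hgX hU, hU, fun f hf => h.Fx _ hgX f hf⟩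
  ne := by
    obtain ⟨y, hy, hy1, hyF⟩ := h.ne
    exact ⟨y, le_ncl _ _ hy, hy1, hyF⟩
  gen := fun N _ hN hQN => sbc_gen FFq_le_M hN hQN
  red := h.red.sbc h.MV FFq_le_M

end MX

end mx

end Cfsg.Agent.Omega.NO3b.Exit.TDat

end

section


/-!
# The second half of LOC (#18653, helper776), part 5: `Dat → Mdl`

For `D : Dat Y Q BB V F L C h` (`H`, `U` finite): `AM D` = `[BB, O²(Y)]` written additively, a `Y`-module (conjugation);
`D.bt : AM D →+ U →+ U`, `D.bt y u = [u, y]`; `D.AZM` : `A₀`.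

* `Dat.isIrr` (instance), `Dat.mdl : Mdl V F C D.AZM (Q.subgroupOf Y) D.bt`.

So all of TenMdl applies: `K = KK Y (AM D)`, `E = HomY Y (AM D) U = U / C`, `A = K a + A₀`, all transvections,
`A ⊗ E → U` injective (`HomY.ind`, `HomY.ind'`), **(8)** = `Dat.act_two`.
-/

set_option autoImplicit false

namespace Cfsg.Agent.Omega.NO3b.Exit.Ten

open Subgroup

universe u v

variable {H : Type u} {U : Type v} [Group H] [AddCommGroup U] [DistribMulAction H U] {Y Q BB : Subgroup H}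
  {V F L C : AddSubgroup U} {h : H}

/-- `AA` as an additive group -/
def AM (_ : Dat Y Q BB V F L C h) : Type u := Additive ↥(AAs Y BB)

namespace AM

variable {D : Dat Y Q BB V F L C h}

/-- the underlying element of `H` -/
def val (a : AM D) : H := ((Additive.toMul a : ↥(AAs Y BB)) : H)

def mk (x : H) (hx : x ∈ D.AA) : AM D := Additive.ofMul ⟨x, hx⟩

theorem val_mk (x : H) (hx : x ∈ D.AA) : (mk x hx : AM D).val = x := rfl

theorem val_mem (a : AM D) : a.val ∈ D.AA := (Additive.toMul a : ↥(AAs Y BB)).2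

theorem ext {a b : AM D} (hab : a.val = b.val) : a = b := Subtype.ext hab

instance : AddCommGroup (AM D) :=
  { (inferInstance : AddGroup (Additive ↥(AAs Y BB))) with
    add_comm := fun a b => ext (D.comm_B (D.AA_le (val_mem a)) (D.AA_le (val_mem b))) }

theorem val_add (a b : AM D) : (a + b).val = a.val * b.val := rfl

instance : DistribMulAction Y (AM D) where
  smul k a := mk ((k : H) * a.val * (k : H)⁻¹) (D.AA_conj k.2 a.val_mem)
  one_smul a := ext (by change (1 : H) * a.val * (1 : H)⁻¹ = a.val; group)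
  mul_smul k l a := ext (by
    change ((k * l : Y) : H) * a.val * ((k * l : Y) : H)⁻¹ = k * (l * a.val * (l : H)⁻¹) * (k : H)⁻¹
    rw [Subgroup.coe_mul]; group)
  smul_zero k := ext (by change (k : H) * 1 * (k : H)⁻¹ = 1; group)
  smul_add k a b := ext (by
    change (k : H) * (a.val * b.val) * (k : H)⁻¹ = k * a.val * (k : H)⁻¹ * (k * b.val * (k : H)⁻¹)
    group)

theorem val_smul (k : Y) (a : AM D) : (k • a).val = k * a.val * (k : H)⁻¹ := rfl

instance [Finite H] : Finite (AM D) := Finite.of_injective (fun a => a.val) fun _ _ h => ext h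

end AM

namespace Dat

variable (D : Dat Y Q BB V F L C h)

/-- `A₀` -/
def AZM : AddSubgroup (AM D) where
  carrier := {a | a.val ∈ D.AZ}
  zero_mem' := D.AZ.one_mem
  add_mem' := fun {a b} (ha : a.val ∈ D.AZ) (hb : b.val ∈ D.AZ) => D.AZ.mul_mem ha hb
  neg_mem' := fun {a} (ha : a.val ∈ D.AZ) => D.AZ.inv_mem ha

/-- `[u, y]` -/
def bt : AM D →+ U →+ U :=
  AddMonoidHom.mk' (fun a => AddMonoidHom.mk' (fun u => br a.val u) fun u v => br_add _ u v) fun a b => by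
    ext u
    exact D.br_mul_B (D.AA_le a.val_mem) (D.AA_le b.val_mem) u

theorem bt_apply (a : AM D) (u : U) : D.bt a u = br a.val u := rfl

theorem AM_two (a : AM D) : a + a = 0 := AM.ext (D.sq_B (D.AA_le a.val_mem))

instance isIrr [Finite H] [Finite U] : IsIrr Y (AM D) where
  ne := by
    obtain ⟨y, hy, hy'⟩ := D.exists_notMem
    refine ⟨AM.mk y hy, fun h0 => hy' ?_⟩
    have h1 : (AM.mk y hy : AM D).val = 1 := by rw [h0]; rfl
    rw [AM.val_mk] at h1
    rw [h1]; exact one_mem _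
  irr := by
    intro N hN
    let N' : Subgroup H :=
      { carrier := {x | ∃ hx : x ∈ D.AA, (AM.mk x hx : AM D) ∈ N}
        one_mem' := ⟨one_mem _, N.zero_mem⟩
        mul_mem' := by
          rintro x y ⟨hx, hx'⟩ ⟨hy, hy'⟩
          exact ⟨mul_mem hx hy, N.add_mem hx' hy'⟩
        inv_mem' := by
          rintro x ⟨hx, hx'⟩
          exact ⟨inv_mem hx, N.neg_mem hx'⟩ }
    have h1 : ∀ k ∈ Y, ∀ n ∈ N', k * n * k⁻¹ ∈ N' := by
      rintro k hk n ⟨hn, hn'⟩
      exact ⟨D.AA_conj hk hn, hN ⟨k, hk⟩ _ hn'⟩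
    rcases D.irr (N := N') (fun x hx => hx.1) h1 with h | h
    · left
      rw [eq_bot_iff]
      intro a ha
      have h2 : a.val ∈ N' := ⟨a.val_mem, ha⟩
      rw [h, mem_bot] at h2
      exact AM.ext h2
    · right
      rw [eq_top_iff]
      intro a _
      have h2 : a.val ∈ N' := by rw [h]; exact a.val_mem
      exact h2.2

/-- The model. -/
theorem mdl [Finite H] [Finite U] : Mdl V F C D.AZM (Q.subgroupOf Y) D.bt where
  eq k a u := D.br_conj k.2 (D.AA_le a.val_mem) u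
  mem a u := D.AA_V a.val_mem u
  inF a ha u := ha.2 u
  bC a c hc := D.br_C (D.AA_le a.val_mem) hc
  faith a ha := AM.ext (D.ext fun u => by
    rw [← D.bt_apply, ha u]
    exact (br_one u).symm)
  FV := D.FV
  VC := D.VC
  inC a ha u hu := by
    obtain ⟨l, hl, c, hc, rfl⟩ := D.LC u
    rw [D.bt_apply, br_add, D.br_C (D.AA_le a.val_mem) hc, add_zero] at hu
    exact C.add_mem (D.VC (D.FV (D.inj (D.AA_le a.val_mem) ha hl (D.FL hu)))) hc
  span a ha v hv := by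
    obtain ⟨l, -, f, hf, e⟩ := D.span (D.AA_le a.val_mem) ha (D.AA_V a.val_mem) hv
    refine ⟨l, ?_⟩
    rw [D.bt_apply, e, add_sub_cancel_left]
    exact hf
  yV k u := D.yV k k.2 u
  qA d hd a ha := AM.ext (D.br_Q_AZ hd ha)
  qF d hd f hf := D.qF d hd f hf
  qU d hd u := D.qU d hd u
  com d hd a := by
    change (d • a - a).val ∈ D.AZ
    rw [sub_eq_add_neg]
    exact D.comm_Q hd (D.AA_le a.val_mem)
  surj a ha s hs := by
    obtain ⟨d, hd, e⟩ := D.surj (D.AA_le a.val_mem) ha (D.AA_V a.val_mem) hs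
    refine ⟨⟨d, D.QY hd⟩, hd, AM.ext ?_⟩
    rw [sub_eq_add_neg]
    exact e
  ne := by
    obtain ⟨y, hy, hy1, hyF⟩ := D.ne
    refine ⟨AM.mk y (D.AZ_le_AA ⟨hy, hyF⟩), ⟨hy, hyF⟩, fun h0 => hy1 ?_⟩
    have h1 : (AM.mk y (D.AZ_le_AA ⟨hy, hyF⟩) : AM D).val = 1 := by rw [h0]; rfl
    exact h1
  nt := by
    obtain ⟨y, hy, hy'⟩ := D.exists_notMem
    exact ⟨AM.mk y hy, hy'⟩

end Dat

end Cfsg.Agent.Omega.NO3b.Exit.Ten

end

section


/-!
# The blocks of `V` in LOC without (PR) (helper255, bb 20845), part 1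

`Blk0 Y Q BB V F L C h M KV S` : helper823's `TBlk.Blk` without the fields `OM`, `pr`, `cz`, `gen` (no hypothesis
on the generation of `V` is needed: `gen_dec` of `BlkHX.lean` comes from `TenSplit.lean`, helper449).

* `dich`, `cent`, `indep`, `mem_all`, `br_YM` : as in TightBlk.lean (copied);
* `all_sep` : an element of `all = Σ m V₁` fixed by `YM` is zero; `exists_dec` : `V = all + C_V(YM)` (Gaschütz);
* `exists_comp` : every block carries a component `≠ 0` of some `z ∈ C_V(S) ∩ all`;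
* `ann_one`, `odd_T` : the action on one block;
* **`hX`** : `x ∈ YM` which fixes `C_V(S)` fixes `C_V(S ∩ YM)`;
* `moves` : `S ∩ YM` moves `V`.
-/

set_option autoImplicit false

open scoped Pointwise

namespace Cfsg.Agent.Omega.NO3b.Exit.BlkZ

open Subgroup Cfsg.Agent.Omega.NO3b.Exit Ten Descent
open Cfsg.Agent.Omega.NO3b.Exit.TBlk hiding Blk

universe u v

/-- The situation with `M`. -/
structure Blk0 {H : Type u} {U : Type v} [Group H] [AddCommGroup U] [DistribMulAction H U]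
    (Y Q BB : Subgroup H) (V F L C : AddSubgroup U) (h : H) (M KV S : Subgroup H) : Prop where
  dat : Dat Y Q BB V F L C h
  KM : KV ≤ M
  nK : ∀ m ∈ M, ∀ k ∈ KV, m * k * m⁻¹ ∈ KV
  mV : ∀ m ∈ M, ∀ v ∈ V, m • v ∈ V
  kV : ∀ k ∈ KV, ∀ u : U, br k u ∈ V
  kB : ∀ k ∈ KV, ∀ b ∈ BB, k * b * k⁻¹ ∈ BB
  sn : Sn Y KV
  SM : S ≤ M
  S2 : IsPGroup 2 S
  syl : ¬ 2 ∣ S.relIndex M

namespace Blk0

variable {H : Type u} {U : Type v} [Group H] [AddCommGroup U] [DistribMulAction H U]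
variable {Y Q BB : Subgroup H} {V F L C : AddSubgroup U} {h : H} {M KV S : Subgroup H}
variable (B : Blk0 Y Q BB V F L C h M KV S)
include B

theorem AA_K [Finite H] [Finite U] : ∀ k ∈ KV, ∀ x ∈ B.dat.AA, k * x * k⁻¹ ∈ B.dat.AA :=
  AA_KV B.dat B.sn B.kB B.kV

theorem V1_K [Finite H] [Finite U] {k : H} (hk : k ∈ KV) {v : U} (hv : v ∈ V1 B.dat) : k • v ∈ V1 B.dat :=
  V1_inv B.dat B.AA_K B.kV hk hv

theorem YK : Y ≤ KV := B.sn.le

theorem br_K [Finite H] [Finite U] {k y : H} (hk : k ∈ KV) (hy : y ∈ B.dat.AA) (u : U) :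
    br (k * y * k⁻¹) u = k • br y u :=
  B.dat.br_conj' (fun u => B.dat.VC (B.kV _ (inv_mem hk) u)) (B.dat.AA_le hy) u

theorem nK' {m : H} (hm : m ∈ M) {k : H} (hk : k ∈ KV) : m⁻¹ * k * m ∈ KV := by
  have := B.nK m⁻¹ (inv_mem hm) k hk
  rwa [inv_inv] at this

/-- `m V₁` is `KV`-invariant. -/
theorem smul_V1_K [Finite H] [Finite U] {m : H} (hm : m ∈ M) {k : H} (hk : k ∈ KV) {v : U}
    (hv : v ∈ m • V1 B.dat) : k • v ∈ m • V1 B.dat := by
  obtain ⟨w, hw, rfl⟩ := (AddSubgroup.mem_smul_pointwise_iff_exists _ _ _).1 hv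
  refine (AddSubgroup.mem_smul_pointwise_iff_exists _ _ _).2 ⟨(m⁻¹ * k * m) • w, B.V1_K (B.nK' hm hk) hw, ?_⟩
  rw [smul_smul, smul_smul]
  congr 1
  group

theorem smul_V1_le {m : H} (hm : m ∈ M) : m • V1 B.dat ≤ V := by
  intro v hv
  obtain ⟨w, hw, rfl⟩ := (AddSubgroup.mem_smul_pointwise_iff_exists _ _ _).1 hv
  exact B.mV m hm w (V1_le B.dat hw)

/-- **Dichotomy**, half: `V₁ ∩ m V₁ ≠ 0` implies `m V₁ ≤ V₁`. -/
theorem le_of_inf_ne [Finite H] [Finite U] {m : H} (hm : m ∈ M) (hne : V1 B.dat ⊓ m • V1 B.dat ≠ ⊥) :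
    m • V1 B.dat ≤ V1 B.dat := by
  have D := B.dat
  -- `[l, AA] ≤ V₁ ∩ m V₁`
  have hW : ∀ k ∈ KV, ∀ w ∈ V1 B.dat ⊓ m • V1 B.dat, k • w ∈ V1 B.dat ⊓ m • V1 B.dat :=
    fun k hk w hw => ⟨B.V1_K hk hw.1, B.smul_V1_K hm hk hw.2⟩
  obtain ⟨l, hl, hlC, hlW⟩ := exists_sub D (W := V1 B.dat ⊓ m • V1 B.dat) (inf_le_left.trans (V1_le D))
    (fun k hk => hW k (B.YK hk)) (not_le_F D inf_le_left (fun k hk => hW k (B.YK hk)) hne)
  -- `W' = m⁻¹ [l, AA]`
  let W' : AddSubgroup U :=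
    { carrier := {w | ∃ y ∈ D.AA, m • w = br y l}
      zero_mem' := ⟨1, one_mem _, by rw [smul_zero, br_one]⟩
      add_mem' := by
        rintro a b ⟨y, hy, e⟩ ⟨y', hy', e'⟩
        exact ⟨y * y', mul_mem hy hy', by rw [smul_add, e, e', br_AA_mul D hy hy']⟩
      neg_mem' := by
        rintro a ⟨y, hy, e⟩
        exact ⟨y, hy, by rw [smul_neg, e, D.neg_eq]⟩ }
  have hW1 : W' ≤ V1 D := by
    rintro w ⟨y, hy, e⟩
    have h1 : m • w ∈ m • V1 B.dat := by rw [e]; exact (hlW y hy).2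
    exact (AddSubgroup.smul_mem_pointwise_smul_iff).1 h1
  have hW2 : ∀ k ∈ KV, ∀ w ∈ W', k • w ∈ W' := by
    rintro k hk w ⟨y, hy, e⟩
    refine ⟨m * k * m⁻¹ * y * (m * k * m⁻¹)⁻¹, B.AA_K _ (B.nK m hm k hk) y hy, ?_⟩
    rw [B.br_K (B.nK m hm k hk) hy, ← e, smul_smul, smul_smul]
    congr 1
    group
  have hW3 : W' ≠ ⊥ := by
    obtain ⟨a, ha, ha'⟩ := D.exists_notMem
    intro h0
    have h1 : m⁻¹ • br a l ∈ W' := ⟨a, ha, by rw [smul_inv_smul]⟩
    rw [h0, AddSubgroup.mem_bot] at h1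
    have h2 : br a l = 0 := by rw [← smul_inv_smul m (br a l), h1, smul_zero]
    have h3 := eq_one_of_br D hlC ha h2
    exact ha' (h3 ▸ one_mem _)
  obtain ⟨l', hl', hlC', hlW'⟩ := exists_sub D (W := W') (hW1.trans (V1_le D)) (fun k hk => hW2 k (B.YK hk))
    (not_le_F D hW1 (fun k hk => hW2 k (B.YK hk)) hW3)
  -- the bijection
  have hex : ∀ y : D.AA, ∃ x : D.AA, m • br (y : H) l' = br (x : H) l := fun y => by
    obtain ⟨x, hx, e⟩ := hlW' y y.2
    exact ⟨⟨x, hx⟩, e⟩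
  choose θ hθ using hex
  have hinj : Function.Injective θ := by
    intro y y' e
    have h1 : m • br (y : H) l' = m • br (y' : H) l' := by rw [hθ, hθ, e]
    have h2 : br (y : H) l' = br (y' : H) l' := smul_left_cancel m h1
    have h3 : (y : H) * (y' : H) = 1 := by
      refine eq_one_of_br D hlC' (mul_mem y.2 y'.2) ?_
      rw [br_AA_mul D y.2 y'.2, h2, D.two]
    have h4 := D.sq_B (D.AA_le y'.2)
    exact Subtype.ext (mul_right_cancel (h3.trans h4.symm))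
  have hbij : Function.Bijective θ := (Finite.injective_iff_bijective).1 hinj
  have hθmul : ∀ y y' : D.AA, θ (y * y') = θ y * θ y' := by
    intro y y'
    have h1 : br ((θ (y * y') : D.AA) : H) l = br ((θ y * θ y' : D.AA) : H) l := by
      rw [← hθ, Subgroup.coe_mul, Subgroup.coe_mul, br_AA_mul D y.2 y'.2, br_AA_mul D (θ y).2 (θ y').2, smul_add,
        hθ, hθ]
    have h3 : ((θ (y * y') : D.AA) : H) * ((θ y * θ y' : D.AA) : H) = 1 := by
      refine eq_one_of_br D hlC (mul_mem (θ (y * y')).2 (θ y * θ y').2) ?_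
      rw [br_AA_mul D (θ (y * y')).2 (θ y * θ y').2, h1, D.two]
    have h4 := D.sq_B (D.AA_le (θ y * θ y').2)
    exact Subtype.ext (mul_right_cancel (h3.trans h4.symm))
  have hθK : ∀ k ∈ KV, ∀ y : D.AA, ∀ y' : D.AA, (y' : H) = k * y * k⁻¹ →
      ((θ y' : D.AA) : H) = m * k * m⁻¹ * (θ y : H) * (m * k * m⁻¹)⁻¹ := by
    intro k hk y y' e
    have hmk := B.nK m hm k hk
    have hx : m * k * m⁻¹ * (θ y : H) * (m * k * m⁻¹)⁻¹ ∈ D.AA := B.AA_K _ hmk _ (θ y).2
    have h1 : br ((θ y' : D.AA) : H) l = br (m * k * m⁻¹ * (θ y : H) * (m * k * m⁻¹)⁻¹) l := by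
      rw [← hθ, e, B.br_K hk y.2, B.br_K hmk (θ y).2, ← hθ, smul_smul, smul_smul]
      congr 1
      group
    have h3 : ((θ y' : D.AA) : H) * (m * k * m⁻¹ * (θ y : H) * (m * k * m⁻¹)⁻¹) = 1 := by
      refine eq_one_of_br D hlC (mul_mem (θ y').2 hx) ?_
      rw [br_AA_mul D (θ y').2 hx, h1, D.two]
    have h4 := D.sq_B (D.AA_le hx)
    exact mul_right_cancel (h3.trans h4.symm)
  -- the homomorphisms
  intro v hv
  obtain ⟨w, hw, rfl⟩ := (AddSubgroup.mem_smul_pointwise_iff_exists _ _ _).1 hv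
  clear hv
  induction hw using AddSubgroup.closure_induction with
  | zero => rw [smul_zero]; exact zero_mem _
  | add a b _ _ ha hb => rw [smul_add]; exact add_mem ha hb
  | neg a _ ha => rw [smul_neg]; exact neg_mem ha
  | mem w hw =>
    obtain ⟨x0, hx0, u, rfl⟩ := hw
    classical
    let ψ : D.AA → D.AA := fun y => (hbij.2 y).choose
    have hψ : ∀ y, θ (ψ y) = y := fun y => (hbij.2 y).choose_spec
    let φ : H → U := fun y => if hy : y ∈ D.AA then m • br ((ψ ⟨y, hy⟩ : D.AA) : H) u else 0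
    have hφ : ∀ y (hy : y ∈ D.AA), φ y = m • br ((ψ ⟨y, hy⟩ : D.AA) : H) u := fun y hy => dif_pos hy
    have hψmul : ∀ y y' : D.AA, ψ (y * y') = ψ y * ψ y' := fun y y' => hinj (by
      rw [hθmul, hψ, hψ, hψ])
    obtain ⟨l2, hl2, e2⟩ := exists_hom D (φ := φ) (fun x hx y hy => by
        rw [hφ x hx, hφ y hy, hφ _ (mul_mem hx hy)]
        have e : (⟨x * y, mul_mem hx hy⟩ : D.AA) = ⟨x, hx⟩ * ⟨y, hy⟩ := rfl
        rw [e, hψmul, Subgroup.coe_mul, br_AA_mul D (ψ _).2 (ψ _).2, smul_add])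
      (fun y hy => by rw [hφ y hy]; exact B.mV m hm _ (D.AA_V (ψ _).2 u))
      (fun k hk y hy => by
        have hkK := B.YK hk
        have hmk := B.nK' hm hkK
        rw [hφ y hy, hφ _ (D.AA_conj hk hy)]
        have hx : m⁻¹ * k * m * (ψ ⟨y, hy⟩ : H) * (m⁻¹ * k * m)⁻¹ ∈ D.AA := B.AA_K _ hmk _ (ψ _).2
        have h1 : ψ ⟨k * y * k⁻¹, D.AA_conj hk hy⟩ = ⟨_, hx⟩ := by
          apply hinj
          rw [hψ]
          apply Subtype.ext
          rw [hθK _ hmk (ψ ⟨y, hy⟩) ⟨_, hx⟩ rfl, hψ]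
          group
        rw [h1]
        change m • br (m⁻¹ * k * m * (ψ ⟨y, hy⟩ : H) * (m⁻¹ * k * m)⁻¹) u = _
        rw [B.br_K hmk (ψ _).2, smul_smul, smul_smul]
        congr 1
        group)
    have h1 := e2 (θ ⟨x0, hx0⟩) (θ ⟨x0, hx0⟩).2
    rw [hφ _ (θ ⟨x0, hx0⟩).2] at h1
    have h2 : ψ ⟨(θ ⟨x0, hx0⟩ : H), (θ ⟨x0, hx0⟩).2⟩ = ⟨x0, hx0⟩ := hinj (by rw [hψ])
    rw [h2] at h1
    rw [h1]
    exact br_mem_V1 D (θ ⟨x0, hx0⟩).2 l2

omit B in
theorem card_smul (m : H) (X : AddSubgroup U) : Nat.card (m • X : AddSubgroup U) = Nat.card X :=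
  Nat.card_congr ⟨fun x => ⟨m⁻¹ • (x : U), AddSubgroup.mem_pointwise_smul_iff_inv_smul_mem.1 x.2⟩,
    fun x => ⟨m • (x : U), AddSubgroup.smul_mem_pointwise_smul _ _ _ x.2⟩,
    fun _ => Subtype.ext (smul_inv_smul m _), fun _ => Subtype.ext (inv_smul_smul m _)⟩

theorem mem_smul {m : H} {v : U} : v ∈ m • V1 B.dat ↔ ∃ w ∈ V1 B.dat, m • w = v :=
  AddSubgroup.mem_smul_pointwise_iff_exists _ _ _

/-- **Dichotomy** -/
theorem dich [Finite H] [Finite U] {m : H} (hm : m ∈ M) : m • V1 B.dat = V1 B.dat ∨ V1 B.dat ⊓ m • V1 B.dat = ⊥ := by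
  by_cases hne : V1 B.dat ⊓ m • V1 B.dat = ⊥
  · exact Or.inr hne
  left
  have h1 := B.le_of_inf_ne hm hne
  refine AddSubgroup.eq_of_le_of_card_ge h1 (le_of_eq ?_)
  exact (card_smul m _).symm

/-- `Y^m` centralises `m' V₁ ≠ m V₁`. -/
theorem cent [Finite H] [Finite U] {m m' : H} (hm : m ∈ M) (hm' : m' ∈ M)
    (hne : m • V1 B.dat ≠ m' • V1 B.dat) {k : H} (hk : k ∈ Y) {v : U} (hv : v ∈ m' • V1 B.dat) :
    (m * k * m⁻¹) • v = v := by
  have hn : m⁻¹ * m' ∈ M := mul_mem (inv_mem hm) hm'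
  have h1 : V1 B.dat ⊓ (m⁻¹ * m') • V1 B.dat = ⊥ := by
    refine (B.dich hn).resolve_left fun h1 => hne ?_
    rw [mul_smul, inv_smul_eq_iff] at h1
    exact h1.symm
  have hv' : m⁻¹ • v ∈ (m⁻¹ * m') • V1 B.dat := by
    rw [mul_smul]
    exact AddSubgroup.smul_mem_pointwise_smul _ _ _ hv
  have h2 : br k (m⁻¹ • v) ∈ V1 B.dat ⊓ (m⁻¹ * m') • V1 B.dat := by
    refine ⟨br_Y_V1 B.dat hk (B.smul_V1_le hn hv'), ?_⟩
    change br k (m⁻¹ • v) ∈ (m⁻¹ * m') • V1 B.dat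
    rw [br_def]
    exact sub_mem (B.smul_V1_K hn (B.YK hk) hv') hv'
  rw [h1, AddSubgroup.mem_bot, br_eq_zero] at h2
  rw [mul_smul, mul_smul, h2, smul_inv_smul]

/-- the sum of the blocks different from `m V₁` -/
def rest (m : H) : AddSubgroup U := AddSubgroup.closure {v | ∃ m' ∈ M, m • V1 B.dat ≠ m' • V1 B.dat ∧ v ∈ m' • V1 B.dat}

/-- the sum of all blocks -/
def all : AddSubgroup U := AddSubgroup.closure {v | ∃ m ∈ M, v ∈ m • V1 B.dat}

theorem le_rest {m m' : H} (hm' : m' ∈ M) (hne : m • V1 B.dat ≠ m' • V1 B.dat) : m' • V1 B.dat ≤ B.rest m :=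
  fun _ hv => AddSubgroup.subset_closure ⟨m', hm', hne, hv⟩

theorem le_all {m : H} (hm : m ∈ M) : m • V1 B.dat ≤ B.all :=
  fun _ hv => AddSubgroup.subset_closure ⟨m, hm, hv⟩

theorem rest_le_all (m : H) : B.rest m ≤ B.all := by
  refine (AddSubgroup.closure_le _).2 ?_
  rintro v ⟨m', hm', -, hv⟩
  exact B.le_all hm' hv

theorem all_le : B.all ≤ V := by
  refine (AddSubgroup.closure_le _).2 ?_
  rintro v ⟨m, hm, hv⟩
  exact B.smul_V1_le hm hv

theorem cent_rest [Finite H] [Finite U] {m : H} (hm : m ∈ M) {k : H} (hk : k ∈ Y) {v : U} (hv : v ∈ B.rest m) :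
    (m * k * m⁻¹) • v = v := by
  induction hv using AddSubgroup.closure_induction with
  | mem v hv =>
    obtain ⟨m', hm', hne, hv⟩ := hv
    exact B.cent hm hm' hne hk hv
  | zero => exact smul_zero _
  | add a b _ _ ha hb => rw [smul_add, ha, hb]
  | neg a _ ha => rw [smul_neg, ha]

/-- **The sum of the blocks is direct.** -/
theorem indep [Finite H] [Finite U] {m : H} (hm : m ∈ M) : m • V1 B.dat ⊓ B.rest m = ⊥ := by
  rw [eq_bot_iff]
  rintro v ⟨hv1, hv2⟩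
  obtain ⟨w, hw, rfl⟩ := B.mem_smul.1 hv1
  have h1 : w = 0 := V1_fix B.dat hw fun k hk => by
    have h2 := B.cent_rest hm hk hv2
    rw [smul_smul, inv_mul_cancel_right, mul_smul] at h2
    exact smul_left_cancel m h2
  rw [h1, smul_zero]
  exact zero_mem _

theorem mem_all {v : U} (hv : v ∈ B.all) (m : H) : ∃ a ∈ m • V1 B.dat, ∃ b ∈ B.rest m, v = a + b := by
  classical
  induction hv using AddSubgroup.closure_induction with
  | mem v hv =>
    obtain ⟨m', hm', hv⟩ := hv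
    by_cases hne : m • V1 B.dat = m' • V1 B.dat
    · exact ⟨v, hne ▸ hv, 0, zero_mem _, (add_zero v).symm⟩
    · exact ⟨0, zero_mem _, v, B.le_rest hm' hne hv, (zero_add v).symm⟩
  | zero => exact ⟨0, zero_mem _, 0, zero_mem _, (add_zero 0).symm⟩
  | add a b _ _ ha hb =>
    obtain ⟨a1, ha1, a2, ha2, rfl⟩ := ha
    obtain ⟨b1, hb1, b2, hb2, rfl⟩ := hb
    exact ⟨_, add_mem ha1 hb1, _, add_mem ha2 hb2, by abel⟩
  | neg a _ ha =>
    obtain ⟨a1, ha1, a2, ha2, rfl⟩ := ha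
    exact ⟨_, neg_mem ha1, _, neg_mem ha2, by abel⟩

/-- `M` permutes the blocks. -/
theorem all_M {m : H} (hm : m ∈ M) {v : U} (hv : v ∈ B.all) : m • v ∈ B.all := by
  induction hv using AddSubgroup.closure_induction with
  | mem v hv =>
    obtain ⟨m', hm', hv⟩ := hv
    refine B.le_all (mul_mem hm hm') ?_
    rw [mul_smul]
    exact AddSubgroup.smul_mem_pointwise_smul _ _ _ hv
  | zero => rw [smul_zero]; exact zero_mem _
  | add a b _ _ ha hb => rw [smul_add]; exact add_mem ha hb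
  | neg a _ ha => rw [smul_neg]; exact neg_mem ha

/-- the normal closure of `Y` in `M` -/
def YM (_B : Blk0 Y Q BB V F L C h M KV S) : Subgroup H := closure {x | ∃ m ∈ M, ∃ k ∈ Y, x = m * k * m⁻¹}

theorem YM_le : B.YM ≤ KV := by
  refine (closure_le _).2 ?_
  rintro _ ⟨m, hm, k, hk, rfl⟩
  exact B.nK m hm k (B.YK hk)

theorem YM_conj {m x : H} (hm : m ∈ M) (hx : x ∈ B.YM) : m * x * m⁻¹ ∈ B.YM := by
  induction hx using closure_induction with
  | mem x hx =>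
    obtain ⟨g, hg, k, hk, rfl⟩ := hx
    exact subset_closure ⟨m * g, mul_mem hm hg, k, hk, by group⟩
  | one => rw [mul_one, mul_inv_cancel]; exact one_mem _
  | mul x y _ _ hx hy =>
    have e : m * (x * y) * m⁻¹ = m * x * m⁻¹ * (m * y * m⁻¹) := by group
    rw [e]; exact mul_mem hx hy
  | inv x _ hx =>
    have e : m * x⁻¹ * m⁻¹ = (m * x * m⁻¹)⁻¹ := by group
    rw [e]; exact inv_mem hx

theorem conj_mem_YM {m k : H} (hm : m ∈ M) (hk : k ∈ Y) : m * k * m⁻¹ ∈ B.YM :=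
  subset_closure ⟨m, hm, k, hk, rfl⟩

/-- `[V, Y^M] ≤ Σ m V₁` -/
theorem br_YM [Finite H] [Finite U] {x : H} (hx : x ∈ B.YM) {v : U} (hv : v ∈ V) : br x v ∈ B.all := by
  induction hx using closure_induction generalizing v with
  | mem x hx =>
    obtain ⟨m, hm, k, hk, rfl⟩ := hx
    have e : v = m • (m⁻¹ • v) := (smul_inv_smul m v).symm
    rw [e, br_conj_smul]
    refine B.le_all hm (AddSubgroup.smul_mem_pointwise_smul _ _ _ ?_)
    exact br_Y_V1 B.dat hk (B.mV _ (inv_mem hm) v hv)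
  | one => rw [br_one]; exact zero_mem _
  | mul a b ha _ iha ihb =>
    have e : br (a * b) v = a • br b v + br a v := by
      simp only [br_def, mul_smul, smul_sub]; abel
    rw [e]
    exact add_mem (B.all_M (B.KM (B.YM_le ha)) (ihb hv)) (iha hv)
  | inv a ha iha =>
    have e : br a⁻¹ v = - br a (a⁻¹ • v) := by
      rw [br_def, br_def, smul_inv_smul]; abel
    rw [e]
    exact neg_mem (iha (B.mV _ (inv_mem (B.KM (B.YM_le ha))) v hv))

/-- `KV` normalises every block. -/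
theorem smul_eq_K [Finite H] [Finite U] {m k : H} (hm : m ∈ M) (hk : k ∈ KV) :
    k • m • V1 B.dat = m • V1 B.dat := by
  refine AddSubgroup.eq_of_le_of_card_ge (fun v hv => ?_) (le_of_eq ?_)
  · obtain ⟨w, hw, rfl⟩ := (AddSubgroup.mem_smul_pointwise_iff_exists _ _ _).1 hv
    exact B.smul_V1_K hm hk hw
  · exact (card_smul k _).symm


end Blk0

end Cfsg.Agent.Omega.NO3b.Exit.BlkZ

end

section


/-!
# Descent (helper255, bb 20076), part 4: (ANN) from the blocks of `V` (`TBlk.Blk`)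

For `B : Blk Y Q BB V F L C h M KV S O`:

* `allTv` : `Y` induces all transvections on `AM`; `V1_le_img`;
* `inf_rest` : an element of `V` without component in every block is zero;
* `comp_ne` : an element `≠ 0` of `C_V(S)` has a component `≠ 0` in every block;
* `odd_T` : `{y ∈ Y | m y m⁻¹ ∈ S}` has odd index in `Y`;
* **`ann`** : `z ≠ 0`, `z'` in `C_V(S)`: every element of the ring generated by `KV` (so by `O`) which kills `z` kills `z'`.
-/

set_option autoImplicit false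

open scoped Pointwise

namespace Cfsg.Agent.Omega.NO3b.Exit.DescAnn

open Subgroup Cfsg.Agent.Omega.NO3b.Exit Ten TBlk Descent

universe u v

section dat

variable {H : Type u} {U : Type v} [Group H] [AddCommGroup U] [DistribMulAction H U]
variable {Y Q BB : Subgroup H} {V F L C : AddSubgroup U} {h : H} (D : Dat Y Q BB V F L C h)

end dat

variable {H : Type u} {U : Type v} [Group H] [Finite H] [AddCommGroup U] [DistribMulAction H U] [Finite U]
variable {Y Q BB : Subgroup H} {V F L C : AddSubgroup U} {h : H} {M KV S O : Subgroup H}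
variable (B : Blk Y Q BB V F L C h M KV S O)
include B

omit [Finite U] [AddCommGroup U] [DistribMulAction H U] B in
/-- a subgroup of odd index meets a subnormal subgroup in a subgroup of odd index -/
theorem sn_odd {Y K T : Subgroup H} (h : Sn Y K) (hT : ¬ 2 ∣ T.relIndex K) : ¬ 2 ∣ T.relIndex Y := by
  induction h with
  | refl => exact hT
  | @step K K' _ h1 h2 ih =>
    refine ih ?_
    have hn : (K.subgroupOf K').Normal := ⟨fun n hn g => h2 g g.2 n hn⟩
    have h3 := not_dvd_relIndex (M := K') (S := T.subgroupOf K') (N := K.subgroupOf K') hT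
    rwa [relIndex_subgroupOf h1] at h3

end Cfsg.Agent.Omega.NO3b.Exit.DescAnn

end

end

private theorem dce_dfa6b2103550 : _root_.True := by
  try have : _root_.True := by simp only [_root_.Cfsg.Agent.Omega.NO3b.Exit.Ten.Dat.AA.congr_simp]
  try have : _root_.True := by simp only [_root_.Cfsg.Agent.Omega.NO3b.Exit.TBlk.V1.congr_simp]
  try have : _root_.True := by simp only [_root_.Cfsg.Agent.Omega.NO3b.Exit.Ten.Dat.AZ.congr_simp]
  exact _root_.True.intro
end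

-- part: Mrg/Omega/NOne/LemmaT
section
prune_inst 0x810000400040000000180500300000044400009000200400dd000244024693000000010144801901000a82000000000000cc0010000000000000000000000000802a420013400104240091803086000000000000000000000000000000041004000000002
set_option linter.all false
open scoped Cfsg.Agent.FastGrp

section


/-!
# NO-1, Lemma T (text #11359 (0))

`V` abelian, normal in `S`, `F ≤ V` normal in `S`, `C_G(F)` of characteristic 2.  If
`V ∩ O₂(C_G(F)) ≤ F`, then `V = F`.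
-/

set_option autoImplicit false

namespace Cfsg.Agent.Omega.NOne.LemmaT

open Subgroup Cfsg Cfsg.Agent.MinSimple.VModule Cfsg.Agent.MinSimple.Basic
open Cfsg.Agent.ZN (o2)

universe u

variable {G : Type u} [Group G]

/-- If `x` moves `q` by an element commuting with `x`, then `xⁿ` moves it by the power. -/
theorem pow_conj_eq {x q f : G} (hf : x * q * x⁻¹ = f * q) (hxf : x * f = f * x) (n : ℕ) :
    x ^ n * q * (x ^ n)⁻¹ = f ^ n * q := by
  induction n with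
  | zero => simp
  | succ n ih =>
    have hc : x * f ^ n = f ^ n * x := (show Commute x f from hxf).pow_right n
    calc x ^ (n + 1) * q * (x ^ (n + 1))⁻¹ = x * (x ^ n * q * (x ^ n)⁻¹) * x⁻¹ := by
          rw [pow_succ']; group
      _ = x * (f ^ n * q) * x⁻¹ := by rw [ih]
      _ = (x * f ^ n) * q * x⁻¹ := by group
      _ = f ^ n * (x * q * x⁻¹) := by rw [hc]; group
      _ = f ^ n * (f * q) := by rw [hf]
      _ = f ^ (n + 1) * q := by rw [pow_succ]; group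

theorem exists_pow_eq_one [Finite G] {F : Subgroup G} (hF : IsPGroup 2 F) :
    ∃ k : ℕ, ∀ f ∈ F, f ^ 2 ^ k = 1 := by
  obtain ⟨k, hk⟩ := IsPGroup.iff_card.1 hF
  refine ⟨k, fun f hf => ?_⟩
  have : (⟨f, hf⟩ : F) ^ Nat.card F = 1 := pow_card_eq_one'
  rw [hk] at this
  exact congrArg Subtype.val this

/-- If `x` centralises the `2`-group `F` and moves the elements of `Q` by elements of `F`, then a
`2`-power of `x` centralises `Q`. -/
theorem exists_pow_comm [Finite G] {F : Subgroup G} (hF : IsPGroup 2 F) {x : G}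
    (hxF : ∀ f ∈ F, x * f = f * x) {Q : Subgroup G} (hQ : ∀ q ∈ Q, x * q * x⁻¹ * q⁻¹ ∈ F) :
    ∃ k : ℕ, ∀ q ∈ Q, x ^ 2 ^ k * q = q * x ^ 2 ^ k := by
  obtain ⟨k, hk⟩ := exists_pow_eq_one hF
  refine ⟨k, fun q hq => ?_⟩
  have h1 := pow_conj_eq (x := x) (q := q) (f := x * q * x⁻¹ * q⁻¹) (by group) (hxF _ (hQ q hq)) (2 ^ k)
  rw [hk _ (hQ q hq), one_mul] at h1
  calc x ^ 2 ^ k * q = (x ^ 2 ^ k * q * (x ^ 2 ^ k)⁻¹) * x ^ 2 ^ k := by group
    _ = q * x ^ 2 ^ k := by rw [h1]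

/-- The elements of `C` moving the elements of `R` by elements of `F` (central in `C`). -/
def stab (C R F : Subgroup G) (hFC : C ≤ centralizer (F : Set G)) : Subgroup G where
  carrier := {x | x ∈ C ∧ ∀ r ∈ R, x * r * x⁻¹ * r⁻¹ ∈ F}
  one_mem' := ⟨one_mem _, fun r _ => by simp⟩
  mul_mem' := by
    rintro x y ⟨hx, hxr⟩ ⟨hy, hyr⟩
    refine ⟨mul_mem hx hy, fun r hr => ?_⟩
    have h1 : x * (y * r * y⁻¹ * r⁻¹) * x⁻¹ = y * r * y⁻¹ * r⁻¹ := by
      have := mem_centralizer_iff.1 (hFC hx) _ (hyr r hr)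
      rw [← this, mul_inv_cancel_right]
    have h2 : x * y * r * (x * y)⁻¹ * r⁻¹ =
        (x * (y * r * y⁻¹ * r⁻¹) * x⁻¹) * (x * r * x⁻¹ * r⁻¹) := by group
    rw [h2, h1]
    exact mul_mem (hyr r hr) (hxr r hr)
  inv_mem' := by
    rintro x ⟨hx, hxr⟩
    refine ⟨inv_mem hx, fun r hr => ?_⟩
    have h1 : x⁻¹ * (x * r * x⁻¹ * r⁻¹)⁻¹ * x = (x * r * x⁻¹ * r⁻¹)⁻¹ := by
      have := mem_centralizer_iff.1 (hFC (inv_mem hx)) _ (inv_mem (hxr r hr))
      rw [← this, inv_mul_cancel_right]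
    have h2 : x⁻¹ * r * x⁻¹⁻¹ * r⁻¹ = x⁻¹ * (x * r * x⁻¹ * r⁻¹)⁻¹ * x := by group
    rw [h2, h1]
    exact inv_mem (hxr r hr)

theorem mem_stab {C R F : Subgroup G} {hFC : C ≤ centralizer (F : Set G)} {x : G} :
    x ∈ stab C R F hFC ↔ x ∈ C ∧ ∀ r ∈ R, x * r * x⁻¹ * r⁻¹ ∈ F := Iff.rfl

/-- The stabiliser of the chain `O₂(C) ≥ F ≥ 1` in `C` (of characteristic 2) lies in `O₂(C)`. -/
theorem le_o2_of_stab [Finite G] {C F V : Subgroup G} (hC : C ⊓ centralizer (o2 C : Set G) ≤ o2 C)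
    (hF : IsPGroup 2 F) (hFC : C ≤ centralizer (F : Set G)) (hVC : V ≤ C)
    (hV : ∀ v ∈ V, ∀ r ∈ o2 C, v * r * v⁻¹ * r⁻¹ ∈ F) : V ≤ o2 C := by
  have h1 : V ≤ stab C (o2 C) F hFC := fun v hv => ⟨hVC hv, hV v hv⟩
  refine h1.trans (le_o2 (fun x hx => hx.1) ?_ ?_)
  · rintro ⟨x, hx, hxr⟩
    have hxF : ∀ f ∈ F, x * f = f * x := fun f hf => (mem_centralizer_iff.1 (hFC hx) f hf).symm
    obtain ⟨k, hk⟩ := exists_pow_comm hF hxF hxr
    have h2 : x ^ 2 ^ k ∈ o2 C := hC ⟨pow_mem hx _, mem_centralizer_iff.2 fun r hr => (hk r hr).symm⟩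
    obtain ⟨l, hl⟩ := exists_pow_eq_one (o2_isPGroup C)
    refine ⟨k + l, Subtype.ext ?_⟩
    change x ^ 2 ^ (k + l) = 1
    rw [pow_add, pow_mul]
    exact hl _ h2
  · intro c hc
    have hcn := le_normalizer_o2 C hc
    have key : ∀ c ∈ C, ∀ x ∈ stab C (o2 C) F hFC, c * x * c⁻¹ ∈ stab C (o2 C) F hFC := by
      rintro c hc x ⟨hx, hxr⟩
      refine ⟨mul_mem (mul_mem hc hx) (inv_mem hc), fun r hr => ?_⟩
      have hr' : c⁻¹ * r * c ∈ o2 C := by
        have := (mem_normalizer_iff.1 (inv_mem (le_normalizer_o2 C hc)) r).1 hr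
        rwa [inv_inv] at this
      have h3 := hxr _ hr'
      have h4 : c * (x * (c⁻¹ * r * c) * x⁻¹ * (c⁻¹ * r * c)⁻¹) * c⁻¹ =
          x * (c⁻¹ * r * c) * x⁻¹ * (c⁻¹ * r * c)⁻¹ := by
        have := mem_centralizer_iff.1 (hFC hc) _ h3
        rw [← this, mul_inv_cancel_right]
      have h5 : c * x * c⁻¹ * r * (c * x * c⁻¹)⁻¹ * r⁻¹ =
          c * (x * (c⁻¹ * r * c) * x⁻¹ * (c⁻¹ * r * c)⁻¹) * c⁻¹ := by group
      rw [h5, h4]
      exact h3
    rw [mem_normalizer_iff]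
    intro x
    refine ⟨key c hc x, fun hx => ?_⟩
    have h6 := key c⁻¹ (inv_mem hc) _ hx
    have e : c⁻¹ * (c * x * c⁻¹) * c⁻¹⁻¹ = x := by group
    rwa [e] at h6

/-- A normal subgroup of a group of characteristic 2 has characteristic 2 (inside `G`). -/
theorem char2_of_normal [Finite G] {N X : Subgroup G}
    (hN : N ⊓ centralizer (o2 N : Set G) ≤ o2 N) (hXN : X ≤ N)
    (hn : N ≤ normalizer (X : Set G)) : X ⊓ centralizer (o2 X : Set G) ≤ o2 X := by
  set K := X ⊓ centralizer (o2 X : Set G) with hK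
  have hNo : N ≤ normalizer (o2 X : Set G) := hn.trans (Cfsg.Agent.ZN.normalizer_le_normalizer_o2 X)
  have hKn : ∀ n ∈ N, ∀ x ∈ K, n * x * n⁻¹ ∈ K := by
    rintro n hnN x ⟨hx, hxc⟩
    refine ⟨(mem_normalizer_iff.1 (hn hnN) x).1 hx, ?_⟩
    replace hxc := mem_centralizer_iff.1 hxc
    refine mem_centralizer_iff.2 fun r hr => ?_
    have hr' : n⁻¹ * r * n ∈ o2 X := by
      have := (mem_normalizer_iff.1 (inv_mem (hNo hnN)) r).1 hr
      rwa [inv_inv] at this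
    have h3 := hxc _ hr'
    calc r * (n * x * n⁻¹) = n * ((n⁻¹ * r * n) * x) * n⁻¹ := by group
      _ = n * (x * (n⁻¹ * r * n)) * n⁻¹ := by rw [h3]
      _ = n * x * n⁻¹ * r := by group
  have hKN : N ≤ normalizer (K : Set G) := by
    intro n hnN
    rw [mem_normalizer_iff]
    intro x
    refine ⟨hKn n hnN x, fun hx => ?_⟩
    have h6 := hKn n⁻¹ (inv_mem hnN) _ hx
    have e : n⁻¹ * (n * x * n⁻¹) * n⁻¹⁻¹ = x := by group
    rwa [e] at h6
  -- `K ∩ O₂(N) ≤ O₂(X)`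
  have h1 : K ⊓ o2 N ≤ o2 X := by
    refine le_o2 (inf_le_left.trans inf_le_left) ((o2_isPGroup N).to_le inf_le_right) ?_
    intro x hx
    rw [mem_normalizer_iff]
    have key : ∀ x ∈ X, ∀ y ∈ K ⊓ o2 N, x * y * x⁻¹ ∈ K ⊓ o2 N := fun x hx y hy =>
      ⟨hKn x (hXN hx) y hy.1, (mem_normalizer_iff.1 (le_normalizer_o2 N (hXN hx)) y).1 hy.2⟩
    intro y
    refine ⟨key x hx y, fun hy => ?_⟩
    have h6 := key x⁻¹ (inv_mem hx) _ hy
    have e : x⁻¹ * (x * y * x⁻¹) * x⁻¹⁻¹ = y := by group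
    rwa [e] at h6
  refine le_o2 inf_le_left ?_ (hXN.trans hKN)
  rintro ⟨x, hx⟩
  have h2 : ∀ r ∈ o2 N, x * r * x⁻¹ * r⁻¹ ∈ K ⊓ o2 N := by
    intro r hr
    refine mem_inf.2 ⟨?_, mul_mem ((mem_normalizer_iff.1 (le_normalizer_o2 N (hXN hx.1)) r).1 hr)
      (inv_mem hr)⟩
    have h3 := hKn r (o2_le N hr) x⁻¹ (inv_mem hx)
    have e : x * r * x⁻¹ * r⁻¹ = x * (r * x⁻¹ * r⁻¹) := by group
    rw [e]
    exact mul_mem hx h3
  obtain ⟨k, hk⟩ := exists_pow_comm ((o2_isPGroup N).to_le inf_le_right : IsPGroup 2 ↥(K ⊓ o2 N))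
    (fun f hf => (mem_centralizer_iff.1 hx.2 f (h1 hf)).symm) h2
  have h4 : x ^ 2 ^ k ∈ o2 N := hN ⟨pow_mem (hXN hx.1) _,
    mem_centralizer_iff.2 fun r hr => (hk r hr).symm⟩
  obtain ⟨l, hl⟩ := exists_pow_eq_one (o2_isPGroup N)
  refine ⟨k + l, Subtype.ext ?_⟩
  change x ^ 2 ^ (k + l) = 1
  rw [pow_add, pow_mul]
  exact hl _ h4

theorem normalizer_le_normalizer_centralizer (F : Subgroup G) :
    normalizer (F : Set G) ≤ normalizer (centralizer (F : Set G) : Set G) := by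
  have key : ∀ n ∈ normalizer (F : Set G), ∀ x ∈ centralizer (F : Set G),
      n * x * n⁻¹ ∈ centralizer (F : Set G) := by
    intro n hn x hx
    rw [mem_centralizer_iff] at hx ⊢
    intro f hf
    have hf' : n⁻¹ * f * n ∈ F := by
      have := (mem_normalizer_iff.1 (inv_mem hn) f).1 hf
      rwa [inv_inv] at this
    have h3 := hx _ hf'
    calc f * (n * x * n⁻¹) = n * ((n⁻¹ * f * n) * x) * n⁻¹ := by group
      _ = n * (x * (n⁻¹ * f * n)) * n⁻¹ := by rw [h3]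
      _ = n * x * n⁻¹ * f := by group
  intro n hn
  rw [mem_normalizer_iff]
  intro x
  refine ⟨key n hn x, fun hx => ?_⟩
  have h6 := key n⁻¹ (inv_mem hn) _ hx
  have e : n⁻¹ * (n * x * n⁻¹) * n⁻¹⁻¹ = x := by group
  rwa [e] at h6

theorem centralizer_le_normalizer' (F : Subgroup G) :
    centralizer (F : Set G) ≤ normalizer (F : Set G) := by
  intro x hx
  rw [mem_normalizer_iff]
  rw [mem_centralizer_iff] at hx
  intro f
  constructor
  · intro hf
    rw [← hx f hf, mul_inv_cancel_right]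
    exact hf
  · intro hf
    have h1 := hx _ hf
    have h2 : x * f * x⁻¹ = f := by
      have h3 : x * f * x⁻¹ * x = x * (x * f * x⁻¹) := h1
      have h4 : x * f = x * (x * f * x⁻¹) := by rw [← h3]; group
      exact (mul_left_cancel h4).symm
    rwa [h2] at hf

/-- `C_G(F)` has characteristic 2 in a group of characteristic 2 type. -/
theorem char2_centralizer [Finite G] (hG : IsCharacteristicTwoType G) {F : Subgroup G}
    (hF : IsPGroup 2 F) (hF1 : F ≠ ⊥) :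
    centralizer (F : Set G) ⊓ centralizer (o2 (centralizer (F : Set G)) : Set G) ≤
      o2 (centralizer (F : Set G)) :=
  char2_of_normal (char2_normalizer hG hF hF1) (centralizer_le_normalizer' F)
    (normalizer_le_normalizer_centralizer F)

/-- `O₂(C_G(F)) ≤ S` for `F` normal in the Sylow 2-subgroup `S`. -/
theorem o2_centralizer_le (S : Sylow 2 G) {F : Subgroup G}
    (hSF : (S : Subgroup G) ≤ normalizer (F : Set G)) :
    o2 (centralizer (F : Set G)) ≤ (S : Subgroup G) := by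
  have h0 : (S : Subgroup G) ≤ normalizer (o2 (centralizer (F : Set G)) : Set G) :=
    (hSF.trans (normalizer_le_normalizer_centralizer F)).trans
      (Cfsg.Agent.ZN.normalizer_le_normalizer_o2 _)
  have h1 : IsPGroup 2 ((S : Subgroup G) ⊔ o2 (centralizer (F : Set G)) : Subgroup G) :=
    IsPGroup.to_sup_of_normal_right' S.isPGroup' (o2_isPGroup _) h0
  have h2 := S.is_maximal' h1 le_sup_left
  exact le_sup_right.trans h2.le

/-- **Lemma T.** -/
theorem lemmaT [Finite G] (S : Sylow 2 G) {F V : Subgroup G}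
    (hc : centralizer (F : Set G) ⊓ centralizer (o2 (centralizer (F : Set G)) : Set G) ≤
      o2 (centralizer (F : Set G)))
    (hFV : F ≤ V) (hVS : V ≤ (S : Subgroup G)) (hSV : (S : Subgroup G) ≤ normalizer (V : Set G))
    (hSF : (S : Subgroup G) ≤ normalizer (F : Set G)) (hVV : V ≤ centralizer (V : Set G))
    (h : V ⊓ o2 (centralizer (F : Set G)) ≤ F) : V ≤ F := by
  have hF : IsPGroup 2 F := S.isPGroup'.to_le (hFV.trans hVS)
  have hVC : V ≤ centralizer (F : Set G) := hVV.trans (centralizer_le hFV)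
  have hFC : centralizer (F : Set G) ≤ centralizer (F : Set G) := le_rfl
  have h1 : V ≤ o2 (centralizer (F : Set G)) := by
    refine le_o2_of_stab hc hF hFC hVC fun v hv r hr => h (mem_inf.2 ⟨?_, ?_⟩)
    · have h2 := (mem_normalizer_iff.1 (hSV (o2_centralizer_le S hSF hr)) v⁻¹).1 (inv_mem hv)
      have e : v * r * v⁻¹ * r⁻¹ = v * (r * v⁻¹ * r⁻¹) := by group
      rw [e]
      exact mul_mem hv h2
    · have h2 := (mem_normalizer_iff.1 (le_normalizer_o2 _ (hVC hv)) r).1 hr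
      exact mul_mem h2 (inv_mem hr)
  exact (le_inf le_rfl h1).trans h

/-- **Lemma T** in a group of characteristic 2 type: `V ≤ O₂(C_G(F))` or
`F < V ∩ O₂(C_G(F)) < V`. -/
theorem lemmaT' [Finite G] (hG : IsCharacteristicTwoType G) (S : Sylow 2 G) {F V : Subgroup G}
    (hF1 : F ≠ ⊥) (hFV : F ≤ V) (hVS : V ≤ (S : Subgroup G))
    (hSV : (S : Subgroup G) ≤ normalizer (V : Set G))
    (hSF : (S : Subgroup G) ≤ normalizer (F : Set G)) (hVV : V ≤ centralizer (V : Set G)) :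
    V ≤ o2 (centralizer (F : Set G)) ∨
      (F < V ⊓ o2 (centralizer (F : Set G)) ∧ V ⊓ o2 (centralizer (F : Set G)) < V) := by
  have hF : IsPGroup 2 F := S.isPGroup'.to_le (hFV.trans hVS)
  have hc := char2_centralizer hG hF hF1
  by_cases hV : V ≤ o2 (centralizer (F : Set G))
  · exact Or.inl hV
  · refine Or.inr ⟨lt_of_le_of_ne (le_inf hFV (le_o2 ?_ hF ?_)) ?_,
      lt_of_le_of_ne inf_le_left fun h => hV (h ▸ inf_le_right)⟩
    · exact hFV.trans (hVV.trans (centralizer_le hFV))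
    · exact centralizer_le_normalizer' F
    · intro h
      have h2 := lemmaT S hc hFV hVS hSV hSF hVV h.ge
      exact hV (h2.trans (h.le.trans inf_le_right))

/-- `V ∩ O₂(C_G(F))` is invariant under everything normalising `V` and `F`. -/
theorem le_normalizer_inf (F V : Subgroup G) :
    normalizer (V : Set G) ⊓ normalizer (F : Set G) ≤
      normalizer ((V ⊓ o2 (centralizer (F : Set G)) : Subgroup G) : Set G) := by
  intro x hx
  obtain ⟨h1, h2⟩ := mem_inf.1 hx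
  have h3 := Cfsg.Agent.ZN.normalizer_le_normalizer_o2 _ (normalizer_le_normalizer_centralizer F h2)
  rw [mem_normalizer_iff] at h1 h3 ⊢
  intro y
  exact and_congr (h1 y) (h3 y)

end Cfsg.Agent.Omega.NOne.LemmaT

end

section


/-!
# NO-1, the frame for a pair `V`, `V^g` (text #11359 (1))

`V` abelian, `Q` and `V` normalise each other, `g` normalises `Q` and lies in `X = ⟨V, V^g⟩`.
`E = V ∩ Q`, `E^g`, `W = E E^g`, `D = E ∩ E^g`.
-/

set_option autoImplicit false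

namespace Cfsg.Agent.Omega.NOne.Frame

open Subgroup Cfsg.Agent.Omega.NoFF.Basic
open scoped Pointwise

universe u

variable {G : Type u} [Group G]

/-- The situation of text #11359 (1); `g` acts by `x ↦ g x g⁻¹`. -/
structure Fr (V Q : Subgroup G) (g : G) : Prop where
  comm : V ≤ centralizer (V : Set G)
  QV : Q ≤ normalizer (V : Set G)
  VQ : V ≤ normalizer (Q : Set G)
  gQ : MulAut.conj g • Q = Q
  gX : g ∈ V ⊔ MulAut.conj g • V

/-- `E = V ∩ Q` -/
abbrev E (V Q : Subgroup G) : Subgroup G := V ⊓ Q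

/-- `E^g` -/
abbrev E' (V Q : Subgroup G) (g : G) : Subgroup G := MulAut.conj g • (V ⊓ Q)

/-- `V^g` -/
abbrev V' (V : Subgroup G) (g : G) : Subgroup G := MulAut.conj g • V

/-- `X = ⟨V, V^g⟩` -/
abbrev X (V : Subgroup G) (g : G) : Subgroup G := V ⊔ MulAut.conj g • V

/-- `D = E ∩ E^g` -/
abbrev D (V Q : Subgroup G) (g : G) : Subgroup G := E V Q ⊓ E' V Q g

/-- `W = ⟨E, E^g⟩` -/
abbrev W (V Q : Subgroup G) (g : G) : Subgroup G := E V Q ⊔ E' V Q g

section General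

theorem mem_conj' {g x : G} {H : Subgroup G} : x ∈ MulAut.conj g • H ↔ ∃ h ∈ H, x = g * h * g⁻¹ := by
  rw [mem_conj]
  constructor
  · intro h
    exact ⟨_, h, by group⟩
  · rintro ⟨h, hh, rfl⟩
    have e : g⁻¹ * (g * h * g⁻¹) * g = h := by group
    rwa [e]

theorem conj_mem {g x : G} {H : Subgroup G} (h : x ∈ H) : g * x * g⁻¹ ∈ MulAut.conj g • H :=
  mem_conj'.2 ⟨x, h, rfl⟩

theorem comm_of_le_centralizer {A B : Subgroup G} (h : A ≤ centralizer (B : Set G)) {a b : G}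
    (ha : a ∈ A) (hb : b ∈ B) : a * b = b * a := (mem_centralizer_iff.1 (h ha) b hb).symm

theorem le_centralizer_of_comm {A B : Subgroup G} (h : ∀ a ∈ A, ∀ b ∈ B, a * b = b * a) :
    A ≤ centralizer (B : Set G) := fun a ha => mem_centralizer_iff.2 fun b hb => (h a ha b hb).symm

theorem norm_mem {A : Subgroup G} {x a : G} (hx : x ∈ normalizer (A : Set G)) (ha : a ∈ A) :
    x * a * x⁻¹ ∈ A := (mem_normalizer_iff.1 hx a).1 ha

theorem norm_mem' {A : Subgroup G} {x a : G} (hx : x ∈ normalizer (A : Set G)) (ha : a ∈ A) :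
    x⁻¹ * a * x ∈ A := by
  have := (mem_normalizer_iff.1 (inv_mem hx) a).1 ha
  rwa [inv_inv] at this

/-- `[A, B] ≤ A ∩ B` for subgroups normalising each other. -/
theorem comm_mem_inf {A B : Subgroup G} (hAB : A ≤ normalizer (B : Set G))
    (hBA : B ≤ normalizer (A : Set G)) {a b : G} (ha : a ∈ A) (hb : b ∈ B) :
    a * b * a⁻¹ * b⁻¹ ∈ A ⊓ B := by
  refine mem_inf.2 ⟨?_, mul_mem (norm_mem (hAB ha) hb) (inv_mem hb)⟩
  have e : a * b * a⁻¹ * b⁻¹ = a * (b * a⁻¹ * b⁻¹) := by group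
  rw [e]
  exact mul_mem ha (norm_mem (hBA hb) (inv_mem ha))

/-- If `A` moves the elements of `B` by elements of `B`, then `A` normalises `B`. -/
theorem le_normalizer_of_comm {A B : Subgroup G} (h : ∀ a ∈ A, ∀ b ∈ B, a * b * a⁻¹ * b⁻¹ ∈ B) :
    A ≤ normalizer (B : Set G) := by
  have key : ∀ a ∈ A, ∀ b ∈ B, a * b * a⁻¹ ∈ B := fun a ha b hb => by
    have := mul_mem (h a ha b hb) hb
    rwa [inv_mul_cancel_right] at this
  intro a ha
  rw [mem_normalizer_iff]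
  intro b
  refine ⟨key a ha b, fun hb => ?_⟩
  have h6 := key a⁻¹ (inv_mem ha) _ hb
  have e : a⁻¹ * (a * b * a⁻¹) * a⁻¹⁻¹ = b := by group
  rwa [e] at h6

/-- The elements of `X` moving the elements of `W` by elements of `W₀` (`W₀` normalised by `X`). -/
def stab (X W W₀ : Subgroup G) (hX : X ≤ normalizer (W₀ : Set G)) : Subgroup G where
  carrier := {x | x ∈ X ∧ ∀ w ∈ W, x * w * x⁻¹ * w⁻¹ ∈ W₀}
  one_mem' := ⟨one_mem _, fun r _ => by simp⟩
  mul_mem' := by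
    rintro x y ⟨hx, hxr⟩ ⟨hy, hyr⟩
    refine ⟨mul_mem hx hy, fun r hr => ?_⟩
    have h2 : x * y * r * (x * y)⁻¹ * r⁻¹ =
        (x * (y * r * y⁻¹ * r⁻¹) * x⁻¹) * (x * r * x⁻¹ * r⁻¹) := by group
    rw [h2]
    exact mul_mem (norm_mem (hX hx) (hyr r hr)) (hxr r hr)
  inv_mem' := by
    rintro x ⟨hx, hxr⟩
    refine ⟨inv_mem hx, fun r hr => ?_⟩
    have h2 : x⁻¹ * r * x⁻¹⁻¹ * r⁻¹ = x⁻¹ * (x * r * x⁻¹ * r⁻¹)⁻¹ * x := by group
    rw [h2]
    exact norm_mem' (hX hx) (inv_mem (hxr r hr))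

end General

namespace Fr

variable {V Q : Subgroup G} {g : G} (h : Fr V Q g)
include h

theorem E'_eq : E' V Q g = MulAut.conj g • V ⊓ Q := by
  rw [E', Subgroup.smul_inf, h.gQ]

theorem g_mem_norm : g ∈ normalizer (Q : Set G) := by
  rw [mem_normalizer_iff]
  intro x
  constructor
  · intro hx
    have := conj_mem (g := g) hx
    rwa [h.gQ] at this
  · intro hx
    rw [← h.gQ, mem_conj] at hx
    have e : g⁻¹ * (g * x * g⁻¹) * g = x := by group
    rwa [e] at hx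

theorem QV' : Q ≤ normalizer ((V' V g : Subgroup G) : Set G) := by
  intro q hq
  have hq' : g⁻¹ * q * g ∈ Q := norm_mem' h.g_mem_norm hq
  have h1 := h.QV hq'
  rw [mem_normalizer_iff] at h1 ⊢
  intro x
  rw [mem_conj, mem_conj, h1]
  have e : g⁻¹ * q * g * (g⁻¹ * x * g) * (g⁻¹ * q * g)⁻¹ = g⁻¹ * (q * x * q⁻¹) * g := by group
  rw [e]

theorem V'Q : V' V g ≤ normalizer (Q : Set G) := by
  intro x hx
  obtain ⟨v, hv, rfl⟩ := mem_conj'.1 hx
  exact mul_mem (mul_mem h.g_mem_norm (h.VQ hv)) (inv_mem h.g_mem_norm)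

theorem comm' : V' V g ≤ centralizer ((V' V g : Subgroup G) : Set G) := conj_le_centralizer h.comm

/-- `[V, Q] ≤ E` -/
theorem comm_VQ {v q : G} (hv : v ∈ V) (hq : q ∈ Q) : v * q * v⁻¹ * q⁻¹ ∈ E V Q :=
  comm_mem_inf h.VQ h.QV hv hq

/-- `[V^g, Q] ≤ E^g` -/
theorem comm_V'Q {v q : G} (hv : v ∈ V' V g) (hq : q ∈ Q) : v * q * v⁻¹ * q⁻¹ ∈ E' V Q g := by
  rw [h.E'_eq]
  exact comm_mem_inf h.V'Q h.QV' hv hq

omit h in
theorem E_le_V : E V Q ≤ V := inf_le_left

omit h in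
theorem E_le_Q : E V Q ≤ Q := inf_le_right

omit h in
theorem E'_le_V' : E' V Q g ≤ V' V g := conj_le_iff.2 inf_le_left

theorem E'_le_Q : E' V Q g ≤ Q := by rw [h.E'_eq]; exact inf_le_right

theorem W_le_Q : W V Q g ≤ Q := sup_le E_le_Q h.E'_le_Q

/-- `D` is centralised by `X`. -/
theorem D_cent {d x : G} (hd : d ∈ D V Q g) (hx : x ∈ X V g) : x * d = d * x := by
  have h1 : X V g ≤ centralizer ((D V Q g : Subgroup G) : Set G) := by
    refine sup_le (h.comm.trans (centralizer_le ?_)) (h.comm'.trans (centralizer_le ?_))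
    · exact fun d hd => hd.1.1
    · exact fun d hd => E'_le_V' hd.2
  exact comm_of_le_centralizer h1 hx hd

/-- `C_{E^g}(V) ≤ D` -/
theorem mem_D_of_E' {x : G} (hx : x ∈ E' V Q g) (hxV : ∀ v ∈ V, x * v = v * x) : x ∈ D V Q g := by
  refine mem_inf.2 ⟨?_, hx⟩
  have h1 : X V g ≤ centralizer {x} := by
    refine sup_le (fun v hv => ?_) (fun v hv => ?_)
    · rw [mem_centralizer_singleton_iff]
      exact (hxV v hv).symm
    · rw [mem_centralizer_singleton_iff]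
      exact comm_of_le_centralizer h.comm' hv (E'_le_V' hx)
  have h2 := h1 h.gX
  rw [mem_centralizer_singleton_iff] at h2
  have h3 := mem_conj.1 hx
  have e : g⁻¹ * x * g = x := by rw [mul_assoc, ← h2]; group
  rwa [e] at h3

/-- `C_E(V^g) ≤ D` -/
theorem mem_D_of_E {x : G} (hx : x ∈ E V Q) (hxV : ∀ v ∈ V' V g, x * v = v * x) :
    x ∈ D V Q g := by
  refine mem_inf.2 ⟨hx, ?_⟩
  have h1 : X V g ≤ centralizer {x} := by
    refine sup_le (fun v hv => ?_) (fun v hv => ?_)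
    · rw [mem_centralizer_singleton_iff]
      exact comm_of_le_centralizer h.comm hv hx.1
    · rw [mem_centralizer_singleton_iff]
      exact (hxV v hv).symm
  have h2 := h1 h.gX
  rw [mem_centralizer_singleton_iff] at h2
  refine mem_conj.2 ?_
  have e : g⁻¹ * x * g = x := by rw [mul_assoc, ← h2]; group
  rwa [e]

/-- `[E, E^g] ≤ D` -/
theorem comm_EE' {x y : G} (hx : x ∈ E V Q) (hy : y ∈ E' V Q g) : x * y * x⁻¹ * y⁻¹ ∈ D V Q g := by
  refine mem_inf.2 ⟨h.comm_VQ hx.1 (h.E'_le_Q hy), ?_⟩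
  have h1 := inv_mem (h.comm_V'Q (E'_le_V' hy) (E_le_Q hx))
  have e : (y * x * y⁻¹ * x⁻¹)⁻¹ = x * y * x⁻¹ * y⁻¹ := by group
  rwa [e] at h1

/-- `Q` normalises `E`. -/
theorem Q_le_norm_E : Q ≤ normalizer ((E V Q : Subgroup G) : Set G) := by
  intro q hq
  have h1 := h.QV hq
  have h2 : q ∈ normalizer (Q : Set G) := le_normalizer hq
  rw [mem_normalizer_iff] at h1 h2 ⊢
  exact fun x => and_congr (h1 x) (h2 x)

theorem Q_le_norm_E' : Q ≤ normalizer ((E' V Q g : Subgroup G) : Set G) := by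
  rw [h.E'_eq]
  intro q hq
  have h1 := h.QV' hq
  have h2 : q ∈ normalizer (Q : Set G) := le_normalizer hq
  rw [mem_normalizer_iff] at h1 h2 ⊢
  exact fun x => and_congr (h1 x) (h2 x)

theorem mem_W {w : G} : w ∈ W V Q g ↔ ∃ e ∈ E V Q, ∃ f ∈ E' V Q g, e * f = w := by
  constructor
  · intro hw
    have h1 : E' V Q g ≤ normalizer ((E V Q : Subgroup G) : Set G) := h.E'_le_Q.trans h.Q_le_norm_E
    have h2 := Subgroup.coe_mul_of_right_le_normalizer_left (E V Q) (E' V Q g) h1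
    have h3 : w ∈ ((E V Q ⊔ E' V Q g : Subgroup G) : Set G) := hw
    rw [h2] at h3
    obtain ⟨e, he, f, hf, rfl⟩ := h3
    exact ⟨e, he, f, hf, rfl⟩
  · rintro ⟨e, he, f, hf, rfl⟩
    exact mul_mem (mem_sup_left he) (mem_sup_right hf)

/-- `X` moves the elements of `Q` by elements of `W`. -/
theorem V_norm_W : V ≤ normalizer ((W V Q g : Subgroup G) : Set G) :=
  le_normalizer_of_comm fun _ hv _ hw => mem_sup_left (h.comm_VQ hv (h.W_le_Q hw))

theorem V'_norm_W : V' V g ≤ normalizer ((W V Q g : Subgroup G) : Set G) :=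
  le_normalizer_of_comm fun _ hv _ hw => mem_sup_right (h.comm_V'Q hv (h.W_le_Q hw))

/-- `W` is normal in `X`. -/
theorem X_norm_W : X V g ≤ normalizer ((W V Q g : Subgroup G) : Set G) := sup_le h.V_norm_W h.V'_norm_W

/-- `[Q, X] ≤ W` -/
theorem comm_XQ {x q : G} (hx : x ∈ X V g) (hq : q ∈ Q) : x * q * x⁻¹ * q⁻¹ ∈ W V Q g := by
  have h1 : X V g ≤ stab (X V g) Q (W V Q g) h.X_norm_W := by
    refine sup_le (fun v hv => ?_) (fun v hv => ?_)
    · exact ⟨mem_sup_left hv, fun q hq => mem_sup_left (h.comm_VQ hv hq)⟩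
    · exact ⟨mem_sup_right hv, fun q hq => mem_sup_right (h.comm_V'Q hv hq)⟩
  exact (h1 hx).2 q hq

/-- The kernel of `X` on `W / D` is a `2`-group, `Q` containing its centralizer in `C ≥ X`. -/
theorem exists_pow_eq_one [Finite G] {C : Subgroup G} (hQ2 : IsPGroup 2 Q)
    (hC : C ⊓ centralizer (Q : Set G) ≤ Q) (hXC : X V g ≤ C) {x : G} (hx : x ∈ X V g)
    (hxW : ∀ w ∈ W V Q g, x * w * x⁻¹ * w⁻¹ ∈ D V Q g) : ∃ k : ℕ, x ^ 2 ^ k = 1 := by
  have hW2 : IsPGroup 2 (W V Q g) := hQ2.to_le h.W_le_Q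
  have hD2 : IsPGroup 2 (D V Q g) := hQ2.to_le (inf_le_left.trans E_le_Q)
  obtain ⟨k, hk⟩ := LemmaT.exists_pow_comm hD2 (fun d hd => h.D_cent hd hx) hxW
  have hy : x ^ 2 ^ k ∈ X V g := pow_mem hx _
  obtain ⟨l, hl⟩ := LemmaT.exists_pow_comm hW2 hk (fun q hq => h.comm_XQ hy hq)
  have h1 : (x ^ 2 ^ k) ^ 2 ^ l ∈ Q := hC (mem_inf.2 ⟨hXC (pow_mem hy _),
    mem_centralizer_iff.2 fun q hq => (hl q hq).symm⟩)
  obtain ⟨m, hm⟩ := LemmaT.exists_pow_eq_one hQ2
  refine ⟨k + l + m, ?_⟩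
  rw [pow_add, pow_add, pow_mul, pow_mul]
  exact hm _ h1

/-- `[C_Q(V), E^g] ≤ D` -/
theorem comm_CQ {c y : G} (hc : c ∈ Q) (hcV : ∀ v ∈ V, c * v = v * c) (hy : y ∈ E' V Q g) :
    c * y * c⁻¹ * y⁻¹ ∈ D V Q g := by
  refine h.mem_D_of_E' (mul_mem (norm_mem (h.Q_le_norm_E' hc) hy) (inv_mem hy)) fun v hv => ?_
  have hyV : y ∈ normalizer (V : Set G) := h.QV (h.E'_le_Q hy)
  have h1 : ∀ v ∈ V, (y * c⁻¹ * y⁻¹) * v = v * (y * c⁻¹ * y⁻¹) := by
    intro v hv
    have h2 : y⁻¹ * v * y ∈ V := norm_mem' hyV hv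
    have h3 := hcV _ h2
    have h4 : c⁻¹ * (y⁻¹ * v * y) = (y⁻¹ * v * y) * c⁻¹ := by
      have e : c⁻¹ * (c * (y⁻¹ * v * y)) * c⁻¹ = c⁻¹ * (y⁻¹ * v * y * c) * c⁻¹ := by rw [h3]
      have e1 : c⁻¹ * (c * (y⁻¹ * v * y)) * c⁻¹ = (y⁻¹ * v * y) * c⁻¹ := by group
      have e2 : c⁻¹ * (y⁻¹ * v * y * c) * c⁻¹ = c⁻¹ * (y⁻¹ * v * y) := by group
      rw [e1, e2] at e
      exact e.symm
    calc (y * c⁻¹ * y⁻¹) * v = y * (c⁻¹ * (y⁻¹ * v * y)) * y⁻¹ := by group
      _ = y * ((y⁻¹ * v * y) * c⁻¹) * y⁻¹ := by rw [h4]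
      _ = v * (y * c⁻¹ * y⁻¹) := by group
  have e : c * y * c⁻¹ * y⁻¹ = c * (y * c⁻¹ * y⁻¹) := by group
  rw [e, mul_assoc, h1 v hv, ← mul_assoc, hcV v hv, mul_assoc]

/-- `V` centralises `E`. -/
theorem comm_VE {v e : G} (hv : v ∈ V) (he : e ∈ E V Q) : v * e = e * v :=
  comm_of_le_centralizer h.comm hv he.1

/-- `g` conjugates `D` trivially. -/
theorem g_cent_D {d : G} (hd : d ∈ D V Q g) : g * d = d * g := h.D_cent hd h.gX

omit h in
theorem card_E' : Nat.card (E' V Q g) = Nat.card (E V Q) :=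
  Nat.card_congr (Subgroup.equivSMul (MulAut.conj g) (V ⊓ Q)).symm.toEquiv

end Fr

end Cfsg.Agent.Omega.NOne.Frame

end

section


/-!
# NO-1, choice of the conjugate (text #11359 (1))

`V ≤ C` a 2-subgroup not in `O₂(C)`.  There is `g ∈ C` with `X = ⟨V, V^g⟩` not a 2-group, `g ∈ X`, and
`|X|` minimal among all non-2-groups `⟨V, V^y⟩`, `y ∈ C`.
-/

set_option autoImplicit false

namespace Cfsg.Agent.Omega.NOne.Choice

open Subgroup Cfsg Cfsg.Agent.Omega.NoFF.Basic Cfsg.Agent.Omega.NOne.Frame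
open Cfsg.Agent.MinSimple.VModule
open Cfsg.Agent.ZN (o2)
open scoped Pointwise

universe u

variable {G : Type u} [Group G]

theorem isPGroup_conj {p : ℕ} {H : Subgroup G} (h : IsPGroup p H) (g : G) :
    IsPGroup p (MulAut.conj g • H : Subgroup G) := by
  rintro ⟨x, hx⟩
  obtain ⟨y, hy, rfl⟩ := mem_conj'.1 hx
  obtain ⟨k, hk⟩ := h ⟨y, hy⟩
  refine ⟨k, Subtype.ext ?_⟩
  change (g * y * g⁻¹) ^ p ^ k = 1
  have hk' : y ^ p ^ k = 1 := congrArg Subtype.val hk
  rw [conj_pow, hk', mul_one, mul_inv_cancel]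

theorem conj_sup (g : G) (A B : Subgroup G) :
    MulAut.conj g • (A ⊔ B) = MulAut.conj g • A ⊔ MulAut.conj g • B := Subgroup.smul_sup _ _ _

theorem card_conj (g : G) (A : Subgroup G) :
    Nat.card (MulAut.conj g • A : Subgroup G) = Nat.card A :=
  Nat.card_congr (Subgroup.equivSMul (MulAut.conj g) A).symm.toEquiv

/-- Baer–Suzuki inside a subgroup `C` of `G`. -/
theorem le_o2_of_pairs [Finite G] {C V : Subgroup G} (hVC : V ≤ C)
    (h : ∀ g ∈ C, IsPGroup 2 ((V ⊔ MulAut.conj g • V : Subgroup G))) : V ≤ o2 C := by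
  have : Fact (Nat.Prime 2) := ⟨Nat.prime_two⟩
  have hf := C.subtype_injective
  have h1 : IsPGroup 2 (Subgroup.normalClosure ((V.subgroupOf C : Subgroup C) : Set C) :
      Subgroup C) := by
    refine Cfsg.Agent.Involutions.BaerSuzuki.baer_suzuki_subgroup _ fun g => ?_
    have hle : (V.subgroupOf C ⊔ (V.subgroupOf C).map (MulAut.conj g).toMonoidHom).map C.subtype ≤
        V ⊔ MulAut.conj (g : G) • V := by
      rw [Subgroup.map_sup]
      refine sup_le_sup ?_ ?_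
      · rintro _ ⟨x, hx, rfl⟩
        exact hx
      · rintro _ ⟨_, ⟨x, hx, rfl⟩, rfl⟩
        exact conj_mem (g := (g : G)) (H := V) hx
    exact ((h g g.2).to_le hle).of_equiv (Subgroup.equivMapOfInjective _ C.subtype hf).symm
  have h2 : V ≤ (Subgroup.normalClosure ((V.subgroupOf C : Subgroup C) : Set C)).map C.subtype := by
    intro v hv
    exact ⟨⟨v, hVC hv⟩, Subgroup.subset_normalClosure (mem_subgroupOf.2 hv), rfl⟩
  refine h2.trans (le_o2 (map_subtype_le _) (h1.map _)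
    (le_normalizer_map_of_normal Subgroup.normalClosure_normal))

theorem conj_mono {g : G} {A B : Subgroup G} (h : A ≤ B) : MulAut.conj g • A ≤ MulAut.conj g • B :=
  conj_le_iff.2 h

theorem conj_le_of_mem {g : G} {A C : Subgroup G} (h : A ≤ C) (hg : g ∈ C) :
    MulAut.conj g • A ≤ C := by
  intro x hx
  obtain ⟨a, ha, rfl⟩ := mem_conj'.1 hx
  exact mul_mem (mul_mem hg (h ha)) (inv_mem hg)

/-- **Choice of `g`.** -/
theorem exists_g [Finite G] {C V : Subgroup G} (hVC : V ≤ C)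
    (hVo : ¬ V ≤ o2 C) :
    ∃ g ∈ C, g ∈ X V g ∧ ¬ IsPGroup 2 (X V g) ∧
      ∀ y ∈ C, Nat.card (X V y) < Nat.card (X V g) → IsPGroup 2 (X V y) := by
  classical
  -- minimal order
  have hex : ∃ n : ℕ, ∃ g ∈ C, ¬ IsPGroup 2 (X V g) ∧ Nat.card (X V g) = n := by
    by_contra hc
    push Not at hc
    refine hVo (le_o2_of_pairs hVC fun g hg => ?_)
    by_contra h1
    exact hc _ g hg h1 rfl
  obtain ⟨g, hg, hg2, hgn⟩ := Nat.find_spec hex
  have hmin : ∀ y ∈ C, Nat.card (X V y) < Nat.find hex → IsPGroup 2 (X V y) := by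
    intro y hy hlt
    by_contra h1
    exact Nat.find_min hex hlt ⟨y, hy, h1, rfl⟩
  -- one of `g`, `g⁻¹`
  obtain ⟨k, hk, hk2, hkn, hko⟩ : ∃ k ∈ C, ¬ IsPGroup 2 (X V k) ∧
      Nat.card (X V k) = Nat.find hex ∧ ¬ V ≤ o2 (X V k) := by
    by_cases h1 : V ≤ o2 (X V g)
    · have h2 : ¬ MulAut.conj g • V ≤ o2 (X V g) := fun h2 =>
        hg2 ((o2_isPGroup (X V g)).to_le (sup_le h1 h2))
      have hX : MulAut.conj g⁻¹ • X V g = X V g⁻¹ := by
        rw [X, conj_sup, conj_conj, inv_mul_cancel, map_one, one_smul, sup_comm]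
      refine ⟨g⁻¹, inv_mem hg, fun h3 => hg2 ?_, ?_, fun h3 => h2 ?_⟩
      · rw [← hX] at h3
        have h4 := isPGroup_conj h3 g
        rwa [conj_conj, mul_inv_cancel, map_one, one_smul] at h4
      · rw [← hX, card_conj, hgn]
      · have h4 : MulAut.conj g • V ≤ MulAut.conj g • o2 (X V g⁻¹) := conj_mono h3
        refine h4.trans (le_o2 ?_ (isPGroup_conj (o2_isPGroup _) g) ?_)
        · refine (conj_mono (o2_le _)).trans ?_
          rw [← hX, conj_conj, mul_inv_cancel, map_one, one_smul]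
        · intro x hx
          have hx' : g⁻¹ * x * g ∈ X V g⁻¹ := by
            rw [← hX]
            rw [mem_conj]
            have e : g⁻¹⁻¹ * (g⁻¹ * x * g) * g⁻¹ = x := by group
            rwa [e]
          have h5 := le_normalizer_o2 _ hx'
          rw [mem_normalizer_iff] at h5 ⊢
          intro y
          rw [mem_conj, mem_conj, h5]
          have e : g⁻¹ * x * g * (g⁻¹ * y * g) * (g⁻¹ * x * g)⁻¹ = g⁻¹ * (x * y * x⁻¹) * g := by group
          rw [e]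
    · exact ⟨g, hg, hg2, hgn, h1⟩
  -- Baer–Suzuki in `X V k`
  have hXC : X V k ≤ C := sup_le hVC (conj_le_of_mem hVC hk)
  obtain ⟨y, hy, hy2⟩ : ∃ y ∈ X V k, ¬ IsPGroup 2 (X V y) := by
    by_contra hc
    push Not at hc
    exact hko (le_o2_of_pairs le_sup_left hc)
  have hle : X V y ≤ X V k := sup_le le_sup_left (conj_le_of_mem le_sup_left hy)
  have hcard : Nat.card (X V y) = Nat.find hex := by
    refine le_antisymm (hkn ▸ Subgroup.card_le_of_le hle) ?_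
    by_contra hlt
    exact hy2 (hmin y (hXC hy) (not_le.1 hlt))
  have heq : X V y = X V k := Subgroup.eq_of_le_of_card_ge hle (by rw [hcard, hkn])
  refine ⟨y, hXC hy, ?_, hy2, fun z hz hlt => hmin z hz (hcard ▸ hlt)⟩
  rw [heq]
  exact hy

end Cfsg.Agent.Omega.NOne.Choice

end

section


/-!
# NO-1, the frame without a bound on `|A|` (text #12527 (T)): the input of (BT)

`V` elementary abelian, `C` of characteristic 2, `Q = O₂(C)` normalises `V ≤ C`, `v ∈ V - Q` arbitrary.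
`exists_near`: there is `g ∈ C` such that for `E = V ∩ Q`, `F = E^g`, `D = E ∩ E^g`: `D ≠ E` and
`Near V E D F v`.
-/

set_option autoImplicit false

namespace Cfsg.Agent.Omega.NOne.NearFF

open Subgroup Cfsg Cfsg.Agent.Omega.NoFF.Basic Cfsg.Agent.Omega.NOne.Frame
open Cfsg.Agent.MinSimple.VModule
open Cfsg.Agent.ZN (o2)
open scoped Pointwise

universe u

variable {G : Type u} [Group G]

/-- The input of the near-FF theorem (BT).  Commutators are `[w, f] = w f w⁻¹ f⁻¹`. -/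
structure Near (V E D F : Subgroup G) (v : G) : Prop where
  DE : D ≤ E
  DF : D ≤ F
  EV : E ≤ V
  vV : v ∈ V
  vE : v ∉ E
  Vcomm : V ≤ centralizer (V : Set G)
  Vsq : ∀ w ∈ V, w ^ 2 = 1
  Fcomm : F ≤ centralizer (F : Set G)
  Fsq : ∀ f ∈ F, f ^ 2 = 1
  comm : ∀ w ∈ V, ∀ f ∈ F, w * f * w⁻¹ * f⁻¹ ∈ E
  ED : ∀ e ∈ E, ∀ f ∈ F, e * f * e⁻¹ * f⁻¹ ∈ D
  inj : ∀ f ∈ F, v * f * v⁻¹ * f⁻¹ ∈ D → f ∈ D
  card : D.relIndex F = D.relIndex E

/-- `[w, f] = w f w⁻¹ f⁻¹` -/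
def c (w f : G) : G := w * f * w⁻¹ * f⁻¹

/-- `β_w(f, f') = [w, f, f']` -/
def beta (w f f' : G) : G := c (c w f) f'

theorem c_def (w f : G) : c w f = w * f * w⁻¹ * f⁻¹ := rfl

namespace Near

variable {V E D F : Subgroup G} {v : G} (h : Near V E D F v)
include h

theorem DV : D ≤ V := h.DE.trans h.EV

theorem Dcent {d f : G} (hd : d ∈ D) (hf : f ∈ F) : d * f = f * d :=
  comm_of_le_centralizer h.Fcomm (h.DF hd) hf

theorem V_comm {x y : G} (hx : x ∈ V) (hy : y ∈ V) : x * y = y * x :=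
  comm_of_le_centralizer h.Vcomm hx hy

theorem c_mem {w f : G} (hw : w ∈ V) (hf : f ∈ F) : c w f ∈ E := h.comm w hw f hf

theorem c_memV {w f : G} (hw : w ∈ V) (hf : f ∈ F) : c w f ∈ V := h.EV (h.c_mem hw hf)

theorem c_memD {e f : G} (he : e ∈ E) (hf : f ∈ F) : c e f ∈ D := h.ED e he f hf

theorem beta_mem {w f f' : G} (hw : w ∈ V) (hf : f ∈ F) (hf' : f' ∈ F) : beta w f f' ∈ D :=
  h.c_memD (h.c_mem hw hf) hf'

theorem c_D {d f : G} (hd : d ∈ D) (hf : f ∈ F) : c d f = 1 := by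
  rw [c, h.Dcent hd hf, mul_inv_cancel_right, mul_inv_cancel]

theorem inv_V {w : G} (hw : w ∈ V) : w⁻¹ = w := by
  have := h.Vsq w hw
  rw [pow_two] at this
  exact inv_eq_of_mul_eq_one_left this

theorem inv_F {f : G} (hf : f ∈ F) : f⁻¹ = f := by
  have := h.Fsq f hf
  rw [pow_two] at this
  exact inv_eq_of_mul_eq_one_left this

theorem F_norm_V : F ≤ normalizer (V : Set G) := by
  refine le_normalizer_of_comm fun f hf w hw => ?_
  have h1 := inv_mem (h.c_memV hw hf)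
  have e : (c w f)⁻¹ = f * w * f⁻¹ * w⁻¹ := by rw [c]; group
  rwa [e] at h1

theorem F_norm_E : F ≤ normalizer (E : Set G) := by
  refine le_normalizer_of_comm fun f hf w hw => ?_
  have h1 := inv_mem (h.c_mem (h.EV hw) hf)
  have e : (c w f)⁻¹ = f * w * f⁻¹ * w⁻¹ := by rw [c]; group
  rwa [e] at h1

/-- `[w w', f] = [w, f] [w', f]` -/
theorem c_mul_left {w w' f : G} (hw : w ∈ V) (hw' : w' ∈ V) (hf : f ∈ F) :
    c (w * w') f = c w f * c w' f := by
  have h1 : w * c w' f = c w' f * w := h.V_comm hw (h.c_memV hw' hf)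
  have e : c (w * w') f = w * c w' f * (f * w⁻¹ * f⁻¹) := by rw [c, c]; group
  rw [e, h1]
  have e2 : c w' f * w * (f * w⁻¹ * f⁻¹) = c w' f * c w f := by rw [c, c]; group
  rw [e2]
  exact h.V_comm (h.c_memV hw' hf) (h.c_memV hw hf)

/-- `[w, f f'] = [w, f] [w, f'] β_w(f', f)` -/
theorem c_mul_right {w f f' : G} (hw : w ∈ V) (hf : f ∈ F) (hf' : f' ∈ F) :
    c w (f * f') = c w f * c w f' * beta w f' f := by
  have e : c w (f * f') = c w f * (f * c w f' * f⁻¹) := by rw [c, c, c]; group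
  have e1 : f * c w f' * f⁻¹ = (beta w f' f)⁻¹ * c w f' := by
    rw [beta, c_def (c w f')]; group
  have h1 : (beta w f' f)⁻¹ = beta w f' f := h.inv_V (h.DV (h.beta_mem hw hf' hf))
  rw [e, e1, h1, h.V_comm (h.DV (h.beta_mem hw hf' hf)) (h.c_memV hw hf'), mul_assoc]

theorem beta_mul_left {w f f' f'' : G} (hw : w ∈ V) (hf : f ∈ F) (hf' : f' ∈ F) (hf'' : f'' ∈ F) :
    beta w (f * f') f'' = beta w f f'' * beta w f' f'' := by
  have hb := h.beta_mem hw hf' hf
  rw [beta, h.c_mul_right hw hf hf',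
    h.c_mul_left (mul_mem (h.c_memV hw hf) (h.c_memV hw hf')) (h.DV hb) hf'',
    h.c_D hb hf'', mul_one, h.c_mul_left (h.c_memV hw hf) (h.c_memV hw hf') hf'']
  rfl

/-- `[e, f f'] = [e, f] [e, f']` for `e ∈ E` -/
theorem c_mul_right' {e f f' : G} (he : e ∈ E) (hf : f ∈ F) (hf' : f' ∈ F) :
    c e (f * f') = c e f * c e f' := by
  rw [h.c_mul_right (h.EV he) hf hf']
  have : beta e f' f = 1 := h.c_D (h.c_memD he hf') hf
  rw [this, mul_one]

theorem beta_mul_right {w f f' f'' : G} (hw : w ∈ V) (hf : f ∈ F) (hf' : f' ∈ F) (hf'' : f'' ∈ F) :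
    beta w f (f' * f'') = beta w f f' * beta w f f'' :=
  h.c_mul_right' (h.c_mem hw hf) hf' hf''

theorem beta_mul {w w' f f' : G} (hw : w ∈ V) (hw' : w' ∈ V) (hf : f ∈ F) (hf' : f' ∈ F) :
    beta (w * w') f f' = beta w f f' * beta w' f f' := by
  rw [beta, h.c_mul_left hw hw' hf, h.c_mul_left (h.c_memV hw hf) (h.c_memV hw' hf) hf']
  rfl

/-- `β_w` is alternating. -/
theorem beta_self {w f : G} (hw : w ∈ V) (hf : f ∈ F) : beta w f f = 1 := by
  have h1 := h.c_memV hw hf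
  have h2 := h.inv_V h1
  have hff : f * f = 1 := by rw [← pow_two]; exact h.Fsq f hf
  have hfw : f * w * f⁻¹ ∈ V := norm_mem (h.F_norm_V hf) hw
  have hw1 := h.inv_V hw
  have hf1 := h.inv_F hf
  have hfw1 := h.V_comm hw hfw
  have e : c w f = w * (f * w * f⁻¹) := by
    rw [c]
    conv_lhs => rw [hw1]
    group
  rw [beta, c_def, h2, e]
  have e2 : w * (f * w * f⁻¹) * f * (w * (f * w * f⁻¹)) * f⁻¹ =
      w * (f * w * f⁻¹) * ((f * w * f⁻¹) * (f * f * w * f⁻¹ * f⁻¹)) := by group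
  have e3 : f * f * w * f⁻¹ * f⁻¹ = w := by rw [hf1, hff, one_mul, mul_assoc, hff, mul_one]
  have e4 : (f * w * f⁻¹) * (f * w * f⁻¹) = 1 := by
    have := h.Vsq _ hfw
    rwa [pow_two] at this
  have e5 : w * w = 1 := by
    have := h.Vsq _ hw
    rwa [pow_two] at this
  rw [e2, e3]
  calc w * (f * w * f⁻¹) * ((f * w * f⁻¹) * w) = w * ((f * w * f⁻¹) * (f * w * f⁻¹)) * w := by group
    _ = 1 := by rw [e4, mul_one, e5]

/-- `β_w` is symmetric. -/
theorem beta_comm {w f f' : G} (hw : w ∈ V) (hf : f ∈ F) (hf' : f' ∈ F) :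
    beta w f f' = beta w f' f := by
  have h1 := h.beta_self hw (mul_mem hf hf')
  rw [h.beta_mul_left hw hf hf' (mul_mem hf hf'), h.beta_mul_right hw hf hf hf',
    h.beta_mul_right hw hf' hf hf', h.beta_self hw hf, h.beta_self hw hf', one_mul, mul_one] at h1
  have h2 := h.inv_V (h.DV (h.beta_mem hw hf' hf))
  rw [← h2]
  exact eq_inv_of_mul_eq_one_left h1

/-- The kernel of `F` on `V` is `D`. -/
theorem F_inf_cent : F ⊓ centralizer (V : Set G) = D := by
  apply le_antisymm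
  · intro f hf
    obtain ⟨hf1, hf2⟩ := mem_inf.1 hf
    refine h.inj f hf1 ?_
    rw [mem_centralizer_iff.1 hf2 v h.vV, mul_inv_cancel_right, mul_inv_cancel]
    exact one_mem _
  · intro d hd
    exact mem_inf.2 ⟨h.DF hd, h.Vcomm (h.DV hd)⟩

/-- `F` acts semiregularly on `(vE)/D`. -/
theorem reg {e f : G} (he : e ∈ E) (hf : f ∈ F) (hc : (v * e) * f = f * (v * e)) : f ∈ D := by
  refine h.inj f hf ?_
  have h1 : c (v * e) f = 1 := by rw [c, hc, mul_inv_cancel_right, mul_inv_cancel]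
  rw [h.c_mul_left h.vV (h.EV he) hf] at h1
  have h2 : c v f = (c e f)⁻¹ := eq_inv_of_mul_eq_one_left h1
  change c v f ∈ D
  rw [h2]
  exact inv_mem (h.c_memD he hf)

/-- The datum depends only on the coset `vE`. -/
theorem mul_right {e : G} (he : e ∈ E) : Near V E D F (v * e) where
  DE := h.DE
  DF := h.DF
  EV := h.EV
  vV := mul_mem h.vV (h.EV he)
  vE := fun h1 => h.vE ((mul_mem_cancel_right he).1 h1)
  Vcomm := h.Vcomm
  Vsq := h.Vsq
  Fcomm := h.Fcomm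
  Fsq := h.Fsq
  comm := h.comm
  ED := h.ED
  card := h.card
  inj := fun f hf h1 => by
    refine h.inj f hf ?_
    change c (v * e) f ∈ D at h1
    rw [h.c_mul_left h.vV (h.EV he) hf] at h1
    exact (mul_mem_cancel_right (h.c_memD he hf)).1 h1

/-- `[v, F] D = E`: for every `e ∈ E` there is `f ∈ F` with `[v, f] e⁻¹ ∈ D`. -/
theorem surj [Finite G] {e : G} (he : e ∈ E) : ∃ f ∈ F, c v f * e⁻¹ ∈ D := by
  classical
  let DF' : Subgroup F := D.subgroupOf F
  let DE' : Subgroup E := D.subgroupOf E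
  let φ : F → E := fun f => ⟨c v f, h.c_mem h.vV f.2⟩
  have key : ∀ a b : F, (φ a)⁻¹ * φ b ∈ DE' ↔ c v ((a : G)⁻¹ * b) ∈ D := by
    intro a b
    have ha : (a : G)⁻¹ = a := h.inv_F a.2
    rw [ha, h.c_mul_right h.vV a.2 b.2]
    rw [mul_mem_cancel_right (h.beta_mem h.vV b.2 a.2)]
    have h1 : (c v a)⁻¹ = c v a := h.inv_V (h.c_memV h.vV a.2)
    change (c v a)⁻¹ * c v b ∈ D ↔ _
    rw [h1]
  let ψ : F ⧸ DF' → E ⧸ DE' := Quotient.map' φ (by
    intro a b hab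
    rw [QuotientGroup.leftRel_apply] at hab ⊢
    rw [key]
    have h1 : ((a : G)⁻¹ * b) ∈ D := hab
    have h2 := h.c_D h1 (one_mem F)
    rw [c_def, h.V_comm h.vV (h.DV h1), mul_inv_cancel_right, mul_inv_cancel]
    exact one_mem _)
  have hinj : Function.Injective ψ := by
    intro x y
    refine Quotient.inductionOn₂' x y fun a b hab => ?_
    have h1 : Quotient.mk'' (φ a) = (Quotient.mk'' (φ b) : E ⧸ DE') := hab
    rw [Quotient.eq'', QuotientGroup.leftRel_apply, key] at h1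
    rw [Quotient.eq'', QuotientGroup.leftRel_apply]
    exact h.inj _ (mul_mem (inv_mem a.2) b.2) h1
  have hsurj : Function.Surjective ψ := by
    have hcard : Nat.card (E ⧸ DE') ≤ Nat.card (F ⧸ DF') := by
      have : DF'.index = DE'.index := h.card
      rw [← Subgroup.index, ← Subgroup.index, this]
    exact (hinj.bijective_of_nat_card_le hcard).2
  obtain ⟨x, hx⟩ := hsurj (Quotient.mk'' ⟨e, he⟩)
  revert hx
  refine Quotient.inductionOn' x fun a ha => ⟨a, a.2, ?_⟩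
  have h1 : Quotient.mk'' (φ a) = (Quotient.mk'' ⟨e, he⟩ : E ⧸ DE') := ha
  rw [Quotient.eq'', QuotientGroup.leftRel_apply] at h1
  have h2 : (c v a)⁻¹ * e ∈ D := h1
  have h3 : (c v a)⁻¹ = c v a := h.inv_V (h.c_memV h.vV a.2)
  rw [h3] at h2
  rwa [h.inv_V (h.EV he)]

end Near

/-! ### From the frame -/

section Frame

variable {V Q : Subgroup G} {v g : G}

/-- `V₁ = E⟨v⟩`, `E = V ∩ Q` -/
abbrev V1 (V Q : Subgroup G) (v : G) : Subgroup G := (V ⊓ Q) ⊔ zpowers v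

theorem V1_le (hv : v ∈ V) : V1 V Q v ≤ V := sup_le inf_le_left (zpowers_le.2 hv)

theorem mem_V1 (hVc : V ≤ centralizer (V : Set G)) (hv : v ∈ V) (hv2 : v ^ 2 = 1) {x : G}
    (hx : x ∈ V1 V Q v) : ∃ e ∈ V ⊓ Q, x = e ∨ x = e * v := by
  have hn : zpowers v ≤ normalizer ((V ⊓ Q : Subgroup G) : Set G) := by
    refine le_normalizer_of_comm fun a ha b hb => ?_
    have h1 : a * b = b * a := comm_of_le_centralizer hVc (zpowers_le.2 hv ha) hb.1
    rw [h1, mul_inv_cancel_right, mul_inv_cancel]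
    exact one_mem _
  have h3 : x ∈ (((V ⊓ Q) ⊔ zpowers v : Subgroup G) : Set G) := hx
  rw [Subgroup.coe_mul_of_right_le_normalizer_left _ _ hn] at h3
  obtain ⟨e, he, f, hf, rfl⟩ := h3
  refine ⟨e, he, ?_⟩
  obtain ⟨k, rfl⟩ := mem_zpowers_iff.1 hf
  rcases Int.even_or_odd' k with ⟨m, rfl | rfl⟩
  · left
    have : v ^ (2 * m) = 1 := by
      rw [zpow_mul]
      have : v ^ (2 : ℤ) = 1 := by exact_mod_cast hv2
      rw [this, one_zpow]
    change e * v ^ (2 * m) = e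
    rw [this, mul_one]
  · right
    have : v ^ (2 * m + 1) = v := by
      rw [zpow_add, zpow_mul, zpow_one]
      have : v ^ (2 : ℤ) = 1 := by exact_mod_cast hv2
      rw [this, one_zpow, one_mul]
    change e * v ^ (2 * m + 1) = e * v
    rw [this]

theorem V1_inf (hVc : V ≤ centralizer (V : Set G)) (hv : v ∈ V) (hv2 : v ^ 2 = 1) (hvQ : v ∉ Q) :
    V1 V Q v ⊓ Q = V ⊓ Q := by
  apply le_antisymm
  · intro x hx
    obtain ⟨hx1, hx2⟩ := mem_inf.1 hx
    obtain ⟨e, he, rfl | rfl⟩ := mem_V1 hVc hv hv2 hx1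
    · exact he
    · exact absurd ((mul_mem_cancel_left (mem_inf.1 he).2).1 hx2) hvQ
  · exact le_inf le_sup_left inf_le_right

/-- The frame for `V₁ = E⟨v⟩`. -/
theorem fr_V1 (hVc : V ≤ centralizer (V : Set G)) (hQV : Q ≤ normalizer (V : Set G))
    (hVQ : V ≤ normalizer (Q : Set G)) (hv : v ∈ V) (gQ : MulAut.conj g • Q = Q)
    (gX : g ∈ X (V1 V Q v) g) : Fr (V1 V Q v) Q g where
  comm := comm_mono hVc (V1_le hv) (V1_le hv)
  QV := by
    have : V1 V Q v ≤ normalizer (Q : Set G) := (V1_le hv).trans hVQ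
    refine le_normalizer_of_comm fun a ha b hb => mem_sup_left ?_
    have h1 := inv_mem (comm_mem_inf hVQ hQV (V1_le hv hb) ha)
    have e : (b * a * b⁻¹ * a⁻¹)⁻¹ = a * b * a⁻¹ * b⁻¹ := by group
    rwa [e] at h1
  VQ := (V1_le hv).trans hVQ
  gQ := gQ
  gX := gX

/-- `Near` from the frame. -/
theorem near_of_fr [Finite G] (hVc : V ≤ centralizer (V : Set G)) (hV2 : ∀ w ∈ V, w ^ 2 = 1)
    (hQV : Q ≤ normalizer (V : Set G)) (hVQ : V ≤ normalizer (Q : Set G)) (hv : v ∈ V)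
    (hvQ : v ∉ Q) (h : Fr (V1 V Q v) Q g) :
    Near V (V ⊓ Q) ((V ⊓ Q) ⊓ MulAut.conj g • (V ⊓ Q)) (MulAut.conj g • (V ⊓ Q)) v := by
  have hE : E (V1 V Q v) Q = V ⊓ Q := V1_inf hVc hv (hV2 v hv) hvQ
  have hE' : E' (V1 V Q v) Q g = MulAut.conj g • (V ⊓ Q) := by rw [E', V1_inf hVc hv (hV2 v hv) hvQ]
  have hD : D (V1 V Q v) Q g = (V ⊓ Q) ⊓ MulAut.conj g • (V ⊓ Q) := by rw [D, hE, hE']
  rw [← hD, ← hE']
  have hc : ∀ {x : G}, x ∈ E' (V1 V Q v) Q g → x ^ 2 = 1 := by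
    intro x hx
    rw [hE'] at hx
    obtain ⟨y, hy, rfl⟩ := mem_conj'.1 hx
    rw [conj_pow, hV2 y hy.1, mul_one, mul_inv_cancel]
  refine ⟨?_, inf_le_right, inf_le_left, hv, fun h1 => hvQ h1.2, hVc, hV2, ?_, fun f hf => hc hf,
    ?_, ?_, ?_, ?_⟩
  · rw [D, hE]; exact inf_le_left
  · exact comm_mono h.comm' Fr.E'_le_V' Fr.E'_le_V'
  · intro w hw f hf
    exact comm_mem_inf hVQ hQV hw (h.E'_le_Q hf)
  · intro e he f hf
    rw [← hE] at he
    exact h.comm_EE' he hf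
  · intro f hf hfD
    have hf2 : f ^ 2 = 1 := hc hf
    have hXD : X (V1 V Q v) g ≤ normalizer ((D (V1 V Q v) Q g : Subgroup G) : Set G) := by
      refine le_normalizer_of_comm fun x hx d hd => ?_
      rw [h.D_cent hd hx, mul_inv_cancel_right, mul_inv_cancel]
      exact one_mem _
    -- elements of `⟨f⟩`
    have hz : ∀ x : G, x * f * x⁻¹ * f⁻¹ ∈ D (V1 V Q v) Q g → x ∈ X (V1 V Q v) g →
        ∀ w ∈ zpowers f, x * w * x⁻¹ * w⁻¹ ∈ D (V1 V Q v) Q g := by
      intro x hx _ w hw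
      obtain ⟨k, rfl⟩ := mem_zpowers_iff.1 hw
      have hf2' : f ^ (2 : ℤ) = 1 := by exact_mod_cast hf2
      rcases Int.even_or_odd' k with ⟨m, rfl | rfl⟩
      · rw [zpow_mul, hf2', one_zpow, mul_one, mul_inv_cancel, one_mul, inv_one]
        exact one_mem _
      · rw [zpow_add, zpow_mul, zpow_one, hf2', one_zpow, one_mul]
        exact hx
    have h1 : X (V1 V Q v) g ≤ stab (X (V1 V Q v) g) (zpowers f) (D (V1 V Q v) Q g) hXD := by
      refine sup_le (sup_le ?_ (zpowers_le.2 ?_)) ?_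
      · intro e he
        have he1 : e ∈ X (V1 V Q v) g := mem_sup_left (mem_sup_left he)
        exact ⟨he1, hz e (by rw [← hE] at he; exact h.comm_EE' he hf) he1⟩
      · have hv1 : v ∈ X (V1 V Q v) g := mem_sup_left (mem_sup_right (mem_zpowers v))
        exact ⟨hv1, hz v hfD hv1⟩
      · intro x hx
        have hx1 : x ∈ X (V1 V Q v) g := mem_sup_right hx
        refine ⟨hx1, hz x ?_ hx1⟩
        have h2 : x * f = f * x := comm_of_le_centralizer h.comm' hx (Fr.E'_le_V' hf)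
        rw [h2, mul_inv_cancel_right, mul_inv_cancel]
        exact one_mem _
    have h2 := (h1 (inv_mem h.gX)).2 f (mem_zpowers f)
    rw [inv_inv] at h2
    have h3 : g⁻¹ * f * g ∈ E (V1 V Q v) Q := mem_conj.1 hf
    have h4 : f⁻¹ ∈ E (V1 V Q v) Q :=
      (mul_mem_cancel_left h3).1 (inf_le_left (a := E (V1 V Q v) Q) h2)
    exact mem_inf.2 ⟨inv_mem_iff.1 h4, hf⟩
  · have h1 := relIndex_mul_relIndex ⊥ (D (V1 V Q v) Q g) (E' (V1 V Q v) Q g) bot_le inf_le_right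
    have h2 := relIndex_mul_relIndex ⊥ (D (V1 V Q v) Q g) (E (V1 V Q v) Q) bot_le inf_le_left
    simp only [relIndex_bot_left] at h1 h2
    rw [← hE]
    rw [Fr.card_E', ← h2] at h1
    exact Nat.eq_of_mul_eq_mul_left Nat.card_pos h1

/-- The frame for `V₁`, all facts together. -/
structure Fin (V Q : Subgroup G) (v g : G) : Prop where
  fr : Fr (V1 V Q v) Q g
  near : Near V (V ⊓ Q) ((V ⊓ Q) ⊓ MulAut.conj g • (V ⊓ Q)) (MulAut.conj g • (V ⊓ Q)) v
  near' : Near (MulAut.conj g • V) (MulAut.conj g • (V ⊓ Q)) ((V ⊓ Q) ⊓ MulAut.conj g • (V ⊓ Q))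
    (V ⊓ Q) (g * v * g⁻¹)
  ne : (V ⊓ Q) ⊓ MulAut.conj g • (V ⊓ Q) ≠ V ⊓ Q
  cent : ∀ x ∈ V ⊔ MulAut.conj g • V, ∀ d ∈ (V ⊓ Q) ⊓ MulAut.conj g • (V ⊓ Q), x * d = d * x

/-- The image of a `Near` datum under `x ↦ g x g⁻¹`. -/
theorem Near.conj {V E D F : Subgroup G} {v : G} (h : Near V E D F v) (g : G) :
    Near (MulAut.conj g • V) (MulAut.conj g • E) (MulAut.conj g • D) (MulAut.conj g • F)
      (g * v * g⁻¹) where
  DE := conj_le_iff.2 h.DE
  DF := conj_le_iff.2 h.DF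
  EV := conj_le_iff.2 h.EV
  vV := Frame.conj_mem h.vV
  vE := fun h1 => h.vE (by
    rw [mem_conj] at h1
    have e : g⁻¹ * (g * v * g⁻¹) * g = v := by group
    rwa [e] at h1)
  Vcomm := conj_le_centralizer h.Vcomm
  Vsq := fun w hw => by
    obtain ⟨x, hx, rfl⟩ := mem_conj'.1 hw
    rw [conj_pow, h.Vsq x hx, mul_one, mul_inv_cancel]
  Fcomm := conj_le_centralizer h.Fcomm
  Fsq := fun w hw => by
    obtain ⟨x, hx, rfl⟩ := mem_conj'.1 hw
    rw [conj_pow, h.Fsq x hx, mul_one, mul_inv_cancel]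
  comm := fun w hw f hf => by
    obtain ⟨x, hx, rfl⟩ := mem_conj'.1 hw
    obtain ⟨y, hy, rfl⟩ := mem_conj'.1 hf
    have e : g * x * g⁻¹ * (g * y * g⁻¹) * (g * x * g⁻¹)⁻¹ * (g * y * g⁻¹)⁻¹ =
        g * (x * y * x⁻¹ * y⁻¹) * g⁻¹ := by group
    rw [e]
    exact Frame.conj_mem (h.comm x hx y hy)
  ED := fun w hw f hf => by
    obtain ⟨x, hx, rfl⟩ := mem_conj'.1 hw
    obtain ⟨y, hy, rfl⟩ := mem_conj'.1 hf
    have e : g * x * g⁻¹ * (g * y * g⁻¹) * (g * x * g⁻¹)⁻¹ * (g * y * g⁻¹)⁻¹ =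
        g * (x * y * x⁻¹ * y⁻¹) * g⁻¹ := by group
    rw [e]
    exact Frame.conj_mem (h.ED x hx y hy)
  inj := fun f hf h1 => by
    obtain ⟨y, hy, rfl⟩ := mem_conj'.1 hf
    have e : g * v * g⁻¹ * (g * y * g⁻¹) * (g * v * g⁻¹)⁻¹ * (g * y * g⁻¹)⁻¹ =
        g * (v * y * v⁻¹ * y⁻¹) * g⁻¹ := by group
    rw [e, mem_conj] at h1
    have e2 : g⁻¹ * (g * (v * y * v⁻¹ * y⁻¹) * g⁻¹) * g = v * y * v⁻¹ * y⁻¹ := by group
    rw [e2] at h1
    exact Frame.conj_mem (h.inj y hy h1)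
  card := by
    have h1 : ∀ A : Subgroup G, MulAut.conj g • A = A.map (MulAut.conj g).toMonoidHom := fun A => rfl
    rw [h1, h1, h1, relIndex_map_map_of_injective _ _ (MulAut.conj g).injective,
      relIndex_map_map_of_injective _ _ (MulAut.conj g).injective]
    exact h.card

theorem conj_inv_conj (g : G) (A : Subgroup G) : MulAut.conj g⁻¹ • (MulAut.conj g • A) = A := by
  rw [conj_conj, inv_mul_cancel, map_one, one_smul]

theorem conj_V1 (gQ : MulAut.conj g • Q = Q) :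
    V1 (MulAut.conj g • V) Q (g * v * g⁻¹) = MulAut.conj g • V1 V Q v := by
  have h1 : MulAut.conj g • (V ⊓ Q) = MulAut.conj g • V ⊓ Q := by rw [Subgroup.smul_inf, gQ]
  have h2 : MulAut.conj g • zpowers v = zpowers (g * v * g⁻¹) := by
    change (zpowers v).map (MulAut.conj g).toMonoidHom = _
    rw [MonoidHom.map_zpowers]
    rfl
  rw [V1, V1, Choice.conj_sup, h1, h2]

theorem fr_symm (h : Fr (V1 V Q v) Q g) :
    Fr (V1 (MulAut.conj g • V) Q (g * v * g⁻¹)) Q g⁻¹ := by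
  rw [conj_V1 h.gQ]
  refine ⟨h.comm', h.QV', h.V'Q, ?_, ?_⟩
  · conv_lhs => rw [← h.gQ]
    exact conj_inv_conj g Q
  · rw [conj_inv_conj, sup_comm]
    exact inv_mem h.gX

theorem near'_of_fr [Finite G] (hVc : V ≤ centralizer (V : Set G)) (hV2 : ∀ w ∈ V, w ^ 2 = 1)
    (hQV : Q ≤ normalizer (V : Set G)) (hVQ : V ≤ normalizer (Q : Set G)) (hv : v ∈ V)
    (hvQ : v ∉ Q) (h : Fr (V1 V Q v) Q g) :
    Near (MulAut.conj g • V) (MulAut.conj g • (V ⊓ Q)) ((V ⊓ Q) ⊓ MulAut.conj g • (V ⊓ Q))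
      (V ⊓ Q) (g * v * g⁻¹) := by
  have h2 := fr_symm h
  have gQ' : MulAut.conj g⁻¹ • Q = Q := h2.gQ
  have hgn := h.g_mem_norm
  have hQV' : Q ≤ normalizer ((MulAut.conj g • V : Subgroup G) : Set G) := by
    intro q hq
    have hq' : g⁻¹ * q * g ∈ Q := norm_mem' hgn hq
    have h1 := hQV hq'
    rw [mem_normalizer_iff] at h1 ⊢
    intro x
    rw [mem_conj, mem_conj, h1]
    have e : g⁻¹ * q * g * (g⁻¹ * x * g) * (g⁻¹ * q * g)⁻¹ = g⁻¹ * (q * x * q⁻¹) * g := by group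
    rw [e]
  have hVQ' : MulAut.conj g • V ≤ normalizer (Q : Set G) := by
    intro x hx
    obtain ⟨v, hv, rfl⟩ := mem_conj'.1 hx
    exact mul_mem (mul_mem hgn (hVQ hv)) (inv_mem hgn)
  have hV2' : ∀ w ∈ MulAut.conj g • V, w ^ 2 = 1 := fun w hw => by
    obtain ⟨x, hx, rfl⟩ := mem_conj'.1 hw
    rw [conj_pow, hV2 x hx, mul_one, mul_inv_cancel]
  have hvQ' : g * v * g⁻¹ ∉ Q := fun h1 => hvQ (by
    have := norm_mem' hgn h1
    have e : g⁻¹ * (g * v * g⁻¹) * g = v := by group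
    rwa [e] at this)
  have h3 := near_of_fr (conj_le_centralizer hVc) hV2' hQV' hVQ' (Frame.conj_mem hv) hvQ' h2
  have e1 : MulAut.conj g • V ⊓ Q = MulAut.conj g • (V ⊓ Q) := by rw [Subgroup.smul_inf, h.gQ]
  rw [e1, conj_inv_conj] at h3
  rw [inf_comm (V ⊓ Q)]
  exact h3

theorem cent_of_fr (hVc : V ≤ centralizer (V : Set G)) :
    ∀ x ∈ V ⊔ MulAut.conj g • V, ∀ d ∈ (V ⊓ Q) ⊓ MulAut.conj g • (V ⊓ Q), x * d = d * x := by
  intro x hx d hd
  obtain ⟨hd1, hd2⟩ := mem_inf.1 hd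
  have h1 : V ⊔ MulAut.conj g • V ≤ centralizer {d} := by
    refine sup_le (fun y hy => ?_) (fun y hy => ?_)
    · rw [mem_centralizer_singleton_iff]
      exact comm_of_le_centralizer hVc hy (mem_inf.1 hd1).1
    · rw [mem_centralizer_singleton_iff]
      exact comm_of_le_centralizer (conj_le_centralizer hVc) hy (conj_le_iff.2 inf_le_left hd2)
  exact mem_centralizer_singleton_iff.1 (h1 hx)

theorem ne_of_fr [Finite G] {C : Subgroup G} (hVc : V ≤ centralizer (V : Set G))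
    (hV2 : ∀ w ∈ V, w ^ 2 = 1) (hv : v ∈ V) (hvQ : v ∉ Q) (hQ2 : IsPGroup 2 Q)
    (hC : C ⊓ centralizer (Q : Set G) ≤ Q) (hVC : V ≤ C) (hg : g ∈ C)
    (h : Fr (V1 V Q v) Q g) (hX : ¬ IsPGroup 2 (X (V1 V Q v) g)) :
    (V ⊓ Q) ⊓ MulAut.conj g • (V ⊓ Q) ≠ V ⊓ Q := by
  intro heq
  apply hX
  have hE : E (V1 V Q v) Q = V ⊓ Q := V1_inf hVc hv (hV2 v hv) hvQ
  have hE' : E' (V1 V Q v) Q g = MulAut.conj g • (V ⊓ Q) := by rw [E', V1_inf hVc hv (hV2 v hv) hvQ]
  have hD : D (V1 V Q v) Q g = V ⊓ Q := by rw [D, hE, hE', heq]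
  have hE'E : MulAut.conj g • (V ⊓ Q) = V ⊓ Q := by
    have h1 : V ⊓ Q ≤ MulAut.conj g • (V ⊓ Q) := by
      intro x hx
      rw [← heq] at hx
      exact (mem_inf.1 hx).2
    exact (Subgroup.eq_of_le_of_card_ge h1 (by rw [Choice.card_conj])).symm
  have hW : W (V1 V Q v) Q g = D (V1 V Q v) Q g := by rw [W, hE, hE', hE'E, hD, sup_idem]
  have hXC : X (V1 V Q v) g ≤ C :=
    sup_le ((V1_le hv).trans hVC) (Choice.conj_le_of_mem ((V1_le hv).trans hVC) hg)
  rintro ⟨x, hx⟩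
  obtain ⟨k, hk⟩ := h.exists_pow_eq_one hQ2 hC hXC hx (fun w hw => by
    have hw' : w ∈ D (V1 V Q v) Q g := hW ▸ hw
    rw [h.D_cent hw' hx, mul_inv_cancel_right, mul_inv_cancel]
    exact one_mem _)
  exact ⟨k, Subtype.ext hk⟩

/-- **The frame without a bound on `|A|`.**  `C` of characteristic 2, `V ≤ C` elementary abelian,
normalised by `Q = O₂(C)`, `v ∈ V - Q`. -/
theorem exists_near [Finite G] {C : Subgroup G} (hC : C ⊓ centralizer (o2 C : Set G) ≤ o2 C)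
    (hVC : V ≤ C) (hVc : V ≤ centralizer (V : Set G)) (hV2 : ∀ w ∈ V, w ^ 2 = 1)
    (hQV : o2 C ≤ normalizer (V : Set G)) (hv : v ∈ V) (hvQ : v ∉ o2 C) :
    ∃ g ∈ C, Fin V (o2 C) v g ∧ ¬ IsPGroup 2 (X (V1 V (o2 C) v) g) ∧
      ∀ y ∈ C, Nat.card (X (V1 V (o2 C) v) y) < Nat.card (X (V1 V (o2 C) v) g) →
        IsPGroup 2 (X (V1 V (o2 C) v) y) := by
  have hV1C : V1 V (o2 C) v ≤ C := (V1_le hv).trans hVC
  have hV1o : ¬ V1 V (o2 C) v ≤ o2 C := fun h1 => hvQ (h1 (mem_sup_right (mem_zpowers v)))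
  obtain ⟨g, hg, hgX, hX2, hmin⟩ := Choice.exists_g hV1C hV1o
  have hVQ : V ≤ normalizer (o2 C : Set G) := hVC.trans (le_normalizer_o2 C)
  have gQ : MulAut.conj g • o2 C = o2 C := by
    have := le_normalizer_o2 C hg
    ext x
    rw [mem_conj, mem_normalizer_iff.1 this]
    have e : g * (g⁻¹ * x * g) * g⁻¹ = x := by group
    rw [e]
  have hfr := fr_V1 hVc hQV hVQ hv gQ hgX
  exact ⟨g, hg, ⟨hfr, near_of_fr hVc hV2 hQV hVQ hv hvQ hfr, near'_of_fr hVc hV2 hQV hVQ hv hvQ hfr,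
    ne_of_fr hVc hV2 hv hvQ (o2_isPGroup C) hC hVC hg hfr hX2, cent_of_fr hVc⟩, hX2, hmin⟩

/-- Every subgroup of `V ∩ Q` centralised by `g` lies in `D`. -/
theorem le_D {Z : Subgroup G} (hZ : Z ≤ V ⊓ Q) (hg : ∀ z ∈ Z, g * z = z * g) :
    Z ≤ (V ⊓ Q) ⊓ MulAut.conj g • (V ⊓ Q) := by
  refine le_inf hZ fun z hz => mem_conj.2 ?_
  have e : g⁻¹ * z * g = z := by rw [mul_assoc, ← hg z hz, inv_mul_cancel_left]
  rw [e]
  exact hZ hz

end Frame

/-! ### The symbols: the trace map -/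

namespace Near

variable {V E D F : Subgroup G} {v : G} (h : Near V E D F v)
include h

theorem beta_inv {w f f' : G} (hw : w ∈ V) (hf : f ∈ F) (hf' : f' ∈ F) :
    (beta w f f')⁻¹ = beta w f f' := h.inv_V (h.DV (h.beta_mem hw hf hf'))

end Near

/-- Both faces of the frame. -/
structure Pair (V V' E F D : Subgroup G) (v v' : G) : Prop where
  one : Near V E D F v
  two : Near V' F D E v'

theorem Fin.pair {V Q : Subgroup G} {v g : G} (h : Fin V Q v g) :
    Pair V (MulAut.conj g • V) (V ⊓ Q) (MulAut.conj g • (V ⊓ Q))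
      ((V ⊓ Q) ⊓ MulAut.conj g • (V ⊓ Q)) v (g * v * g⁻¹) := ⟨h.near, h.near'⟩

/-- `τ f = [v', [v, f]]` -/
def tau (v v' f : G) : G := c v' (c v f)

theorem c_inv (x y : G) : (c x y)⁻¹ = c y x := by
  rw [c, c]; group

namespace Pair

variable {V V' E F D : Subgroup G} {v v' : G} (h : Pair V V' E F D v v')
include h

theorem symm : Pair V' V F E D v' v := ⟨h.two, h.one⟩

theorem tau_mem {f : G} (hf : f ∈ F) : tau v v' f ∈ F :=
  h.two.c_mem h.two.vV (h.one.c_mem h.one.vV hf)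

end Pair

/-! ### The maps `θ_w` -/

namespace Near

variable {V E D F : Subgroup G} {v : G} (h : Near V E D F v)
include h

/-- The relation `h = θ_w f`, i.e. `[w, f] ≡ [v, h]` modulo `D`. -/
theorem exists_theta [Finite G] {w f : G} (hw : w ∈ V) (hf : f ∈ F) :
    ∃ k ∈ F, c v k * (c w f)⁻¹ ∈ D := h.surj (h.c_mem hw hf)

end Near

end Cfsg.Agent.Omega.NOne.NearFF

end

section


/-!
# THEOREM FLAT (text B4 #15506, helper527), part 1: (1)-(5)

`V` elementary abelian, `O₂(C_G(D)) ≤ N_G(V)` for `1 ≠ D ≤ V`, no offender on `V`;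
`F` a maximal member of `BAD = {1 ≠ F ≤ V | V ≰ O₂(C_G(F))}`, `X = C_G(F)`, `R = O₂(X)`, `E = V ∩ R`,
`W = ⟨E^X⟩`.  Commutators are `[w, s] = w s w⁻¹ s⁻¹` (`NearFF.c`).
-/

set_option autoImplicit false

namespace Cfsg.Agent.Omega.NOne.Flat

open Subgroup Cfsg Cfsg.Agent.Omega.NoFF.Basic Cfsg.Agent.Omega.NOne.Frame
open Cfsg.Agent.Omega.NOne.NearFF (Near c c_def)
open Cfsg.Agent.ZN (o2)
open Cfsg.Agent.MinSimple.VModule
open scoped Pointwise

universe u

variable {G : Type u} [Group G]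

/-- `F` is bad for `V`: `1 ≠ F ≤ V`, `V ≰ O₂(C_G(F))`. -/
structure Bad (V F : Subgroup G) : Prop where
  ne : F ≠ ⊥
  le : F ≤ V
  not_le : ¬ V ≤ o2 (centralizer (F : Set G))

/-- The hypotheses of THEOREM FLAT. -/
structure Hyp (V F : Subgroup G) : Prop where
  comm : V ≤ centralizer (V : Set G)
  sq : ∀ w ∈ V, w ^ 2 = 1
  /-- (i) -/
  syl : ∀ D : Subgroup G, D ≠ ⊥ → D ≤ V → o2 (centralizer (D : Set G)) ≤ normalizer (V : Set G)
  /-- (ii) -/
  noff : ∀ A : Subgroup G, A ≤ normalizer (V : Set G) → A ≤ centralizer (A : Set G) →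
    (∀ a ∈ A, a ^ 2 = 1) → ¬ A ≤ centralizer (V : Set G) →
    Nat.card A * Nat.card ↥(V ⊓ centralizer (A : Set G)) <
      Nat.card V * Nat.card ↥(A ⊓ centralizer (V : Set G))
  char2 : centralizer (F : Set G) ⊓ centralizer (o2 (centralizer (F : Set G)) : Set G) ≤
    o2 (centralizer (F : Set G))
  bad : Bad V F
  max : ∀ D : Subgroup G, Bad V D → F ≤ D → D = F

/-- `E = V ∩ O₂(C_G(F))` -/
abbrev EE (V F : Subgroup G) : Subgroup G := V ⊓ o2 (centralizer (F : Set G))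

/-- `W = ⟨E^X⟩`, `X = C_G(F)` -/
abbrev WW (V F : Subgroup G) : Subgroup G := NoFF.Basic.V (EE V F) (centralizer (F : Set G))

/-- `x` is bad: `⟨V, V^x⟩` is not a 2-group. -/
def BadX (V : Subgroup G) (x : G) : Prop := ¬ IsPGroup 2 (V ⊔ MulAut.conj x • V : Subgroup G)

theorem o2_conj (g : G) (H : Subgroup G) : MulAut.conj g • o2 H = o2 (MulAut.conj g • H) :=
  (ZN.o2_map (MulAut.conj g).toMonoidHom (MulAut.conj g).injective H).symm

theorem conj_centralizer (g : G) (H : Subgroup G) :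
    MulAut.conj g • centralizer (H : Set G) = centralizer ((MulAut.conj g • H : Subgroup G) : Set G) := by
  apply le_antisymm
  · exact conj_le_centralizer le_rfl
  · have h1 : MulAut.conj g⁻¹ • centralizer ((MulAut.conj g • H : Subgroup G) : Set G) ≤
        centralizer ((MulAut.conj g⁻¹ • (MulAut.conj g • H) : Subgroup G) : Set G) :=
      conj_le_centralizer le_rfl
    rw [conj_conj, inv_mul_cancel, map_one, one_smul] at h1
    have h2 := conj_le_iff (g := g) |>.2 h1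
    rwa [conj_conj, mul_inv_cancel, map_one, one_smul] at h2

/-- A subgroup centralised by `x` is fixed by `x`. -/
theorem conj_eq_of_cent {x : G} {F : Subgroup G} (hx : x ∈ centralizer (F : Set G)) :
    MulAut.conj x • F = F := by
  ext y
  rw [mem_conj]
  constructor
  · intro h
    have h1 := mem_centralizer_iff.1 hx _ h
    have e : x⁻¹ * y * x = y := by
      have : x⁻¹ * y * x * x = x * (x⁻¹ * y * x) := h1
      have h2 : y * x = x * (x⁻¹ * y * x) := by group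
      have h3 : x⁻¹ * y * x * x = y * x := by rw [this, h2]
      exact mul_right_cancel h3
    rwa [e] at h
  · intro h
    have h1 := mem_centralizer_iff.1 hx y h
    have e : x⁻¹ * y * x = y := by rw [mul_assoc, h1, inv_mul_cancel_left]
    rwa [e]

namespace Hyp

variable {V F : Subgroup G} (h : Hyp V F)
include h

theorem F_le_V : F ≤ V := h.bad.le

theorem inv {w : G} (hw : w ∈ V) : w⁻¹ = w := by
  have := h.sq w hw
  rw [pow_two] at this
  exact inv_eq_of_mul_eq_one_left this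

theorem sq' {w : G} (hw : w ∈ V) : w * w = 1 := by
  have := h.sq w hw
  rwa [pow_two] at this

theorem V_comm {x y : G} (hx : x ∈ V) (hy : y ∈ V) : x * y = y * x :=
  comm_of_le_centralizer h.comm hx hy

/-- `V ≤ X` -/
theorem V_le_X : V ≤ centralizer (F : Set G) := comm_mono h.comm le_rfl h.F_le_V

theorem V_norm_R : V ≤ normalizer (o2 (centralizer (F : Set G)) : Set G) :=
  h.V_le_X.trans (le_normalizer_o2 _)

theorem R_norm_V : o2 (centralizer (F : Set G)) ≤ normalizer (V : Set G) :=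
  h.syl F h.bad.ne h.F_le_V

omit h in
/-- elements of `F` commute with elements of `X` -/
theorem F_comm {f x : G} (hf : f ∈ F) (hx : x ∈ centralizer (F : Set G)) : f * x = x * f :=
  mem_centralizer_iff.1 hx f hf

omit h in
theorem R_le_X : o2 (centralizer (F : Set G)) ≤ centralizer (F : Set G) := ZN.o2_le _

theorem V_isPGroup : IsPGroup 2 V := by
  rintro ⟨w, hw⟩
  exact ⟨1, Subtype.ext (by simpa only [_root_.pow_one, _root_.SubmonoidClass.mk_pow, _root_.OneMemClass.coe_one] using h.sq w hw)⟩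

theorem F_le_R : F ≤ o2 (centralizer (F : Set G)) := by
  refine le_o2 (h.F_le_V.trans h.V_le_X) (h.V_isPGroup.to_le h.F_le_V) ?_
  exact centralizer_le_normalizer _

theorem F_le_E : F ≤ EE V F := le_inf h.F_le_V h.F_le_R

/-- `[V, R] ≤ E` -/
theorem comm_VR {v r : G} (hv : v ∈ V) (hr : r ∈ o2 (centralizer (F : Set G))) : c v r ∈ EE V F :=
  comm_mem_inf h.V_norm_R h.R_norm_V hv hr

/-- **(1)** `F < E`. -/
theorem E_ne_F : EE V F ≠ F := by
  intro hEF
  -- the group of elements acting trivially on `R / F`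
  have hX : centralizer (F : Set G) ≤ normalizer (F : Set G) := centralizer_le_normalizer _
  let K : Subgroup G := stab (centralizer (F : Set G)) (o2 (centralizer (F : Set G))) F hX
  have hKX : K ≤ centralizer (F : Set G) := fun x hx => hx.1
  have hVK : V ≤ K := by
    intro v hv
    refine ⟨h.V_le_X hv, fun r hr => ?_⟩
    have := h.comm_VR hv hr
    rwa [hEF] at this
  have hKn : centralizer (F : Set G) ≤ normalizer (K : Set G) := by
    have key : ∀ x ∈ centralizer (F : Set G), ∀ k ∈ K, x * k * x⁻¹ ∈ K := by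
      intro x hx k hk
      refine ⟨mul_mem (mul_mem hx hk.1) (inv_mem hx), fun r hr => ?_⟩
      have h1 : x⁻¹ * r * x ∈ o2 (centralizer (F : Set G)) := norm_mem' (le_normalizer_o2 _ hx) hr
      have h2 := hk.2 _ h1
      have h3 : x * (k * (x⁻¹ * r * x) * k⁻¹ * (x⁻¹ * r * x)⁻¹) * x⁻¹ ∈ F := norm_mem (hX hx) h2
      have e : x * (k * (x⁻¹ * r * x) * k⁻¹ * (x⁻¹ * r * x)⁻¹) * x⁻¹ =
          x * k * x⁻¹ * r * (x * k * x⁻¹)⁻¹ * r⁻¹ := by group
      rwa [e] at h3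
    intro x hx
    rw [mem_normalizer_iff]
    intro k
    refine ⟨key x hx k, fun hk => ?_⟩
    have h1 := key x⁻¹ (inv_mem hx) _ hk
    have e : x⁻¹ * (x * k * x⁻¹) * x⁻¹⁻¹ = k := by group
    rwa [e] at h1
  -- `K` is a 2-group
  have hK2 : IsPGroup 2 K := by
    rintro ⟨k, hk⟩
    -- `k² ∈ C_X(R) ≤ R`
    have h1 : k ^ 2 ∈ o2 (centralizer (F : Set G)) := by
      refine h.char2 (mem_inf.2 ⟨pow_mem hk.1 2, ?_⟩)
      rw [mem_centralizer_iff]
      intro r hr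
      have h2 := hk.2 r hr
      set d := k * r * k⁻¹ * r⁻¹ with hd
      have h3 : d * k = k * d := F_comm h2 hk.1
      have h4 : d * d = 1 := h.sq' (h.F_le_V h2)
      have h5 : k * r * k⁻¹ = d * r := by rw [hd]; group
      have h6 : k ^ 2 * r * (k ^ 2)⁻¹ = r := by
        calc k ^ 2 * r * (k ^ 2)⁻¹ = k * (k * r * k⁻¹) * k⁻¹ := by rw [pow_two]; group
          _ = k * (d * r) * k⁻¹ := by rw [h5]
          _ = d * k * r * k⁻¹ := by rw [h3]; group
          _ = d * (k * r * k⁻¹) := by group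
          _ = d * d * r := by rw [h5]; group
          _ = r := by rw [h4, one_mul]
      calc r * k ^ 2 = (k ^ 2 * r * (k ^ 2)⁻¹) * k ^ 2 := by rw [h6]
        _ = k ^ 2 * r := by group
    obtain ⟨n, hn⟩ := ZN.isPGroup_o2 (centralizer (F : Set G)) ⟨k ^ 2, h1⟩
    refine ⟨n + 1, Subtype.ext ?_⟩
    have h2 : (k ^ 2) ^ 2 ^ n = 1 := congrArg Subtype.val hn
    change k ^ 2 ^ (n + 1) = 1
    rw [pow_succ, mul_comm, pow_mul]
    exact h2
  exact h.bad.not_le (hVK.trans (le_o2 hKX hK2 hKn))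

theorem F_lt_E : F < EE V F := lt_of_le_of_ne h.F_le_E (Ne.symm h.E_ne_F)

/-! ### conjugates -/

/-- The hypotheses for `V^x`. -/
theorem syl_conj (x : G) (D : Subgroup G) (hD : D ≠ ⊥) (hDV : D ≤ MulAut.conj x • V) :
    o2 (centralizer (D : Set G)) ≤ normalizer ((MulAut.conj x • V : Subgroup G) : Set G) := by
  have h1 : MulAut.conj x⁻¹ • D ≤ V := by
    have := conj_le_iff (g := x⁻¹) |>.2 hDV
    rwa [conj_conj, inv_mul_cancel, map_one, one_smul] at this
  have h2 : MulAut.conj x⁻¹ • D ≠ ⊥ := by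
    intro h0
    apply hD
    have := congrArg (fun A : Subgroup G => MulAut.conj x • A) h0
    simp only [conj_conj, mul_inv_cancel, map_one, one_smul, Subgroup.smul_bot] at this
    exact this
  have h3 := h.syl _ h2 h1
  rw [← conj_centralizer, ← o2_conj] at h3
  intro r hr
  have h4 : x⁻¹ * r * x ∈ normalizer (V : Set G) := by
    apply h3
    rw [mem_conj]
    have e : x⁻¹⁻¹ * (x⁻¹ * r * x) * x⁻¹ = r := by group
    rwa [e]
  rw [mem_normalizer_iff] at h4 ⊢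
  intro y
  rw [mem_conj, mem_conj, h4]
  have e : x⁻¹ * r * x * (x⁻¹ * y * x) * (x⁻¹ * r * x)⁻¹ = x⁻¹ * (r * y * r⁻¹) * x := by group
  rw [e]

/-- `D` with `F < D ≤ V` is good. -/
theorem le_o2_of_lt {D : Subgroup G} (hFD : F < D) (hD : D ≤ V) : V ≤ o2 (centralizer (D : Set G)) := by
  by_contra h1
  have h2 : Bad V D := ⟨fun h3 => h.bad.ne (le_bot_iff.1 (h3 ▸ hFD.le)), hD, h1⟩
  exact hFD.ne (h.max D h2 hFD.le).symm

/-- `D` with `F < D ≤ V^x`, `x ∈ X`, is good for `V^x`. -/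
theorem le_o2_of_lt' {x : G} (hx : x ∈ centralizer (F : Set G)) {D : Subgroup G} (hFD : F < D)
    (hD : D ≤ MulAut.conj x • V) : MulAut.conj x • V ≤ o2 (centralizer (D : Set G)) := by
  have h1 : MulAut.conj x⁻¹ • D ≤ V := by
    have := conj_le_iff (g := x⁻¹) |>.2 hD
    rwa [conj_conj, inv_mul_cancel, map_one, one_smul] at this
  have h2 : F < MulAut.conj x⁻¹ • D := by
    have h3 : MulAut.conj x⁻¹ • F = F := conj_eq_of_cent (inv_mem hx)
    rw [← h3]
    refine lt_of_le_of_ne (conj_le_iff.2 hFD.le) fun h4 => hFD.ne ?_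
    have := congrArg (fun A : Subgroup G => MulAut.conj x • A) h4
    simpa only [conj_conj, mul_inv_cancel, map_one, one_smul] using this
  have h3 := h.le_o2_of_lt h2 h1
  have h4 := conj_le_iff (g := x) |>.2 h3
  rw [o2_conj, conj_centralizer, conj_conj, mul_inv_cancel, map_one, one_smul] at h4
  exact h4

/-- **No two mutual noncommuting conjugates.** -/
theorem commute_of_mutual [Finite G] {x : G} (h1 : V ≤ normalizer ((MulAut.conj x • V : Subgroup G) : Set G))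
    (h2 : MulAut.conj x • V ≤ normalizer (V : Set G)) : MulAut.conj x • V ≤ centralizer (V : Set G) := by
  by_contra hne
  set V' : Subgroup G := MulAut.conj x • V with hV'
  have hc' : V' ≤ centralizer (V' : Set G) := conj_le_centralizer h.comm
  have hs' : ∀ a ∈ V', a ^ 2 = 1 := by
    intro a ha
    obtain ⟨y, hy, rfl⟩ := mem_conj'.1 ha
    rw [conj_pow, h.sq y hy, mul_one, mul_inv_cancel]
  have k1 := h.noff V' h2 hc' hs' hne
  -- the same for `x⁻¹`
  have e0 : MulAut.conj x⁻¹ • V' = V := by rw [hV', conj_conj, inv_mul_cancel, map_one, one_smul]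
  set V₂ : Subgroup G := MulAut.conj x⁻¹ • V with hV₂
  have h3 : V₂ ≤ normalizer (V : Set G) := by
    intro y hy
    rw [hV₂, mem_conj] at hy
    rw [inv_inv] at hy
    have h4 := h1 hy
    rw [mem_normalizer_iff] at h4 ⊢
    intro z
    have h5 := h4 (x * z * x⁻¹)
    rw [hV', mem_conj, mem_conj] at h5
    have e1 : x⁻¹ * (x * z * x⁻¹) * x = z := by group
    have e2 : x⁻¹ * (x * y * x⁻¹ * (x * z * x⁻¹) * (x * y * x⁻¹)⁻¹) * x = y * z * y⁻¹ := by group
    rwa [e1, e2] at h5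
  have hc2 : V₂ ≤ centralizer (V₂ : Set G) := conj_le_centralizer h.comm
  have hs2 : ∀ a ∈ V₂, a ^ 2 = 1 := by
    intro a ha
    obtain ⟨y, hy, rfl⟩ := mem_conj'.1 ha
    rw [conj_pow, h.sq y hy, mul_one, mul_inv_cancel]
  have hne2 : ¬ V₂ ≤ centralizer (V : Set G) := by
    intro h4
    have h5 := conj_le_centralizer (g := x) h4
    rw [hV₂, conj_conj, mul_inv_cancel, map_one, one_smul] at h5
    exact hne (comm_symm h5)
  have k2 := h.noff V₂ h3 hc2 hs2 hne2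
  -- cardinalities
  have c1 : Nat.card V' = Nat.card V := Choice.card_conj x V
  have c2 : Nat.card V₂ = Nat.card V := Choice.card_conj x⁻¹ V
  have c3 : Nat.card ↥(V ⊓ centralizer (V₂ : Set G)) = Nat.card ↥(V' ⊓ centralizer (V : Set G)) := by
    have e1 : MulAut.conj x • (V ⊓ centralizer (V₂ : Set G)) = V' ⊓ centralizer (V : Set G) := by
      rw [Subgroup.smul_inf, conj_centralizer, hV₂, conj_conj, mul_inv_cancel, map_one, one_smul]
    rw [← e1, Choice.card_conj]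
  have c4 : Nat.card ↥(V₂ ⊓ centralizer (V : Set G)) = Nat.card ↥(V ⊓ centralizer (V' : Set G)) := by
    have e1 : MulAut.conj x • (V₂ ⊓ centralizer (V : Set G)) = V ⊓ centralizer (V' : Set G) := by
      rw [Subgroup.smul_inf, conj_centralizer, hV₂, conj_conj, mul_inv_cancel, map_one, one_smul]
    rw [← e1, Choice.card_conj]
  rw [c1] at k1
  rw [c2, c3, c4] at k2
  have hp : 0 < Nat.card V := Nat.card_pos
  have k3 := Nat.lt_of_mul_lt_mul_left k1
  have k4 := Nat.lt_of_mul_lt_mul_left k2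
  omega

/-- **(2)** `x ∈ X`, `V ∩ V^x > F` ⟹ `[V, V^x] = 1`. -/
theorem commute_of_lt [Finite G] {x : G} (hx : x ∈ centralizer (F : Set G)) (hlt : F < V ⊓ MulAut.conj x • V) :
    MulAut.conj x • V ≤ centralizer (V : Set G) := by
  have hne : V ⊓ MulAut.conj x • V ≠ ⊥ := fun h0 => h.bad.ne (le_bot_iff.1 (h0 ▸ hlt.le))
  refine h.commute_of_mutual ?_ ?_
  · exact (h.le_o2_of_lt hlt inf_le_left).trans (h.syl_conj x _ hne inf_le_right)
  · exact (h.le_o2_of_lt' hx hlt inf_le_right).trans (h.syl _ hne inf_le_left)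

theorem F_le_conj {x : G} (hx : x ∈ centralizer (F : Set G)) : F ≤ MulAut.conj x • V := by
  have := conj_le_iff (g := x) |>.2 h.F_le_V
  rwa [conj_eq_of_cent hx] at this

theorem F_le_inf {x : G} (hx : x ∈ centralizer (F : Set G)) : F ≤ V ⊓ MulAut.conj x • V :=
  le_inf h.F_le_V (h.F_le_conj hx)

/-- **(2)** bad `x`: `V ∩ V^x = F`. -/
theorem inf_eq_of_bad [Finite G] {x : G} (hx : x ∈ centralizer (F : Set G)) (hb : BadX V x) :
    V ⊓ MulAut.conj x • V = F := by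
  by_contra hne
  have h1 := h.commute_of_lt hx (lt_of_le_of_ne (h.F_le_inf hx) (Ne.symm hne))
  apply hb
  exact IsPGroup.to_sup_of_normal_right' h.V_isPGroup (Choice.isPGroup_conj h.V_isPGroup x)
    ((comm_symm h1).trans (centralizer_le_normalizer _))

/-! ### (3) -/

omit h in
theorem E_le_V : EE V F ≤ V := inf_le_left

omit h in
theorem E_le_X : EE V F ≤ centralizer (F : Set G) := inf_le_right.trans R_le_X

omit h in
theorem conj_R {x : G} (hx : x ∈ centralizer (F : Set G)) :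
    MulAut.conj x • o2 (centralizer (F : Set G)) = o2 (centralizer (F : Set G)) := by
  rw [o2_conj, conj_self hx]

omit h in
theorem conjE_le_R {x : G} (hx : x ∈ centralizer (F : Set G)) :
    MulAut.conj x • EE V F ≤ o2 (centralizer (F : Set G)) := by
  have := conj_le_iff (g := x) |>.2 (inf_le_right : EE V F ≤ o2 (centralizer (F : Set G)))
  rwa [conj_R hx] at this

omit h in
theorem conjE_le_conjV (x : G) : MulAut.conj x • EE V F ≤ MulAut.conj x • V :=
  conj_le_iff.2 inf_le_left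

theorem R_norm_conjV {x : G} (hx : x ∈ centralizer (F : Set G)) :
    o2 (centralizer (F : Set G)) ≤ normalizer ((MulAut.conj x • V : Subgroup G) : Set G) :=
  h.syl_conj x F h.bad.ne (h.F_le_conj hx)

theorem conjV_norm_R {x : G} (hx : x ∈ centralizer (F : Set G)) :
    (MulAut.conj x • V : Subgroup G) ≤ normalizer (o2 (centralizer (F : Set G)) : Set G) :=
  (Choice.conj_le_of_mem h.V_le_X hx).trans (le_normalizer_o2 _)

/-- **(3)** `[E, E^x] ≤ F`. -/
theorem comm_EE [Finite G] {x : G} (hx : x ∈ centralizer (F : Set G)) {e f : G} (he : e ∈ EE V F)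
    (hf : f ∈ MulAut.conj x • EE V F) : c e f ∈ F := by
  have h1 : c e f ∈ EE V F := h.comm_VR he.1 (conjE_le_R hx hf)
  have h2 : c e f ∈ (MulAut.conj x • V : Subgroup G) := by
    have h3 := comm_mem_inf (h.conjV_norm_R hx) (h.R_norm_conjV hx) (conjE_le_conjV x hf) he.2
    have h4 : (f * e * f⁻¹ * e⁻¹)⁻¹ ∈ (MulAut.conj x • V : Subgroup G) := inv_mem (mem_inf.1 h3).1
    have e1 : (f * e * f⁻¹ * e⁻¹)⁻¹ = c e f := by rw [c]; group
    rwa [e1] at h4
  by_cases hlt : F < V ⊓ MulAut.conj x • V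
  · have h3 := h.commute_of_lt hx hlt
    have h4 : e * f = f * e := (comm_of_le_centralizer h3 (conjE_le_conjV x hf) he.1).symm
    rw [c, h4, mul_inv_cancel_right, mul_inv_cancel]
    exact one_mem _
  · have h3 : V ⊓ MulAut.conj x • V = F := by
      by_contra h4
      exact hlt (lt_of_le_of_ne (h.F_le_inf hx) (Ne.symm h4))
    rw [← h3]
    exact mem_inf.2 ⟨h1.1, h2⟩

omit h in
theorem E_le_W : EE V F ≤ WW V F := by
  have := Z_le_V (Z := EE V F) (P := centralizer (F : Set G)) (p := 1) (one_mem _)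
  rwa [map_one, one_smul] at this

omit h in
theorem conjE_le_W {x : G} (hx : x ∈ centralizer (F : Set G)) : MulAut.conj x • EE V F ≤ WW V F :=
  Z_le_V hx

omit h in
theorem W_le_R : WW V F ≤ o2 (centralizer (F : Set G)) := V_le fun _ hx => conjE_le_R hx

omit h in
theorem W_le_X : WW V F ≤ centralizer (F : Set G) := W_le_R.trans R_le_X

theorem W_norm_V : WW V F ≤ normalizer (V : Set G) := W_le_R.trans h.R_norm_V

omit h in
theorem conj_W {x : G} (hx : x ∈ centralizer (F : Set G)) : MulAut.conj x • WW V F = WW V F := by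
  have := conj_V_mul (Z := EE V F) (P := centralizer (F : Set G)) (g := 1) hx
  rwa [one_mul, map_one, one_smul] at this

omit h in
theorem conj_mem_W {x s : G} (hx : x ∈ centralizer (F : Set G)) (hs : s ∈ WW V F) :
    x * s * x⁻¹ ∈ WW V F := by
  have := Frame.conj_mem (g := x) hs
  rwa [conj_W hx] at this

omit h in
theorem X_norm_W : centralizer (F : Set G) ≤ normalizer (WW V F : Set G) := by
  intro x hx
  rw [mem_normalizer_iff]
  intro s
  refine ⟨fun hs => conj_mem_W hx hs, fun hs => ?_⟩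
  have := conj_mem_W (inv_mem hx) hs
  have e : x⁻¹ * (x * s * x⁻¹) * x⁻¹⁻¹ = s := by group
  rwa [e] at this

/-- `[V, W] ≤ E` -/
theorem comm_VW {v s : G} (hv : v ∈ V) (hs : s ∈ WW V F) : c v s ∈ EE V F := h.comm_VR hv (W_le_R hs)

omit h in
theorem X_norm_F : centralizer (F : Set G) ≤ normalizer (F : Set G) := centralizer_le_normalizer _

/-- `[E, W] ≤ F` -/
theorem comm_EW [Finite G] {e s : G} (he : e ∈ EE V F) (hs : s ∈ WW V F) : c e s ∈ F := by
  have h1 : WW V F ≤ stab (centralizer (F : Set G)) (EE V F) F X_norm_F := by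
    refine V_le fun x hx f hf => ⟨R_le_X (conjE_le_R hx hf), fun e he => ?_⟩
    have h2 := inv_mem (h.comm_EE hx he hf)
    have e1 : (c e f)⁻¹ = f * e * f⁻¹ * e⁻¹ := by rw [c]; group
    rwa [e1] at h2
  have h2 := inv_mem ((h1 hs).2 e he)
  have e1 : (s * e * s⁻¹ * e⁻¹)⁻¹ = c e s := by rw [c]; group
  rwa [e1] at h2

/-- `[W, W] ≤ F` -/
theorem comm_WW [Finite G] {s t : G} (hs : s ∈ WW V F) (ht : t ∈ WW V F) : c s t ∈ F := by
  have h1 : WW V F ≤ stab (centralizer (F : Set G)) (WW V F) F X_norm_F := by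
    refine V_le fun x hx f hf => ⟨R_le_X (conjE_le_R hx hf), fun s hs => ?_⟩
    obtain ⟨e, he, rfl⟩ := mem_conj'.1 hf
    have h2 : x⁻¹ * s * x ∈ WW V F := by
      have := conj_mem_W (inv_mem hx) hs
      rwa [inv_inv] at this
    have h3 := h.comm_EW he h2
    have h4 := norm_mem (X_norm_F hx) h3
    have e1 : x * c e (x⁻¹ * s * x) * x⁻¹ = x * e * x⁻¹ * s * (x * e * x⁻¹)⁻¹ * s⁻¹ := by
      rw [c]; group
    rwa [e1] at h4
  exact (h1 hs).2 t ht

/-- `s² ∈ F` for `s ∈ W` -/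
theorem sq_W [Finite G] {s : G} (hs : s ∈ WW V F) : s * s ∈ F := by
  let K : Subgroup G :=
    { carrier := {s | s ∈ WW V F ∧ s * s ∈ F}
      one_mem' := ⟨one_mem _, by rw [one_mul]; exact one_mem _⟩
      mul_mem' := by
        rintro s t ⟨hs, hs2⟩ ⟨ht, ht2⟩
        refine ⟨mul_mem hs ht, ?_⟩
        have h1 : c t⁻¹ s⁻¹ ∈ F := h.comm_WW (inv_mem ht) (inv_mem hs)
        have h2 : c t⁻¹ s⁻¹ * t = t * c t⁻¹ s⁻¹ := F_comm h1 (W_le_X ht)
        have e : s * t * (s * t) = s * s * (t * t) * c t⁻¹ s⁻¹ := by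
          calc s * t * (s * t) = s * s * t * (c t⁻¹ s⁻¹ * t) := by rw [c]; group
            _ = s * s * t * (t * c t⁻¹ s⁻¹) := by rw [h2]
            _ = s * s * (t * t) * c t⁻¹ s⁻¹ := by group
        rw [e]
        exact mul_mem (mul_mem hs2 ht2) h1
      inv_mem' := by
        rintro s ⟨hs, hs2⟩
        refine ⟨inv_mem hs, ?_⟩
        have := inv_mem hs2
        rwa [mul_inv_rev] at this }
  have h1 : WW V F ≤ K := by
    refine V_le fun x hx f hf => ⟨conjE_le_W hx hf, ?_⟩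
    obtain ⟨e, he, rfl⟩ := mem_conj'.1 hf
    have e1 : x * e * x⁻¹ * (x * e * x⁻¹) = 1 := by
      have := h.sq' he.1
      calc x * e * x⁻¹ * (x * e * x⁻¹) = x * (e * e) * x⁻¹ := by group
        _ = 1 := by rw [this]; group
    rw [e1]
    exact one_mem _
  exact (h1 hs).2

/-! ### commutator rules on `V × W` -/

theorem c_memE {w s : G} (hw : w ∈ V) (hs : s ∈ WW V F) : c w s ∈ EE V F := h.comm_VW hw hs

theorem c_memV {w s : G} (hw : w ∈ V) (hs : s ∈ WW V F) : c w s ∈ V := (h.comm_VW hw hs).1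

theorem c_mul_left {w w' s : G} (hw : w ∈ V) (hw' : w' ∈ V) (hs : s ∈ WW V F) :
    c (w * w') s = c w s * c w' s := by
  have h1 : w * c w' s = c w' s * w := h.V_comm hw (h.c_memV hw' hs)
  have e : c (w * w') s = w * c w' s * (s * w⁻¹ * s⁻¹) := by rw [c, c]; group
  rw [e, h1]
  have e2 : c w' s * w * (s * w⁻¹ * s⁻¹) = c w' s * c w s := by rw [c, c]; group
  rw [e2]
  exact h.V_comm (h.c_memV hw' hs) (h.c_memV hw hs)

/-- `[w, s t] = [w, s] [w, t] [w, t, s]` -/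
theorem c_mul_right [Finite G] {w s t : G} (hw : w ∈ V) (hs : s ∈ WW V F) (ht : t ∈ WW V F) :
    c w (s * t) = c w s * c w t * c (c w t) s := by
  have e : c w (s * t) = c w s * (s * c w t * s⁻¹) := by rw [c, c, c]; group
  have hF := h.comm_EW (h.c_memE hw ht) hs
  have e1 : s * c w t * s⁻¹ = (c (c w t) s)⁻¹ * c w t := by
    rw [c_def (c w t)]; group
  have h1 : (c (c w t) s)⁻¹ = c (c w t) s := h.inv (h.F_le_V hF)
  rw [e, e1, h1, h.V_comm (h.F_le_V hF) (h.c_memV hw ht), mul_assoc]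

/-- additivity modulo `F` -/
theorem c_mul_mem [Finite G] {w s t : G} (hw : w ∈ V) (hs : s ∈ WW V F) (ht : t ∈ WW V F) :
    c w (s * t) * (c w s * c w t)⁻¹ ∈ F := by
  rw [h.c_mul_right hw hs ht]
  have hF := h.comm_EW (h.c_memE hw ht) hs
  have h1 : c w s * c w t * c (c w t) s = c (c w t) s * (c w s * c w t) :=
    h.V_comm (mul_mem (h.c_memV hw hs) (h.c_memV hw ht)) (h.F_le_V hF)
  rw [h1, mul_inv_cancel_right]
  exact hF

omit h in
/-- elements of `F` commute with `W` -/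
theorem c_F {f s : G} (hf : f ∈ F) (hs : s ∈ WW V F) : c f s = 1 := by
  rw [c, F_comm hf (W_le_X hs), mul_inv_cancel_right, mul_inv_cancel]

/-- `[w, s]` commutes with `s`. -/
theorem c_comm [Finite G] {w s : G} (hw : w ∈ V) (hs : s ∈ WW V F) : c w s * s = s * c w s := by
  have h1 := h.sq_W hs
  have h2 : s * s * w = w * (s * s) := F_comm h1 (h.V_le_X hw)
  have h3 : s * c w s * s⁻¹ = (c w s)⁻¹ := by
    have e1 : w⁻¹ = w := h.inv hw
    calc s * c w s * s⁻¹ = s * w * s⁻¹ * (s * s * w⁻¹) * s⁻¹ * s⁻¹ := by rw [c]; group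
      _ = s * w * s⁻¹ * (w * (s * s)) * s⁻¹ * s⁻¹ := by rw [e1, h2]
      _ = s * w * s⁻¹ * w := by group
      _ = s * w * s⁻¹ * w⁻¹ := by rw [e1]
      _ = (c w s)⁻¹ := by rw [c]; group
  rw [h.inv (h.c_memV hw hs)] at h3
  calc c w s * s = s * c w s * s⁻¹ * s := by rw [h3]
    _ = s * c w s := by group

/-! ### (4), (5) -/

/-- **The frame** at `w ∈ V - E`. -/
theorem exists_near [Finite G] {w : G} (hw : w ∈ V) (hwE : w ∉ EE V F) :
    ∃ x ∈ centralizer (F : Set G), BadX V x ∧ Near V (EE V F) F (MulAut.conj x • EE V F) w ∧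
      Near (MulAut.conj x • V) (MulAut.conj x • EE V F) F (EE V F) (x * w * x⁻¹) := by
  have hwR : w ∉ o2 (centralizer (F : Set G)) := fun h1 => hwE ⟨hw, h1⟩
  obtain ⟨x, hx, hfin, hb, -⟩ := NearFF.exists_near h.char2 h.V_le_X h.comm h.sq h.R_norm_V hw hwR
  have hbad : BadX V x := fun h1 => hb (h1.to_le (sup_le_sup (NearFF.V1_le hw)
    (conj_le_iff.2 (NearFF.V1_le hw))))
  have hD : (EE V F) ⊓ MulAut.conj x • (EE V F) = F := by
    apply le_antisymm
    · rw [← h.inf_eq_of_bad hx hbad]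
      exact inf_le_inf inf_le_left (conjE_le_conjV x)
    · refine le_inf h.F_le_E ?_
      have := conj_le_iff (g := x) |>.2 h.F_le_E
      rwa [conj_eq_of_cent hx] at this
  refine ⟨x, hx, hbad, ?_, ?_⟩
  · have := hfin.near
    rwa [hD] at this
  · have := hfin.near'
    rwa [hD] at this

/-- **(4)** `[w, W] F = E` for `w ∈ V - E`. -/
theorem surj [Finite G] {w e : G} (hw : w ∈ V) (hwE : w ∉ EE V F) (he : e ∈ EE V F) :
    ∃ s ∈ WW V F, c w s * e⁻¹ ∈ F := by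
  obtain ⟨x, hx, -, hn, -⟩ := h.exists_near hw hwE
  obtain ⟨f, hf, hc⟩ := hn.surj he
  exact ⟨f, conjE_le_W hx hf, hc⟩

/-- **(5)** `w ∈ V - E`, `s ∈ W`, `[w, s] ∈ F` ⟹ `[E, s] = 1`. -/
theorem comm_of_mem [Finite G] {w s : G} (hw : w ∈ V) (hwE : w ∉ EE V F) (hs : s ∈ WW V F)
    (hc : c w s ∈ F) {e : G} (he : e ∈ EE V F) : e * s = s * e := by
  obtain ⟨t, ht, hte⟩ := h.surj hw hwE he
  -- `e` commutes with every `t'` with `[w, t'] ∈ F e`
  have key : ∀ t' ∈ WW V F, c w t' * e⁻¹ ∈ F → e * t' = t' * e := by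
    intro t' ht' h1
    have h2 := h.c_comm hw ht'
    have h3 : (c w t' * e⁻¹) * t' = t' * (c w t' * e⁻¹) := F_comm h1 (W_le_X ht')
    have h4 : e = (c w t' * e⁻¹)⁻¹ * c w t' := by group
    have h5 : (c w t' * e⁻¹)⁻¹ * t' = t' * (c w t' * e⁻¹)⁻¹ := by
      calc (c w t' * e⁻¹)⁻¹ * t' = (c w t' * e⁻¹)⁻¹ * (t' * (c w t' * e⁻¹)) * (c w t' * e⁻¹)⁻¹ := by
            group
        _ = (c w t' * e⁻¹)⁻¹ * ((c w t' * e⁻¹) * t') * (c w t' * e⁻¹)⁻¹ := by rw [h3]
        _ = t' * (c w t' * e⁻¹)⁻¹ := by group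
    calc e * t' = (c w t' * e⁻¹)⁻¹ * (c w t' * t') := by rw [← mul_assoc, ← h4]
      _ = (c w t' * e⁻¹)⁻¹ * t' * c w t' := by rw [h2]; group
      _ = t' * ((c w t' * e⁻¹)⁻¹ * c w t') := by rw [h5]; group
      _ = t' * e := by rw [← h4]
  have k1 := key t ht hte
  have k2 := key (t * s) (mul_mem ht hs) (by
    have e1 : c w (t * s) = c w t * c w s := by
      have e2 : c w (t * s) = c w t * (t * c w s * t⁻¹) := by rw [c, c, c]; group
      rw [e2, ← F_comm hc (W_le_X ht), mul_inv_cancel_right]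
    rw [e1, h.V_comm (h.c_memV hw ht) (h.c_memV hw hs), mul_assoc]
    exact mul_mem hc hte)
  have e3 : s = t⁻¹ * (t * s) := by group
  have e4 : e * t⁻¹ = t⁻¹ * e := by
    calc e * t⁻¹ = t⁻¹ * (t * e) * t⁻¹ := by group
      _ = t⁻¹ * (e * t) * t⁻¹ := by rw [k1]
      _ = t⁻¹ * e := by group
  calc e * s = e * t⁻¹ * (t * s) := by group
    _ = t⁻¹ * (e * (t * s)) := by rw [e4]; group
    _ = t⁻¹ * (t * s * e) := by rw [k2]
    _ = s * e := by group

end Hyp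

end Cfsg.Agent.Omega.NOne.Flat

end

section


/-!
# THEOREM FLAT (text B4 #15506), part 2: (6), (7)

* `Hyp.cent_EW` (6): `C_E(W) = F`; `Hyp.cent_VW`: `C_V(W) = F`;
* `NN V F = W ∩ C(E)`; `Hyp.mem_NN`: `N = {s ∈ W | [V, s] ≤ F}`; `Hyp.c_mem_F_iff`: for `w ∈ V - E`, `s ∈ W`:
  `[w, s] ∈ F ↔ s ∈ N`; `Hyp.relIndex_NN`: `|W : N| = |E : F|`.
-/

set_option autoImplicit false

namespace Cfsg.Agent.Omega.NOne.Flat

open Subgroup Cfsg Cfsg.Agent.Omega.NoFF.Basic Cfsg.Agent.Omega.NOne.Frame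
open Cfsg.Agent.Omega.NOne.NearFF (Near c c_def)
open Cfsg.Agent.ZN (o2)
open Cfsg.Agent.MinSimple.VModule
open scoped Pointwise

universe u

variable {G : Type u} [Group G]

/-! ### counting cosets -/

/-- `φ` maps `A` to `B` and induces an injection `A / N → B / D`. -/
structure Cos (φ : G → G) (A N B D : Subgroup G) : Prop where
  mem : ∀ a ∈ A, φ a ∈ B
  iff : ∀ a ∈ A, ∀ b ∈ A, (φ a)⁻¹ * φ b ∈ D ↔ a⁻¹ * b ∈ N

namespace Cos

variable {φ : G → G} {A N B D : Subgroup G} (h : Cos φ A N B D)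
include h

theorem exists_inj : ∃ ψ : A ⧸ N.subgroupOf A → B ⧸ D.subgroupOf B, Function.Injective ψ ∧
    ∀ a : A, ψ (Quotient.mk'' a) = Quotient.mk'' (⟨φ a, h.mem a a.2⟩ : B) := by
  refine ⟨Quotient.map' (fun a : A => (⟨φ a, h.mem a a.2⟩ : B)) ?_, ?_, fun a => rfl⟩
  · intro a b hab
    rw [QuotientGroup.leftRel_apply] at hab ⊢
    exact (h.iff a a.2 b b.2).2 hab
  · intro x y
    refine Quotient.inductionOn₂' x y fun a b hab => ?_
    have h1 : Quotient.mk'' (⟨φ a, h.mem a a.2⟩ : B) =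
      (Quotient.mk'' (⟨φ b, h.mem b b.2⟩ : B) : B ⧸ D.subgroupOf B) := hab
    rw [Quotient.eq'', QuotientGroup.leftRel_apply] at h1
    rw [Quotient.eq'', QuotientGroup.leftRel_apply]
    exact (h.iff a a.2 b b.2).1 h1

theorem le [Finite G] : N.relIndex A ≤ D.relIndex B := by
  obtain ⟨ψ, hψ, -⟩ := h.exists_inj
  exact Nat.card_le_card_of_injective ψ hψ

theorem surj [Finite G] (hle : D.relIndex B ≤ N.relIndex A) {b : G} (hb : b ∈ B) :
    ∃ a ∈ A, (φ a)⁻¹ * b ∈ D := by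
  obtain ⟨ψ, hψ, h2⟩ := h.exists_inj
  have hs : Function.Surjective ψ := (hψ.bijective_of_nat_card_le hle).2
  obtain ⟨x, hx⟩ := hs (Quotient.mk'' ⟨b, hb⟩)
  revert hx
  refine Quotient.inductionOn' x fun a ha => ⟨a, a.2, ?_⟩
  rw [h2, Quotient.eq'', QuotientGroup.leftRel_apply] at ha
  exact ha

theorem eq_of_surj [Finite G] (hs : ∀ b ∈ B, ∃ a ∈ A, (φ a)⁻¹ * b ∈ D) : N.relIndex A = D.relIndex B := by
  obtain ⟨ψ, hψ, h2⟩ := h.exists_inj
  refine Nat.card_eq_of_bijective ψ ⟨hψ, ?_⟩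
  intro y
  refine Quotient.inductionOn' y fun b => ?_
  obtain ⟨a, ha, hab⟩ := hs b b.2
  refine ⟨Quotient.mk'' ⟨a, ha⟩, ?_⟩
  rw [h2, Quotient.eq'', QuotientGroup.leftRel_apply]
  exact hab

end Cos

/-- a character of a finite commutative subgroup, trivial on a subgroup -/
theorem exists_char {T D : Subgroup G} [Finite T] (hc : ∀ a ∈ T, ∀ b ∈ T, a * b = b * a) {t : G}
    (ht : t ∈ T) (h1 : t ∉ D) : ∃ ξ : T →* ℂˣ, (∀ d (hd : d ∈ T), d ∈ D → ξ ⟨d, hd⟩ = 1) ∧ ξ ⟨t, ht⟩ ≠ 1 := by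
  let _ : CommGroup T :=
    { (inferInstance : Group T) with
      mul_comm := fun x y => Subtype.ext (hc x x.2 y y.2) }
  have : NeZero (Monoid.exponent (T ⧸ D.subgroupOf T)) := ⟨Monoid.exponent_ne_zero_of_finite⟩
  obtain ⟨χ, hχ⟩ := CommGroup.exists_apply_ne_one_of_hasEnoughRootsOfUnity (T ⧸ D.subgroupOf T) ℂ
    (a := (QuotientGroup.mk ⟨t, ht⟩ : T ⧸ D.subgroupOf T)) (by
      rw [Ne, QuotientGroup.eq_one_iff, mem_subgroupOf]
      exact h1)
  refine ⟨χ.comp (QuotientGroup.mk' _), fun d hd hdD => ?_, hχ⟩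
  have : (QuotientGroup.mk' (D.subgroupOf T)) ⟨d, hd⟩ = 1 := by
    rw [QuotientGroup.mk'_apply, QuotientGroup.eq_one_iff, mem_subgroupOf]
    exact hdD
  rw [MonoidHom.comp_apply, this, map_one]

theorem card_mul_relIndex' {A B : Subgroup G} (hAB : A ≤ B) : Nat.card A * A.relIndex B = Nat.card B := by
  rw [← relIndex_bot_left, ← relIndex_bot_left, relIndex_mul_relIndex _ _ _ bot_le hAB]

/-- `N = C_W(E)` -/
abbrev NN (V F : Subgroup G) : Subgroup G := WW V F ⊓ centralizer (EE V F : Set G)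

namespace Hyp

variable {V F : Subgroup G} (h : Hyp V F)
include h

/-- (ii) with indices -/
theorem noff' [Finite G] {A : Subgroup G} (h1 : A ≤ normalizer (V : Set G)) (h2 : A ≤ centralizer (A : Set G))
    (h3 : ∀ a ∈ A, a ^ 2 = 1) (h4 : ¬ A ≤ centralizer (V : Set G)) :
    (centralizer (V : Set G)).relIndex A < (centralizer (A : Set G)).relIndex V := by
  have k := h.noff A h1 h2 h3 h4
  have e1 := card_mul_relIndex' (inf_le_left : V ⊓ centralizer (A : Set G) ≤ V)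
  have e2 := card_mul_relIndex' (inf_le_left : A ⊓ centralizer (V : Set G) ≤ A)
  rw [inf_relIndex_left] at e1 e2
  rw [← e1, ← e2] at k
  have hp1 : 0 < Nat.card ↥(V ⊓ centralizer (A : Set G)) := Nat.card_pos
  have hp2 : 0 < Nat.card ↥(A ⊓ centralizer (V : Set G)) := Nat.card_pos
  by_contra hlt
  have h5 := Nat.not_lt.1 hlt
  refine Nat.not_le.2 k ?_
  calc Nat.card ↥(V ⊓ centralizer (A : Set G)) * (centralizer (A : Set G)).relIndex V *
        Nat.card ↥(A ⊓ centralizer (V : Set G))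
      ≤ Nat.card ↥(V ⊓ centralizer (A : Set G)) * (centralizer (V : Set G)).relIndex A *
        Nat.card ↥(A ⊓ centralizer (V : Set G)) :=
        Nat.mul_le_mul_right _ (Nat.mul_le_mul_left _ h5)
    _ = _ := by ring

theorem exists_not_mem : ∃ w ∈ V, w ∉ EE V F := by
  obtain ⟨w, hw, hwR⟩ := SetLike.not_le_iff_exists.1 h.bad.not_le
  exact ⟨w, hw, fun h1 => hwR h1.2⟩

omit h in
theorem c_one_right (w : G) : c w 1 = 1 := by rw [c]; group

/-- `[w, s⁻¹] [w, s] ∈ F` -/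
theorem c_inv_mem [Finite G] {w s : G} (hw : w ∈ V) (hs : s ∈ WW V F) : c w s⁻¹ * c w s ∈ F := by
  have h1 := h.c_mul_mem hw (inv_mem hs) hs
  rw [inv_mul_cancel, c_one_right, one_mul] at h1
  have := inv_mem h1
  rwa [inv_inv] at this

/-- `w ↦ [w, ·]` modulo `F` -/
theorem c_iff [Finite G] {w a b : G} (hw : w ∈ V) (ha : a ∈ WW V F) (hb : b ∈ WW V F) :
    (c w a)⁻¹ * c w b ∈ F ↔ c w (a⁻¹ * b) ∈ F := by
  have h1 := h.c_mul_mem hw (inv_mem ha) hb
  have h2 := h.c_inv_mem hw ha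
  have hA := h.c_memV hw (inv_mem ha)
  have hB := h.c_memV hw hb
  have hC := h.c_memV hw ha
  have e1 : c w a⁻¹ * c w b = (c w a⁻¹ * c w a) * ((c w a)⁻¹ * c w b) := by group
  have h3 : c w a⁻¹ * c w b ∈ F ↔ (c w a)⁻¹ * c w b ∈ F := by
    rw [e1]
    exact mul_mem_cancel_left h2
  rw [← h3]
  constructor
  · intro h4
    have := mul_mem h1 h4
    rwa [inv_mul_cancel_right] at this
  · intro h4
    have h5 := mul_mem (inv_mem h1) h4
    have e : (c w (a⁻¹ * b) * (c w a⁻¹ * c w b)⁻¹)⁻¹ * c w (a⁻¹ * b) = c w a⁻¹ * c w b := by group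
    rwa [e] at h5

/-- **(6)** `C_E(W) = F`. -/
theorem cent_EW [Finite G] : EE V F ⊓ centralizer (WW V F : Set G) = F := by
  by_contra hne
  set X : Subgroup G := centralizer (F : Set G) with hX
  set Ez : Subgroup G := EE V F ⊓ centralizer (WW V F : Set G) with hEz
  have hFE : F ≤ Ez := le_inf h.F_le_E (comm_symm W_le_X)
  have hlt : F < Ez := lt_of_le_of_ne hFE (Ne.symm hne)
  have hEzV : Ez ≤ V := inf_le_left.trans inf_le_left
  set ZE : Subgroup G := NoFF.Basic.V Ez X with hZE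
  have hconj : ∀ x ∈ X, MulAut.conj x • Ez ≤ WW V F ⊓ centralizer (WW V F : Set G) := by
    intro x hx
    refine le_inf ?_ ?_
    · exact (conj_le_iff.2 inf_le_left).trans (conjE_le_W hx)
    · have h1 : MulAut.conj x • Ez ≤ MulAut.conj x • centralizer (WW V F : Set G) :=
        conj_le_iff.2 inf_le_right
      rwa [conj_centralizer, conj_W hx] at h1
  have hZW : ZE ≤ WW V F ⊓ centralizer (WW V F : Set G) := V_le hconj
  have hZW1 : ZE ≤ WW V F := hZW.trans inf_le_left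
  have hZW2 : ZE ≤ centralizer (WW V F : Set G) := hZW.trans inf_le_right
  have hEzZ : Ez ≤ ZE := by
    have := Z_le_V (Z := Ez) (P := X) (p := 1) (one_mem _)
    rwa [map_one, one_smul] at this
  have hconjZ : ∀ x ∈ X, MulAut.conj x • Ez ≤ ZE := fun x hx => Z_le_V hx
  have hVZ : V ⊓ ZE ≤ Ez := by
    intro v hv
    obtain ⟨hv1, hv2⟩ := mem_inf.1 hv
    exact mem_inf.2 ⟨mem_inf.2 ⟨hv1, W_le_R (hZW1 hv2)⟩, hZW2 hv2⟩
  have hZab : ZE ≤ centralizer (ZE : Set G) := comm_mono hZW2 le_rfl hZW1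
  have hZsq : ∀ s ∈ ZE, s ^ 2 = 1 := by
    let K : Subgroup G :=
      { carrier := {s | s ∈ ZE ∧ s ^ 2 = 1}
        one_mem' := ⟨one_mem _, one_pow _⟩
        mul_mem' := by
          rintro a b ⟨ha, ha2⟩ ⟨hb, hb2⟩
          refine ⟨mul_mem ha hb, ?_⟩
          have h1 : a * b = b * a := comm_of_le_centralizer hZab ha hb
          rw [(Commute.mul_pow h1 2 : (a * b) ^ 2 = a ^ 2 * b ^ 2), ha2, hb2, one_mul]
        inv_mem' := by
          rintro a ⟨ha, ha2⟩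
          exact ⟨inv_mem ha, by rw [inv_pow, ha2, inv_one]⟩ }
    have hK : ZE ≤ K := by
      refine V_le fun x hx s hs => ⟨hconjZ x hx hs, ?_⟩
      obtain ⟨e, he, rfl⟩ := mem_conj'.1 hs
      rw [conj_pow, h.sq e (hEzV he), mul_one, mul_inv_cancel]
    exact fun s hs => (hK hs).2
  have hXZ : X ≤ normalizer (ZE : Set G) := by
    intro x hx
    have hself : ∀ y ∈ X, MulAut.conj y • ZE = ZE := by
      intro y hy
      have := conj_V_mul (Z := Ez) (P := X) (g := 1) hy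
      rwa [one_mul, map_one, one_smul] at this
    rw [mem_normalizer_iff]
    intro s
    constructor
    · intro hs
      have := Frame.conj_mem (g := x) hs
      rwa [hself x hx] at this
    · intro hs
      have := Frame.conj_mem (g := x⁻¹) hs
      rw [hself _ (inv_mem hx)] at this
      have e : x⁻¹ * (x * s * x⁻¹) * x⁻¹⁻¹ = s := by group
      rwa [e] at this
  have hcomm : ∀ v ∈ V, ∀ s ∈ ZE, v * s * v⁻¹ * s⁻¹ ∈ Ez := by
    intro v hv s hs
    refine hVZ (mem_inf.2 ⟨h.c_memV hv (hZW1 hs), ?_⟩)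
    exact mul_mem (norm_mem (hXZ (h.V_le_X hv)) hs) (inv_mem hs)
  have pr : BTwo.Pairing V ZE Ez :=
    { comm := hcomm
      cA := fun a ha t ht => h.V_comm ha (hEzV ht)
      cW := fun s hs t ht => comm_of_le_centralizer hZab hs (hEzZ ht) }
  -- the frame gives: `[w, Ez^x]` covers `Ez / F`
  have hcos : ∀ w ∈ V, w ∉ EE V F → ∃ x ∈ X,
      (∀ f ∈ MulAut.conj x • Ez, c w f ∈ F → f ∈ F) ∧ Cos (c w) (MulAut.conj x • Ez) F Ez F := by
    intro w hw hwE
    obtain ⟨x, hx, -, hn, -⟩ := h.exists_near hw hwE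
    have hle : MulAut.conj x • Ez ≤ MulAut.conj x • EE V F := conj_le_iff.2 inf_le_left
    refine ⟨x, hx, fun f hf hc => hn.inj f (hle hf) hc,
      ⟨fun a ha => hcomm w hw a (hconjZ x hx ha), fun a ha b hb => ?_⟩⟩
    rw [h.c_iff hw (hZW1 (hconjZ x hx ha)) (hZW1 (hconjZ x hx hb))]
    refine ⟨fun hc => hn.inj _ (hle (mul_mem (inv_mem ha) hb)) hc, fun hc => ?_⟩
    have h1 : w * (a⁻¹ * b) = a⁻¹ * b * w := (F_comm hc (h.V_le_X hw)).symm
    rw [c, h1, mul_inv_cancel_right, mul_inv_cancel]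
    exact one_mem _
  have hFx : ∀ x ∈ X, F ≤ MulAut.conj x • Ez := by
    intro x hx
    have := conj_le_iff (g := x) |>.2 hFE
    rwa [conj_eq_of_cent hx] at this
  have hnotle : ∀ x ∈ X, ¬ MulAut.conj x • Ez ≤ F := by
    intro x hx h1
    have h2 : Ez ≤ MulAut.conj x⁻¹ • F := by
      have := conj_le_iff (g := x⁻¹) |>.2 h1
      rwa [conj_conj, inv_mul_cancel, map_one, one_smul] at this
    rw [conj_eq_of_cent (inv_mem hx)] at h2
    exact absurd h2 (not_le_of_gt hlt)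
  -- `C_V(ZE) = E`
  have hCV : V ⊓ centralizer (ZE : Set G) = EE V F := by
    apply le_antisymm
    · intro w hw
      obtain ⟨hw1, hw2⟩ := mem_inf.1 hw
      by_contra hwE
      obtain ⟨x, hx, hi, -⟩ := hcos w hw1 hwE
      refine hnotle x hx fun f hf => hi f hf ?_
      have h1 := mem_centralizer_iff.1 hw2 f (hconjZ x hx hf)
      rw [c, ← h1, mul_inv_cancel_right, mul_inv_cancel]
      exact one_mem _
    · refine le_inf inf_le_left ?_
      exact comm_symm (comm_mono hZW2 le_rfl E_le_W)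
  have hnc : ¬ ZE ≤ centralizer (V : Set G) := by
    intro h1
    obtain ⟨w, hw, hwE⟩ := h.exists_not_mem
    have h2 : w ∈ V ⊓ centralizer (ZE : Set G) := mem_inf.2 ⟨hw, comm_symm h1 hw⟩
    rw [hCV] at h2
    exact hwE h2
  have k1 := h.noff' (hZW1.trans h.W_norm_V) hZab hZsq hnc
  rw [← inf_relIndex_left V, hCV] at k1
  -- the character
  obtain ⟨t, ht, htF⟩ := SetLike.not_le_iff_exists.1 (not_le_of_gt hlt)
  obtain ⟨ξ, hξF, hξt⟩ := exists_char (T := Ez) (D := F) (fun a ha b hb => h.V_comm (hEzV ha) (hEzV hb))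
    ht htF
  have k2 : (EE V F).relIndex V ≤ (centralizer (V : Set G)).relIndex ZE := by
    refine pr.relIndex_le ξ ?_ ?_ ?_
    · intro a ha b hb
      rw [comm_of_le_centralizer hZab ha hb, mul_inv_cancel_right, mul_inv_cancel]
      exact one_mem _
    · intro a ha n hn hnV
      have h1 : a * n * a⁻¹ * n⁻¹ = 1 := by
        rw [mem_centralizer_iff.1 hnV a ha, mul_inv_cancel_right, mul_inv_cancel]
      have h2 : (⟨a * n * a⁻¹ * n⁻¹, pr.comm a ha n hn⟩ : Ez) = 1 := Subtype.ext h1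
      rw [h2, map_one]
    · intro w hw hw1
      by_contra hwE
      obtain ⟨x, hx, -, hc⟩ := hcos w hw hwE
      have hcard : F.relIndex Ez ≤ F.relIndex (MulAut.conj x • Ez) := by
        have e1 := card_mul_relIndex' hFE
        have e2 := card_mul_relIndex' (hFx x hx)
        rw [Choice.card_conj, ← e1] at e2
        exact (Nat.eq_of_mul_eq_mul_left Nat.card_pos e2).ge
      obtain ⟨f, hf, hft⟩ := hc.surj hcard ht
      have h2 := hw1 f (hconjZ x hx hf)
      have h3 := hξF _ (mul_mem (inv_mem (hcomm w hw f (hconjZ x hx hf))) ht) hft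
      apply hξt
      have e : (⟨t, ht⟩ : Ez) = ⟨w * f * w⁻¹ * f⁻¹, hcomm w hw f (hconjZ x hx hf)⟩ *
          ⟨(w * f * w⁻¹ * f⁻¹)⁻¹ * t, mul_mem (inv_mem (hcomm w hw f (hconjZ x hx hf))) ht⟩ :=
        Subtype.ext (by push_cast; group)
      rw [e, map_mul, h2, one_mul]
      exact h3
  exact absurd k2 (Nat.not_le.2 k1)

/-- **(6)** `C_V(W) = F`. -/
theorem cent_VW [Finite G] : V ⊓ centralizer (WW V F : Set G) = F := by
  apply le_antisymm
  · intro v hv
    obtain ⟨hv1, hv2⟩ := mem_inf.1 hv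
    rw [← h.cent_EW]
    refine mem_inf.2 ⟨?_, hv2⟩
    by_contra hvE
    refine absurd ?_ (not_le_of_gt h.F_lt_E)
    intro e he
    obtain ⟨s, hs, hse⟩ := h.surj hv1 hvE he
    have h1 : c v s = 1 := by
      rw [c, ← mem_centralizer_iff.1 hv2 s hs, mul_inv_cancel_right, mul_inv_cancel]
    rw [h1, one_mul] at hse
    have := inv_mem hse
    rwa [inv_inv] at this
  · exact le_inf h.F_le_V (comm_symm W_le_X)

/-! ### the form `β_w (s, t) = [w, s, t]` -/

/-- factors in `F` do not matter -/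
theorem c_F_mul {w u f : G} (hw : w ∈ V) (hu : u ∈ WW V F) (hf : f ∈ F) : c w (f * u) = c w u := by
  have h1 : f * w = w * f := F_comm hf (h.V_le_X hw)
  have h2 : f * c w u = c w u * f := F_comm hf (h.V_le_X (h.c_memV hw hu))
  calc c w (f * u) = w * f * u * w⁻¹ * u⁻¹ * f⁻¹ := by rw [c]; group
    _ = f * (w * u * w⁻¹ * u⁻¹) * f⁻¹ := by rw [← h1]; group
    _ = c w u * f * f⁻¹ := by rw [← c, h2]
    _ = c w u := by rw [mul_inv_cancel_right]

/-- `β` is symmetric. -/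
theorem beta_comm [Finite G] {w s t : G} (hw : w ∈ V) (hs : s ∈ WW V F) (ht : t ∈ WW V F) :
    c (c w s) t = c (c w t) s := by
  have h1 := h.c_mul_right hw hs ht
  have h2 := h.c_mul_right hw ht hs
  have h3 : c w (s * t) = c w (t * s) := by
    have e : s * t = c s t * (t * s) := by rw [c]; group
    rw [e, h.c_F_mul hw (mul_mem ht hs) (h.comm_WW hs ht)]
  rw [h1, h2, h.V_comm (h.c_memV hw hs) (h.c_memV hw ht)] at h3
  exact (mul_left_cancel h3).symm

/-- `β` is alternating. -/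
theorem beta_self [Finite G] {w s : G} (hw : w ∈ V) (hs : s ∈ WW V F) : c (c w s) s = 1 := by
  rw [c_def, h.c_comm hw hs, mul_inv_cancel_right, mul_inv_cancel]

theorem beta_memF [Finite G] {w s t : G} (hw : w ∈ V) (hs : s ∈ WW V F) (ht : t ∈ WW V F) :
    c (c w s) t ∈ F := h.comm_EW (h.c_memE hw hs) ht

/-- `[e, s t] = [e, s] [e, t]` for `e ∈ E` -/
theorem c_mul_right' [Finite G] {e s t : G} (he : e ∈ EE V F) (hs : s ∈ WW V F) (ht : t ∈ WW V F) :
    c e (s * t) = c e s * c e t := by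
  rw [h.c_mul_right he.1 hs ht, c_F (h.comm_EW he ht) hs, mul_one]

/-- `β_w (s s', t) = β_w (s, t) β_w (s', t)` -/
theorem beta_mul_left [Finite G] {w s s' t : G} (hw : w ∈ V) (hs : s ∈ WW V F) (hs' : s' ∈ WW V F)
    (ht : t ∈ WW V F) : c (c w (s * s')) t = c (c w s) t * c (c w s') t := by
  have hf : c (c w s') s ∈ F := h.beta_memF hw hs' hs
  rw [h.c_mul_right hw hs hs',
    h.c_mul_left (mul_mem (h.c_memV hw hs) (h.c_memV hw hs')) (h.F_le_V hf) ht, c_F hf ht, mul_one,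
    h.c_mul_left (h.c_memV hw hs) (h.c_memV hw hs') ht]

/-- `β_w (s, t t') = β_w (s, t) β_w (s, t')` -/
theorem beta_mul_right [Finite G] {w s t t' : G} (hw : w ∈ V) (hs : s ∈ WW V F) (ht : t ∈ WW V F)
    (ht' : t' ∈ WW V F) : c (c w s) (t * t') = c (c w s) t * c (c w s) t' :=
  h.c_mul_right' (h.c_memE hw hs) ht ht'

/-- `β_{w w'} = β_w β_{w'}` -/
theorem beta_mul [Finite G] {w w' s t : G} (hw : w ∈ V) (hw' : w' ∈ V) (hs : s ∈ WW V F)
    (ht : t ∈ WW V F) : c (c (w * w') s) t = c (c w s) t * c (c w' s) t := by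
  rw [h.c_mul_left hw hw' hs, h.c_mul_left (h.c_memV hw hs) (h.c_memV hw' hs) ht]

/-! ### (7) -/

omit h in
theorem NN_le_W : NN V F ≤ WW V F := inf_le_left

theorem E_le_NN : EE V F ≤ NN V F := le_inf E_le_W (comm_mono h.comm inf_le_left inf_le_left)

theorem F_le_NN : F ≤ NN V F := h.F_le_E.trans h.E_le_NN

/-- `s ∈ N ⟹ [w, s] ∈ F` for every `w ∈ V` -/
theorem c_mem_F [Finite G] {w s : G} (hw : w ∈ V) (hs : s ∈ NN V F) : c w s ∈ F := by
  rw [← h.cent_EW]
  refine mem_inf.2 ⟨h.c_memE hw hs.1, ?_⟩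
  rw [mem_centralizer_iff]
  intro t ht
  have h1 := h.beta_comm hw hs.1 ht
  have h2 : c (c w t) s = 1 := by
    rw [c_def, mem_centralizer_iff.1 hs.2 _ (h.c_memE hw ht), mul_inv_cancel_right, mul_inv_cancel]
  rw [h2] at h1
  calc t * c w s = (c (c w s) t)⁻¹ * (c w s * t) := by rw [c_def (c w s)]; group
    _ = c w s * t := by rw [h1, inv_one, one_mul]

/-- **(7)** for every `w ∈ V - E`: `[w, s] ∈ F ↔ s ∈ N`. -/
theorem c_mem_F_iff [Finite G] {w s : G} (hw : w ∈ V) (hwE : w ∉ EE V F) (hs : s ∈ WW V F) :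
    c w s ∈ F ↔ s ∈ NN V F := by
  refine ⟨fun h1 => mem_inf.2 ⟨hs, ?_⟩, fun h1 => h.c_mem_F hw h1⟩
  rw [mem_centralizer_iff]
  exact fun e he => h.comm_of_mem hw hwE hs h1 he

/-- **(7)** `N = {s ∈ W | [V, s] ≤ F}` -/
theorem mem_NN [Finite G] {s : G} : s ∈ NN V F ↔ s ∈ WW V F ∧ ∀ v ∈ V, c v s ∈ F := by
  refine ⟨fun h1 => ⟨h1.1, fun v hv => h.c_mem_F hv h1⟩, fun h1 => ?_⟩
  obtain ⟨w, hw, hwE⟩ := h.exists_not_mem
  exact (h.c_mem_F_iff hw hwE h1.1).1 (h1.2 w hw)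

theorem cos_NN [Finite G] {w : G} (hw : w ∈ V) (hwE : w ∉ EE V F) :
    Cos (c w) (WW V F) (NN V F) (EE V F) F where
  mem := fun _ hs => h.c_memE hw hs
  iff := fun a ha b hb => by
    rw [h.c_iff hw ha hb, h.c_mem_F_iff hw hwE (mul_mem (inv_mem ha) hb)]

/-- **(7)** `|W : N| = |E : F|` -/
theorem relIndex_NN [Finite G] : (NN V F).relIndex (WW V F) = F.relIndex (EE V F) := by
  obtain ⟨w, hw, hwE⟩ := h.exists_not_mem
  refine (h.cos_NN hw hwE).eq_of_surj fun e he => ?_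
  obtain ⟨s, hs, hse⟩ := h.surj hw hwE he
  refine ⟨s, hs, ?_⟩
  rw [h.inv (h.c_memV hw hs), ← h.inv he.1]
  exact hse

theorem W_norm_NN [Finite G] : WW V F ≤ normalizer (NN V F : Set G) := by
  refine le_normalizer_of_comm fun t ht s hs => ?_
  exact h.F_le_NN (h.comm_WW ht hs.1)

end Hyp

end Cfsg.Agent.Omega.NOne.Flat

end

section


/-!
# THEOREM FLAT (text B4 #15506), part 3: (8)

`x ∈ X = C_G(F)` bad, `N = W ∩ C(E)`:
* `Hyp.conjE_inf_NN`: `E^x ∩ N = F`; `Hyp.E_inf_conjNN`: `E ∩ N^x = F`;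
* `Hyp.exists_decomp`, `Hyp.indep`: `W / F = E / F + E^x / F + (N ∩ N^x) / F`;
* `Hyp.reg`: every `w ∈ V - E` is regular on `E E^x / F`;
* `Hyp.inf_o2_sup`: `V ∩ O₂(⟨V, V^x⟩) = E`;
* `Hyp.of_not_bad`: for `x ∈ X` not bad `E^x ∩ N > F` or `E ∩ N^x > F`.
-/

set_option autoImplicit false

namespace Cfsg.Agent.Omega.NOne.Flat

open Subgroup Cfsg Cfsg.Agent.Omega.NoFF.Basic Cfsg.Agent.Omega.NOne.Frame
open Cfsg.Agent.Omega.NOne.NearFF (Near c c_def)
open Cfsg.Agent.ZN (o2)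
open Cfsg.Agent.MinSimple.VModule
open scoped Pointwise

universe u

variable {G : Type u} [Group G]

theorem isPGroup_sup_of_le [Finite G] {A B C : Subgroup G} (hA : IsPGroup 2 A) (hC : IsPGroup 2 C)
    (hB : B ≤ C) (hn : A ≤ normalizer (C : Set G)) : IsPGroup 2 (A ⊔ B : Subgroup G) :=
  (IsPGroup.to_sup_of_normal_right' hA hC hn).to_le (sup_le_sup_left hB _)

theorem normalizer_le_normalizer_centralizer (D : Subgroup G) :
    normalizer (D : Set G) ≤ normalizer (centralizer (D : Set G) : Set G) := by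
  have key : ∀ a ∈ normalizer (D : Set G), ∀ z ∈ centralizer (D : Set G),
      a * z * a⁻¹ ∈ centralizer (D : Set G) := by
    intro a ha z hz
    rw [mem_centralizer_iff]
    intro d hd
    have h1 : a⁻¹ * d * a ∈ D := norm_mem' ha hd
    have h2 := mem_centralizer_iff.1 hz _ h1
    calc d * (a * z * a⁻¹) = a * ((a⁻¹ * d * a) * z) * a⁻¹ := by group
      _ = a * (z * (a⁻¹ * d * a)) * a⁻¹ := by rw [h2]
      _ = a * z * a⁻¹ * d := by group
  intro a ha
  rw [mem_normalizer_iff]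
  intro z
  refine ⟨key a ha z, fun h => ?_⟩
  have := key a⁻¹ (inv_mem ha) _ h
  have e : a⁻¹ * (a * z * a⁻¹) * a⁻¹⁻¹ = z := by group
  rwa [e] at this

theorem normalizer_le_normalizer_o2 (H : Subgroup G) :
    normalizer (H : Set G) ≤ normalizer (o2 H : Set G) := by
  have hself : ∀ a ∈ normalizer (H : Set G), MulAut.conj a • H = H := by
    intro a ha
    ext z
    rw [mem_conj]
    constructor
    · intro hz
      have := norm_mem ha hz
      have e : a * (a⁻¹ * z * a) * a⁻¹ = z := by group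
      rwa [e] at this
    · exact fun hz => norm_mem' ha hz
  intro a ha
  rw [mem_normalizer_iff]
  intro z
  constructor
  · intro hz
    have := Frame.conj_mem (g := a) hz
    rwa [o2_conj, hself a ha] at this
  · intro hz
    have := Frame.conj_mem (g := a⁻¹) hz
    rw [o2_conj, hself _ (inv_mem ha)] at this
    have e : a⁻¹ * (a * z * a⁻¹) * a⁻¹⁻¹ = z := by group
    rwa [e] at this

theorem badX_inv {V : Subgroup G} {x : G} (hb : BadX V x) : BadX V x⁻¹ := by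
  intro h1
  apply hb
  have h2 := Choice.isPGroup_conj h1 x
  rw [Subgroup.smul_sup, conj_conj, mul_inv_cancel, map_one, one_smul, sup_comm] at h2
  exact h2

namespace Hyp

variable {V F : Subgroup G} (h : Hyp V F)
include h

/-- `V` and `V^x` are contained in a 2-group if some `s ∈ E^x ∩ N` is not in `F`. -/
theorem not_bad_of_mem [Finite G] {x : G} (hx : x ∈ centralizer (F : Set G)) {s : G}
    (hs : s ∈ MulAut.conj x • EE V F) (hsN : s ∈ NN V F) (hsF : s ∉ F) : ¬ BadX V x := by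
  intro hb
  set D : Subgroup G := F ⊔ zpowers s with hD
  have hsD : s ∈ D := mem_sup_right (mem_zpowers s)
  have hFD : F < D := lt_of_le_of_ne le_sup_left fun h1 => hsF (h1 ▸ hsD)
  have hDV : D ≤ MulAut.conj x • V :=
    sup_le (h.F_le_conj hx) (zpowers_le.2 (conjE_le_conjV x hs))
  have hDN : D ≤ NN V F := sup_le h.F_le_NN (zpowers_le.2 hsN)
  have hVD : V ≤ normalizer (D : Set G) := by
    refine le_normalizer_of_comm fun v hv d hd => ?_
    exact hFD.le (h.c_mem_F hv (hDN hd))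
  have h1 := h.le_o2_of_lt' hx hFD hDV
  refine hb (isPGroup_sup_of_le h.V_isPGroup (ZN.isPGroup_o2 _) h1 ?_)
  exact hVD.trans ((normalizer_le_normalizer_centralizer D).trans (normalizer_le_normalizer_o2 _))

omit h in
theorem F_le_conjE (h : Hyp V F) {x : G} (hx : x ∈ centralizer (F : Set G)) : F ≤ MulAut.conj x • EE V F := by
  have := conj_le_iff (g := x) |>.2 h.F_le_E
  rwa [conj_eq_of_cent hx] at this

/-- **(8)** `E^x ∩ N = F` for bad `x`. -/
theorem conjE_inf_NN [Finite G] {x : G} (hx : x ∈ centralizer (F : Set G)) (hb : BadX V x) :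
    MulAut.conj x • EE V F ⊓ NN V F = F := by
  apply le_antisymm
  · intro s hs
    by_contra hsF
    exact h.not_bad_of_mem hx (mem_inf.1 hs).1 (mem_inf.1 hs).2 hsF hb
  · exact le_inf (h.F_le_conjE hx) h.F_le_NN

/-- **(8)** `E ∩ N^x = F` for bad `x`. -/
theorem E_inf_conjNN [Finite G] {x : G} (hx : x ∈ centralizer (F : Set G)) (hb : BadX V x) :
    EE V F ⊓ MulAut.conj x • NN V F = F := by
  have h1 := h.conjE_inf_NN (inv_mem hx) (badX_inv hb)
  have h2 := congrArg (fun A : Subgroup G => MulAut.conj x • A) h1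
  simp only [Subgroup.smul_inf (MulAut.conj x) (MulAut.conj x⁻¹ • EE V F) (NN V F), conj_conj,
    mul_inv_cancel, map_one, one_smul, conj_eq_of_cent hx] at h2
  exact h2

omit h in
theorem conj_NN {x : G} (hx : x ∈ centralizer (F : Set G)) :
    MulAut.conj x • NN V F = WW V F ⊓ centralizer ((MulAut.conj x • EE V F : Subgroup G) : Set G) := by
  rw [NN, Subgroup.smul_inf, conj_W hx, conj_centralizer]

theorem conjE_le_conjNN {x : G} (_hx : x ∈ centralizer (F : Set G)) :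
    MulAut.conj x • EE V F ≤ MulAut.conj x • NN V F := conj_le_iff.2 h.E_le_NN

/-- `N^x = {s ∈ W | [V^x, s] ≤ F}` -/
theorem mem_conjNN [Finite G] {x : G} (hx : x ∈ centralizer (F : Set G)) {s : G} :
    s ∈ MulAut.conj x • NN V F ↔ s ∈ WW V F ∧ ∀ v ∈ MulAut.conj x • V, c v s ∈ F := by
  rw [mem_conj, h.mem_NN]
  have hW : x⁻¹ * s * x ∈ WW V F ↔ s ∈ WW V F := by
    constructor
    · intro h1
      have := conj_mem_W hx h1
      have e : x * (x⁻¹ * s * x) * x⁻¹ = s := by group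
      rwa [e] at this
    · intro h1
      have := conj_mem_W (inv_mem hx) h1
      rwa [inv_inv] at this
  rw [hW]
  refine and_congr_right fun _ => ⟨fun h1 v hv => ?_, fun h1 v hv => ?_⟩
  · rw [mem_conj] at hv
    have h2 := norm_mem (X_norm_F hx) (h1 _ hv)
    have e : x * c (x⁻¹ * v * x) (x⁻¹ * s * x) * x⁻¹ = c v s := by rw [c, c]; group
    rwa [e] at h2
  · have h2 := h1 _ (Frame.conj_mem (g := x) hv)
    have h3 := norm_mem' (X_norm_F hx) h2
    have e : x⁻¹ * c (x * v * x⁻¹) s * x = c v (x⁻¹ * s * x) := by rw [c, c]; group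
    rwa [e] at h3

/-- **(8)** `W = E^x N` for bad `x` -/
theorem exists_conjE_mul [Finite G] {x : G} (hx : x ∈ centralizer (F : Set G)) (hb : BadX V x) {s : G}
    (hs : s ∈ WW V F) : ∃ f ∈ MulAut.conj x • EE V F, f⁻¹ * s ∈ NN V F := by
  have hc : Cos id (MulAut.conj x • EE V F) F (WW V F) (NN V F) :=
    { mem := fun a ha => conjE_le_W hx ha
      iff := fun a ha b hb' => by
        refine ⟨fun h1 => ?_, fun h1 => h.F_le_NN h1⟩
        rw [← h.conjE_inf_NN hx hb]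
        exact mem_inf.2 ⟨mul_mem (inv_mem ha) hb', h1⟩ }
  refine hc.surj ?_ hs
  rw [h.relIndex_NN]
  have e1 := card_mul_relIndex' h.F_le_E
  have e2 := card_mul_relIndex' (h.F_le_conjE hx)
  rw [Choice.card_conj, ← e1] at e2
  exact (Nat.eq_of_mul_eq_mul_left Nat.card_pos e2).ge

/-- **(8)** `W = E N^x` for bad `x` -/
theorem exists_E_mul [Finite G] {x : G} (hx : x ∈ centralizer (F : Set G)) (hb : BadX V x) {s : G}
    (hs : s ∈ WW V F) : ∃ e ∈ EE V F, e⁻¹ * s ∈ MulAut.conj x • NN V F := by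
  have hs' : x⁻¹ * s * x ∈ WW V F := by
    have := conj_mem_W (inv_mem hx) hs
    rwa [inv_inv] at this
  obtain ⟨f, hf, hfn⟩ := h.exists_conjE_mul (inv_mem hx) (badX_inv hb) hs'
  rw [mem_conj, inv_inv] at hf
  refine ⟨x * f * x⁻¹, hf, ?_⟩
  rw [mem_conj]
  have e : x⁻¹ * ((x * f * x⁻¹)⁻¹ * s) * x = f⁻¹ * (x⁻¹ * s * x) := by group
  rwa [e]

/-- **(8)** `W = E^x E (N ∩ N^x)` for bad `x` -/
theorem exists_decomp [Finite G] {x : G} (hx : x ∈ centralizer (F : Set G)) (hb : BadX V x) {s : G}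
    (hs : s ∈ WW V F) : ∃ f ∈ MulAut.conj x • EE V F, ∃ e ∈ EE V F, ∃ n ∈ NN V F ⊓ MulAut.conj x • NN V F,
      s = f * e * n := by
  obtain ⟨f, hf, hn⟩ := h.exists_conjE_mul hx hb hs
  obtain ⟨e, he, hn'⟩ := h.exists_E_mul hx hb hn.1
  refine ⟨f, hf, e, he, e⁻¹ * (f⁻¹ * s), mem_inf.2 ⟨?_, hn'⟩, by group⟩
  exact mul_mem (inv_mem (h.E_le_NN he)) hn

/-- **(8)** the sum is direct modulo `F` -/
theorem indep [Finite G] {x : G} (hx : x ∈ centralizer (F : Set G)) (hb : BadX V x) {f e n : G}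
    (hf : f ∈ MulAut.conj x • EE V F) (he : e ∈ EE V F) (hn : n ∈ NN V F ⊓ MulAut.conj x • NN V F)
    (hF : f * e * n ∈ F) : f ∈ F ∧ e ∈ F ∧ n ∈ F := by
  obtain ⟨hn1, hn2⟩ := mem_inf.1 hn
  have h1 : f ∈ F := by
    rw [← h.conjE_inf_NN hx hb]
    refine mem_inf.2 ⟨hf, ?_⟩
    have e1 : f = (f * e * n) * (e * n)⁻¹ := by group
    rw [e1]
    exact mul_mem (h.F_le_NN hF) (inv_mem (mul_mem (h.E_le_NN he) hn1))
  have h2 : e * n ∈ F := by
    have := mul_mem (inv_mem h1) hF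
    have e1 : f⁻¹ * (f * e * n) = e * n := by group
    rwa [e1] at this
  have h3 : e ∈ F := by
    rw [← h.E_inf_conjNN hx hb]
    refine mem_inf.2 ⟨he, ?_⟩
    have e1 : e = (e * n) * n⁻¹ := by group
    rw [e1]
    exact mul_mem (h.conjE_le_conjNN hx (h.F_le_conjE hx h2)) (inv_mem hn2)
  exact ⟨h1, h3, (mul_mem_cancel_left h3).1 h2⟩

/-- **(8)** every `w ∈ V - E` is regular on `E E^x / F`: `C(w) = E / F`. -/
theorem reg [Finite G] {x w e f : G} (hx : x ∈ centralizer (F : Set G)) (hb : BadX V x) (hw : w ∈ V)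
    (hwE : w ∉ EE V F) (he : e ∈ EE V F) (hf : f ∈ MulAut.conj x • EE V F) (hc : c w (e * f) ∈ F) :
    f ∈ F := by
  have h1 := (h.c_mem_F_iff hw hwE (mul_mem (E_le_W he) (conjE_le_W hx hf))).1 hc
  rw [← h.conjE_inf_NN hx hb]
  exact mem_inf.2 ⟨hf, (mul_mem_cancel_left (h.E_le_NN he)).1 h1⟩

/-- `[V^x, W] ≤ E^x` -/
theorem comm_conjVW {x v s : G} (hx : x ∈ centralizer (F : Set G)) (hv : v ∈ MulAut.conj x • V)
    (hs : s ∈ WW V F) : c v s ∈ MulAut.conj x • EE V F := by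
  rw [mem_conj] at hv ⊢
  have hs' : x⁻¹ * s * x ∈ WW V F := by
    have := conj_mem_W (inv_mem hx) hs
    rwa [inv_inv] at this
  have h1 := h.comm_VW hv hs'
  have e : x⁻¹ * c v s * x = c (x⁻¹ * v * x) (x⁻¹ * s * x) := by rw [c, c]; group
  rwa [e]

theorem conjV_le_X {x : G} (hx : x ∈ centralizer (F : Set G)) :
    MulAut.conj x • V ≤ centralizer (F : Set G) := Choice.conj_le_of_mem h.V_le_X hx

omit h in
theorem EEx_le_W {x : G} (hx : x ∈ centralizer (F : Set G)) :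
    EE V F ⊔ MulAut.conj x • EE V F ≤ WW V F := sup_le E_le_W (conjE_le_W hx)

/-- `⟨V, V^x⟩` normalises `E E^x`. -/
theorem sup_norm_EEx {x : G} (hx : x ∈ centralizer (F : Set G)) :
    V ⊔ MulAut.conj x • V ≤ normalizer ((EE V F ⊔ MulAut.conj x • EE V F : Subgroup G) : Set G) := by
  refine sup_le ?_ ?_
  · refine le_normalizer_of_comm fun v hv s hs => mem_sup_left ?_
    exact h.comm_VW hv (EEx_le_W hx hs)
  · refine le_normalizer_of_comm fun v hv s hs => mem_sup_right ?_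
    exact h.comm_conjVW hx hv (EEx_le_W hx hs)

omit h in
theorem W_isPGroup [Finite G] : IsPGroup 2 (WW V F) := (ZN.isPGroup_o2 _).to_le W_le_R

/-- `E E^x` as a product -/
theorem mem_EEx [Finite G] {x s : G} (hx : x ∈ centralizer (F : Set G))
    (hs : s ∈ EE V F ⊔ MulAut.conj x • EE V F) :
    ∃ e ∈ EE V F, ∃ f ∈ MulAut.conj x • EE V F, s = e * f := by
  have hn : MulAut.conj x • EE V F ≤ normalizer (EE V F : Set G) := by
    refine le_normalizer_of_comm fun f hf e he => ?_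
    have h1 := inv_mem (h.F_le_E (h.comm_EE hx he hf))
    have e1 : (c e f)⁻¹ = f * e * f⁻¹ * e⁻¹ := by rw [c]; group
    rwa [e1] at h1
  have h3 : s ∈ ((EE V F ⊔ MulAut.conj x • EE V F : Subgroup G) : Set G) := hs
  rw [Subgroup.coe_mul_of_right_le_normalizer_left _ _ hn] at h3
  obtain ⟨e, he, f, hf, rfl⟩ := h3
  exact ⟨e, he, f, hf, rfl⟩

/-- a fixed point of a 2-subgroup `P ≤ ⟨V, V^x⟩` on `E E^x / F` -/
theorem exists_fix [Finite G] {x : G} (hx : x ∈ centralizer (F : Set G)) {P : Subgroup G}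
    (hP : IsPGroup 2 P) (hPL : P ≤ V ⊔ MulAut.conj x • V) :
    ∃ e ∈ EE V F, ∃ f ∈ MulAut.conj x • EE V F, e * f ∉ F ∧ ∀ y ∈ P, c y (e * f) ∈ F := by
  have : Fact (Nat.Prime 2) := ⟨Nat.prime_two⟩
  set M : Subgroup G := EE V F ⊔ MulAut.conj x • EE V F with hM
  have hMn : P ≤ normalizer (M : Set G) := hPL.trans (h.sup_norm_EEx hx)
  have hMX : M ≤ centralizer (F : Set G) := (EEx_le_W hx).trans W_le_X
  have hLX : V ⊔ MulAut.conj x • V ≤ centralizer (F : Set G) := sup_le h.V_le_X (h.conjV_le_X hx)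
  have hM2 : IsPGroup 2 M := W_isPGroup.to_le (EEx_le_W hx)
  have hY : IsPGroup 2 (P ⊔ M : Subgroup G) := IsPGroup.to_sup_of_normal_right' hP hM2 hMn
  have hYn : P ⊔ M ≤ normalizer (M : Set G) := sup_le hMn le_normalizer
  have hYX : P ⊔ M ≤ centralizer (F : Set G) := sup_le (hPL.trans hLX) hMX
  obtain ⟨e0, he0, he0F⟩ := SetLike.not_le_iff_exists.1 (not_le_of_gt h.F_lt_E)
  obtain ⟨n, hn, hnF, hfix⟩ := GTwoFour.Tools.exists_fixed_mod (M := F) hY le_sup_right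
    (fun y hy n hn => norm_mem (hYn hy) hn)
    (fun y hy m hm => norm_mem (X_norm_F (hYX hy)) hm) ⟨e0, mem_sup_left he0, he0F⟩
  obtain ⟨e, he, f, hf, rfl⟩ := h.mem_EEx hx hn
  exact ⟨e, he, f, hf, hnF, fun y hy => hfix y (mem_sup_left hy)⟩

end Hyp

end Cfsg.Agent.Omega.NOne.Flat

end

section


/-!
# THEOREM FLAT (text B4 #15506), part 4: (9)

`s ∈ W - N`:
* `Hyp.mem_E_of_c`: `w ↦ [w, s] F` is injective on `V / E`;
* `Hyp.relIndex_mul_le`: `|V : E| |E : C_E(s)| ≤ |E : F|`; `Hyp.relIndex_cent`: `|V : C_V(s)| = |V : E| |E : C_E(s)|`;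
  `Hyp.relIndex_lt`: `|V : E| < |E : F|`;
* `Hyp.selfadj`: `θ_a⁻¹ θ_b` is self-adjoint;
* `Hyp.NN_le_cent`: `N ≤ C(V)` if `V ≤ E O²(⟨V, V^x⟩)` for a bad `x`.
-/

set_option autoImplicit false

namespace Cfsg.Agent.Omega.NOne.Flat

open Subgroup Cfsg Cfsg.Agent.Omega.NoFF.Basic Cfsg.Agent.Omega.NOne.Frame
open Cfsg.Agent.Omega.NOne.NearFF (Near c c_def)
open Cfsg.Agent.ZN (o2)
open Cfsg.Agent.MinSimple.VModule
open scoped Pointwise

universe u

variable {G : Type u} [Group G]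

namespace Hyp

variable {V F : Subgroup G} (h : Hyp V F)
include h

/-- **(9)** `w ↦ [w, s] F` is injective on `V / E` for `s ∈ W - N`. -/
theorem mem_E_of_c [Finite G] {w s : G} (hw : w ∈ V) (hs : s ∈ WW V F) (hsN : s ∉ NN V F)
    (hc : c w s ∈ F) : w ∈ EE V F := by
  by_contra hwE
  exact hsN ((h.c_mem_F_iff hw hwE hs).1 hc)

theorem c_inv_left {a s : G} (ha : a ∈ V) (hs : s ∈ WW V F) : c a⁻¹ s = (c a s)⁻¹ := by
  rw [h.inv ha, h.inv (h.c_memV ha hs)]

theorem cos_V [Finite G] {s : G} (hs : s ∈ WW V F) (hsN : s ∉ NN V F) :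
    Cos (fun w => c w s) V (EE V F) (EE V F ⊓ centralizer {s}) F where
  mem := fun w hw => mem_inf.2 ⟨h.c_memE hw hs, by
    rw [mem_centralizer_singleton_iff]; exact h.c_comm hw hs⟩
  iff := fun a ha b hb => by
    rw [← h.c_inv_left ha hs, ← h.c_mul_left (inv_mem ha) hb hs]
    exact ⟨fun h1 => h.mem_E_of_c (mul_mem (inv_mem ha) hb) hs hsN h1, fun h1 => h.comm_EW h1 hs⟩

omit h in
theorem F_le_cent {s : G} (hs : s ∈ WW V F) : F ≤ centralizer {s} := by
  intro f hf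
  rw [mem_centralizer_singleton_iff]
  exact F_comm hf (W_le_X hs)

/-- **(9)** `|V : E| |E : C_E(s)| ≤ |E : F|` for `s ∈ W - N` -/
theorem relIndex_mul_le [Finite G] {s : G} (hs : s ∈ WW V F) (hsN : s ∉ NN V F) :
    (EE V F).relIndex V * (centralizer {s}).relIndex (EE V F) ≤ F.relIndex (EE V F) := by
  have h1 := (h.cos_V hs hsN).le
  have h2 := relIndex_mul_relIndex F (EE V F ⊓ centralizer {s}) (EE V F)
    (le_inf h.F_le_E (F_le_cent hs)) inf_le_left
  rw [inf_relIndex_left] at h2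
  rw [← h2]
  exact Nat.mul_le_mul_right _ h1

/-- `C_V(s) ≤ E` for `s ∈ W - N` -/
theorem cent_le_E [Finite G] {s : G} (hs : s ∈ WW V F) (hsN : s ∉ NN V F) :
    V ⊓ centralizer {s} = EE V F ⊓ centralizer {s} := by
  apply le_antisymm
  · intro w hw
    obtain ⟨hw1, hw2⟩ := mem_inf.1 hw
    refine mem_inf.2 ⟨h.mem_E_of_c hw1 hs hsN ?_, hw2⟩
    rw [c, mem_centralizer_singleton_iff.1 hw2, mul_inv_cancel_right, mul_inv_cancel]
    exact one_mem _
  · exact inf_le_inf_right _ inf_le_left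

/-- **(9)** `|V : C_V(s)| = |V : E| |E : C_E(s)|` -/
theorem relIndex_cent [Finite G] {s : G} (hs : s ∈ WW V F) (hsN : s ∉ NN V F) :
    (centralizer {s}).relIndex V = (EE V F).relIndex V * (centralizer {s}).relIndex (EE V F) := by
  have h1 := relIndex_mul_relIndex (EE V F ⊓ centralizer {s}) (EE V F) V inf_le_left inf_le_left
  rw [inf_relIndex_left] at h1
  rw [← inf_relIndex_left V (centralizer {s}), h.cent_le_E hs hsN, ← h1, mul_comm]

/-- **(9)** `|V : C_V(s)| ≤ |E : F|` -/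
theorem relIndex_cent_le [Finite G] {s : G} (hs : s ∈ WW V F) (hsN : s ∉ NN V F) :
    (centralizer {s}).relIndex V ≤ F.relIndex (EE V F) := by
  rw [h.relIndex_cent hs hsN]
  exact h.relIndex_mul_le hs hsN

theorem exists_not_mem_NN [Finite G] : ∃ s ∈ WW V F, s ∉ NN V F := by
  by_contra hall
  push Not at hall
  have h1 : (NN V F).relIndex (WW V F) = 1 := relIndex_eq_one.2 hall
  rw [h.relIndex_NN, relIndex_eq_one] at h1
  exact absurd h1 (not_le_of_gt h.F_lt_E)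

omit h in
theorem two_le_relIndex [Finite G] {s : G} (hs : s ∈ WW V F) (hsN : s ∉ NN V F) :
    2 ≤ (centralizer {s}).relIndex (EE V F) := by
  have h0 : (centralizer {s}).relIndex (EE V F) ≠ 0 := index_ne_zero_of_finite
  have h1 : (centralizer {s}).relIndex (EE V F) ≠ 1 := by
    rw [Ne, relIndex_eq_one]
    intro hle
    apply hsN
    refine mem_inf.2 ⟨hs, ?_⟩
    rw [mem_centralizer_iff]
    exact fun e he => mem_centralizer_singleton_iff.1 (hle he)
  omega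

/-- **(9)** `|V : E| < |E : F|` -/
theorem relIndex_lt [Finite G] : (EE V F).relIndex V < F.relIndex (EE V F) := by
  obtain ⟨s, hs, hsN⟩ := h.exists_not_mem_NN
  have h1 := h.relIndex_mul_le hs hsN
  have h2 := two_le_relIndex hs hsN
  have h3 : (EE V F).relIndex V ≠ 0 := index_ne_zero_of_finite
  nlinarith [Nat.pos_of_ne_zero h3]

/-! ### the maps `θ_a : W / N → E / F`, `s ↦ [a, s] F` -/

/-- the form `[e, t]` on `E / F × W / N` -/
theorem c_congr_left [Finite G] {e e' t : G} (he : e ∈ V) (he' : e' ∈ V) (ht : t ∈ WW V F)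
    (hee : e⁻¹ * e' ∈ F) : c e t = c e' t := by
  have h1 : e' = e * (e⁻¹ * e') := by group
  rw [h1, h.c_mul_left he (mul_mem (inv_mem he) he') ht, c_F hee ht, mul_one]

theorem c_congr_right [Finite G] {e t t' : G} (he : e ∈ EE V F) (ht : t ∈ WW V F) (ht' : t' ∈ WW V F)
    (htt : t⁻¹ * t' ∈ NN V F) : c e t = c e t' := by
  have h1 : t' = t * (t⁻¹ * t') := by group
  have h2 : c e (t⁻¹ * t') = 1 := by
    rw [c, mem_centralizer_iff.1 (mem_inf.1 htt).2 e he, mul_inv_cancel_right, mul_inv_cancel]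
  rw [h1, h.c_mul_right' he ht (mul_mem (inv_mem ht) ht'), h2, mul_one]

/-- **(9)** `θ_a⁻¹ θ_b` is self-adjoint with respect to `β_a`. -/
theorem selfadj [Finite G] {a b s s' t t' : G} (ha : a ∈ V) (hb : b ∈ V) (hs : s ∈ WW V F)
    (hs' : s' ∈ WW V F) (ht : t ∈ WW V F) (ht' : t' ∈ WW V F) (h1 : (c a t)⁻¹ * c b s ∈ F)
    (h2 : (c a t')⁻¹ * c b s' ∈ F) : c (c a t) s' = c (c a s) t' := by
  rw [h.c_congr_left (h.c_memV ha ht) (h.c_memV hb hs) hs' h1, h.beta_comm hb hs hs',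
    ← h.c_congr_left (h.c_memV ha ht') (h.c_memV hb hs') hs h2, h.beta_comm ha ht' hs]

/-! ### `N` on `V` -/

omit h in
/-- `[E, N] = 1` -/
theorem c_E_NN {e n : G} (he : e ∈ EE V F) (hn : n ∈ NN V F) : c e n = 1 := by
  rw [c, mem_centralizer_iff.1 hn.2 e he, mul_inv_cancel_right, mul_inv_cancel]

/-- `l ↦ [l, n]` is a homomorphism `⟨V, V^x⟩ → F` for `n ∈ N ∩ N^x`. -/
theorem exists_hom [Finite G] {x n : G} (hx : x ∈ centralizer (F : Set G)) (hn : n ∈ NN V F)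
    (hn' : n ∈ MulAut.conj x • NN V F) :
    ∃ ψ : ↥(V ⊔ MulAut.conj x • V) →* F, ∀ l : ↥(V ⊔ MulAut.conj x • V), ((ψ l : F) : G) = c (l : G) n := by
  have hnX : n ∈ centralizer (F : Set G) := W_le_X hn.1
  let K : Subgroup G :=
    { carrier := {l | l ∈ centralizer (F : Set G) ∧ c l n ∈ F}
      one_mem' := ⟨one_mem _, by
        have : c 1 n = 1 := by rw [c]; group
        rw [this]; exact one_mem _⟩
      mul_mem' := by
        rintro a b ⟨ha, ha2⟩ ⟨hb, hb2⟩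
        refine ⟨mul_mem ha hb, ?_⟩
        have e : c (a * b) n = a * c b n * a⁻¹ * c a n := by rw [c, c, c]; group
        rw [e]
        exact mul_mem (norm_mem (X_norm_F ha) hb2) ha2
      inv_mem' := by
        rintro a ⟨ha, ha2⟩
        refine ⟨inv_mem ha, ?_⟩
        have h1 := norm_mem' (X_norm_F ha) (inv_mem ha2)
        have e : a⁻¹ * (c a n)⁻¹ * a = c a⁻¹ n := by rw [c, c]; group
        rwa [e] at h1 }
  have hL : V ⊔ MulAut.conj x • V ≤ K := by
    refine sup_le (fun v hv => ⟨h.V_le_X hv, h.c_mem_F hv hn⟩) fun v hv => ⟨h.conjV_le_X hx hv, ?_⟩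
    exact ((h.mem_conjNN hx).1 hn').2 v hv
  refine ⟨MonoidHom.mk' (fun l => ⟨c (l : G) n, (hL l.2).2⟩) ?_, fun l => rfl⟩
  intro a b
  apply Subtype.ext
  have ha := hL a.2
  have hb := hL b.2
  have h1 : c (b : G) n * a = a * c (b : G) n := F_comm hb.2 ha.1
  have h2 : c (b : G) n * c (a : G) n = c (a : G) n * c (b : G) n :=
    h.V_comm (h.F_le_V hb.2) (h.F_le_V ha.2)
  change c ((a : G) * b) n = c (a : G) n * c (b : G) n
  calc c ((a : G) * b) n = a * c (b : G) n * (a : G)⁻¹ * c (a : G) n := by rw [c, c, c]; group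
    _ = c (b : G) n * c (a : G) n := by rw [← h1]; group
    _ = c (a : G) n * c (b : G) n := h2

/-- elements of `N ∩ N^x` commute with the elements of odd order of `⟨V, V^x⟩`. -/
theorem comm_odd [Finite G] {x n g : G} (hx : x ∈ centralizer (F : Set G)) (hn : n ∈ NN V F)
    (hn' : n ∈ MulAut.conj x • NN V F) (hg : g ∈ V ⊔ MulAut.conj x • V) (hodd : Odd (orderOf g)) :
    g * n = n * g := by
  obtain ⟨ψ, hψ⟩ := h.exists_hom hx hn hn'
  have h1 : ψ ⟨g, hg⟩ ^ orderOf g = 1 := by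
    rw [← map_pow]
    have : (⟨g, hg⟩ : ↥(V ⊔ MulAut.conj x • V)) ^ orderOf g = 1 := Subtype.ext (by
      rw [SubgroupClass.coe_pow]
      exact pow_orderOf_eq_one g)
    rw [this, map_one]
  have h2 : ψ ⟨g, hg⟩ ^ 2 = 1 := Subtype.ext (by
    rw [SubgroupClass.coe_pow]
    exact h.sq _ (h.F_le_V (ψ ⟨g, hg⟩).2))
  have h3 : ψ ⟨g, hg⟩ = 1 := by
    obtain ⟨k, hk⟩ := hodd
    rw [hk, pow_add, pow_mul, h2, one_pow, one_mul, pow_one] at h1
    exact h1
  have h4 : c g n = 1 := by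
    rw [← hψ ⟨g, hg⟩, h3]; rfl
  calc g * n = c g n * (n * g) := by rw [c]; group
    _ = n * g := by rw [h4, one_mul]

/-- **(9)** `N = C_W(V)` if `V ≤ E O²(⟨V, V^x⟩)` for a bad `x ∈ X`. -/
theorem NN_le_cent [Finite G] {x : G} (hx : x ∈ centralizer (F : Set G)) (hb : BadX V x)
    (hV : V ≤ EE V F ⊔ _root_.Subgroup.closure {g | g ∈ V ⊔ MulAut.conj x • V ∧ Odd (orderOf g)}) :
    NN V F ≤ centralizer (V : Set G) := by
  intro n hn
  obtain ⟨f, hf, e, he, n', hn', rfl⟩ := h.exists_decomp hx hb hn.1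
  obtain ⟨hn1, hn2⟩ := mem_inf.1 hn'
  have h1 : f ∈ F := by
    rw [← h.conjE_inf_NN hx hb]
    refine mem_inf.2 ⟨hf, ?_⟩
    have e1 : f = (f * e * n') * (e * n')⁻¹ := by group
    rw [e1]
    exact mul_mem hn (inv_mem (mul_mem (h.E_le_NN he) hn1))
  have h2 : V ≤ centralizer {n'} := by
    refine hV.trans (sup_le ?_ ((closure_le _).2 ?_))
    · intro e' he'
      rw [mem_centralizer_singleton_iff]
      exact mem_centralizer_iff.1 hn1.2 e' he'
    · rintro g ⟨hg, hodd⟩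
      rw [SetLike.mem_coe, mem_centralizer_singleton_iff]
      exact h.comm_odd hx hn1 hn2 hg hodd
  have h3 : n' ∈ centralizer (V : Set G) := by
    rw [mem_centralizer_iff]
    exact fun v hv => mem_centralizer_singleton_iff.1 (h2 hv)
  exact mul_mem (mul_mem (h.comm (h.F_le_V h1)) (h.comm he.1)) h3

end Hyp

end Cfsg.Agent.Omega.NOne.Flat

end

section


/-!
# The Pfaffian bound in the FLAT setting (#16135 (PF), helper820; referees #16489, #16524)

`Hyp V F`; `q = |V : E|`; `N = C_W(E)`; `|W : N| = |E : F|`.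

For `φ : F → ZMod 2` additive let `Sp V F φ = {s ∈ W | φ([E, s]) = 0}` (it contains `N`).

* `Hyp.pfaff` : `φ([E, W]) ≠ 0` implies `q ^ 2 ≤ |W : S_φ|`;
* `Hyp.sq_le` : `q ^ 2 ≤ |E : F|`;
* `Hyp.sp_eq` : `|E : F| = q ^ 2` implies `S_φ = N` for all these `φ`;
* `Hyp.exists_c_eq`, `Hyp.commutator_eq` : `|E : F| = q ^ 2` implies `[E, s] = [E, W]` for every `s ∈ W - N`;
* `Hyp.card_commutator_le` : `|E : F| = q ^ 2` implies `|[E, W]| ≤ q`.
-/

set_option autoImplicit false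

namespace Cfsg.Agent.Omega.NOne.Flat

open Subgroup Cfsg Cfsg.Agent.Omega.NoFF.Basic Cfsg.Agent.Omega.NOne.Frame
open Cfsg.Agent.Omega.NOne.NearFF (Near c c_def)
open Cfsg.Agent.ZN (o2)
open Cfsg.Agent.MinSimple.VModule
open scoped Pointwise commutatorElement

universe u

variable {G : Type u} [Group G]

/-- `φ` is additive on `F`. -/
structure Add2 (F : Subgroup G) (φ : G → ZMod 2) : Prop where
  mul : ∀ a ∈ F, ∀ b ∈ F, φ (a * b) = φ a + φ b

namespace Add2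

variable {F : Subgroup G} {φ : G → ZMod 2} (hφ : Add2 F φ)
include hφ

theorem one : φ 1 = 0 := by
  have h1 := hφ.mul 1 (one_mem _) 1 (one_mem _)
  rw [one_mul] at h1
  have h2 : ∀ x : ZMod 2, x = x + x → x = 0 := by decide
  exact h2 _ h1

theorem inv {a : G} (ha : a ∈ F) : φ a⁻¹ = φ a := by
  have h1 := hφ.mul a ha a⁻¹ (inv_mem ha)
  rw [mul_inv_cancel, hφ.one] at h1
  have h2 : ∀ x y : ZMod 2, 0 = x + y → y = x := by decide
  exact h2 _ _ h1

end Add2

/-- An elementary abelian 2-group is separated by its functionals. -/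
theorem exists_add2 {F D : Subgroup G} [Finite F] (hc : ∀ a ∈ F, ∀ b ∈ F, a * b = b * a)
    (hsq : ∀ a ∈ F, a * a = 1) {t : G} (ht : t ∈ F) (h1 : t ∉ D) :
    ∃ φ : G → ZMod 2, Add2 F φ ∧ (∀ d ∈ F, d ∈ D → φ d = 0) ∧ φ t ≠ 0 := by
  classical
  obtain ⟨ξ, hξ1, hξ2⟩ := exists_char (T := F) (D := D) hc ht h1
  have hval : ∀ a : F, ξ a = 1 ∨ ξ a = -1 := by
    intro a
    have h2 : a * a = 1 := Subtype.ext (hsq a a.2)
    have h3 : ξ a * ξ a = 1 := by rw [← map_mul, h2, map_one]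
    have h4 : ((ξ a : ℂˣ) : ℂ) * (ξ a : ℂˣ) = 1 := by
      rw [← Units.val_mul, h3, Units.val_one]
    rcases mul_self_eq_one_iff.1 h4 with h5 | h5
    · left; exact Units.ext (by rw [h5, Units.val_one])
    · right; exact Units.ext (by rw [h5, Units.val_neg, Units.val_one])
  have hne : (-1 : ℂˣ) ≠ 1 := by
    intro h2
    have h3 := congrArg (fun x : ℂˣ => (x : ℂ)) h2
    simp only [Units.val_neg, Units.val_one] at h3
    norm_num at h3
  let φ : G → ZMod 2 := fun x => if hx : x ∈ F then (if ξ ⟨x, hx⟩ = 1 then 0 else 1) else 0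
  have hφ : ∀ x (hx : x ∈ F), φ x = if ξ ⟨x, hx⟩ = 1 then 0 else 1 := fun x hx => by
    simp only [φ, dif_pos hx]
  refine ⟨φ, ⟨fun a ha b hb => ?_⟩, fun d hd hdD => ?_, ?_⟩
  · rw [hφ a ha, hφ b hb, hφ _ (mul_mem ha hb)]
    have e : (⟨a * b, mul_mem ha hb⟩ : F) = ⟨a, ha⟩ * ⟨b, hb⟩ := rfl
    rw [e, map_mul]
    rcases hval ⟨a, ha⟩ with h2 | h2 <;> rcases hval ⟨b, hb⟩ with h3 | h3 <;> rw [h2, h3]
    · simp
    · simp [hne]
    · simp [hne]
    · simp only [mul_neg, mul_one, neg_neg, if_true, if_neg hne]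
      decide
  · rw [hφ d hd, if_pos (hξ1 d hd hdD)]
  · rw [hφ t ht, if_neg hξ2]
    decide

section

variable {V F : Subgroup G}

/-- `S_φ = {s ∈ W | φ([E, s]) = 0}` -/
def Sp [Finite G] (h : Hyp V F) {φ : G → ZMod 2} (hφ : Add2 F φ) : Subgroup G where
  carrier := {s | s ∈ WW V F ∧ ∀ e ∈ EE V F, φ (c e s) = 0}
  one_mem' := ⟨one_mem _, fun e _ => by rw [Hyp.c_one_right]; exact hφ.one⟩
  mul_mem' := by
    rintro s t ⟨hs, hs2⟩ ⟨ht, ht2⟩
    refine ⟨mul_mem hs ht, fun e he => ?_⟩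
    rw [h.c_mul_right' he hs ht, hφ.mul _ (h.comm_EW he hs) _ (h.comm_EW he ht), hs2 e he, ht2 e he,
      add_zero]
  inv_mem' := by
    rintro s ⟨hs, hs2⟩
    refine ⟨inv_mem hs, fun e he => ?_⟩
    have h1 := h.c_mul_right' he (inv_mem hs) hs
    rw [inv_mul_cancel, Hyp.c_one_right] at h1
    have h2 := hφ.mul _ (h.comm_EW he (inv_mem hs)) _ (h.comm_EW he hs)
    rw [← h1, hφ.one, hs2 e he, add_zero] at h2
    exact h2.symm

theorem Sp_le_W [Finite G] (h : Hyp V F) {φ : G → ZMod 2} (hφ : Add2 F φ) : Sp h hφ ≤ WW V F :=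
  fun _ hs => hs.1

theorem NN_le_Sp [Finite G] (h : Hyp V F) {φ : G → ZMod 2} (hφ : Add2 F φ) : NN V F ≤ Sp h hφ := by
  intro s hs
  refine ⟨hs.1, fun e he => ?_⟩
  rw [Hyp.c_E_NN he hs, hφ.one]

namespace Hyp

variable [Finite G] (h : Hyp V F) {φ : G → ZMod 2} (hφ : Add2 F φ)
include h hφ

/-- the form `φ([v, s, t])` -/
theorem bf_congr_v {v v' s t : G} (hv : v ∈ V) (hv' : v' ∈ V) (hs : s ∈ WW V F) (ht : t ∈ WW V F)
    (hvv : v⁻¹ * v' ∈ EE V F) : φ (c (c v' s) t) = φ (c (c v s) t) := by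
  have e1 : v' = v * (v⁻¹ * v') := by group
  have h1 : c (c (v⁻¹ * v') s) t = 1 := c_F (h.comm_EW hvv hs) ht
  rw [e1, h.beta_mul hv hvv.1 hs ht, h1, mul_one]

theorem bf_congr_t {v s t t' : G} (hv : v ∈ V) (hs : s ∈ WW V F) (ht : t ∈ WW V F)
    (htt : t⁻¹ * t' ∈ Sp h hφ) : φ (c (c v s) t') = φ (c (c v s) t) := by
  have e1 : t' = t * (t⁻¹ * t') := by group
  have h1 : φ (c (c v s) (t⁻¹ * t')) = 0 := htt.2 _ (h.c_memE hv hs)
  rw [e1, h.beta_mul_right hv hs ht htt.1, hφ.mul _ (h.beta_memF hv hs ht) _ (h.beta_memF hv hs htt.1), h1,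
    add_zero]

theorem bf_congr_s {v s s' t : G} (hv : v ∈ V) (hs : s ∈ WW V F) (ht : t ∈ WW V F)
    (hss : s⁻¹ * s' ∈ Sp h hφ) : φ (c (c v s') t) = φ (c (c v s) t) := by
  have hs' : s' ∈ WW V F := by
    have := mul_mem hs hss.1
    rwa [mul_inv_cancel_left] at this
  rw [h.beta_comm hv hs' ht, h.beta_comm hv hs ht]
  exact h.bf_congr_t hφ hv ht hs hss

/-- **(PF)** the Pfaffian bound: `q² ≤ |W : S_φ|`. -/
theorem pfaff (hne : ∃ e ∈ EE V F, ∃ s ∈ WW V F, φ (c e s) ≠ 0) :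
    (EE V F).relIndex V ^ 2 ≤ (Sp h hφ).relIndex (WW V F) := by
  classical
  let iV : CommGroup V :=
    { (inferInstance : Group V) with
      mul_comm := fun x y => Subtype.ext (h.V_comm x.2 y.2) }
  let E' : Subgroup V := (EE V F).subgroupOf V
  let S' : Subgroup ↥(WW V F) := (Sp h hφ).subgroupOf (WW V F)
  have hcomS : ∀ s t : ↥(WW V F), s * t * s⁻¹ * t⁻¹ ∈ S' := by
    intro s t
    rw [mem_subgroupOf]
    exact NN_le_Sp h hφ (h.F_le_NN (h.comm_WW s.2 t.2))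
  have hSn : S'.Normal := by
    refine ⟨fun s hs g => ?_⟩
    have h1 : g * s * g⁻¹ = (g * s * g⁻¹ * s⁻¹) * s := by group
    rw [h1]
    exact mul_mem (hcomS g s) hs
  let iS : CommGroup (↥(WW V F) ⧸ S') :=
    { (inferInstance : Group (↥(WW V F) ⧸ S')) with
      mul_comm := by
        intro x y
        refine QuotientGroup.induction_on x fun s => QuotientGroup.induction_on y fun t => ?_
        rw [← QuotientGroup.mk_mul, ← QuotientGroup.mk_mul, QuotientGroup.eq]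
        have h1 : (s * t)⁻¹ * (t * s) = t⁻¹ * s⁻¹ * (t⁻¹)⁻¹ * (s⁻¹)⁻¹ := by group
        rw [h1]
        exact hcomS _ _ }
  -- the form
  let bb : V → ↥(WW V F) → ↥(WW V F) → ZMod 2 := fun v s t => φ (c (c (v : G) s) t)
  have cv : ∀ (v v' : V) (s t : ↥(WW V F)), (v : V ⧸ E') = v' → bb v' s t = bb v s t := by
    intro v v' s t hvv
    rw [QuotientGroup.eq, mem_subgroupOf] at hvv
    exact h.bf_congr_v hφ v.2 v'.2 s.2 t.2 hvv
  have cs : ∀ (v : V) (s s' t : ↥(WW V F)), (s : ↥(WW V F) ⧸ S') = s' → bb v s' t = bb v s t := by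
    intro v s s' t hss
    rw [QuotientGroup.eq, mem_subgroupOf] at hss
    exact h.bf_congr_s hφ v.2 s.2 t.2 hss
  have ct : ∀ (v : V) (s t t' : ↥(WW V F)), (t : ↥(WW V F) ⧸ S') = t' → bb v s t' = bb v s t := by
    intro v s t t' htt
    rw [QuotientGroup.eq, mem_subgroupOf] at htt
    exact h.bf_congr_t hφ v.2 s.2 t.2 htt
  have av : ∀ (v v' : V) (s t : ↥(WW V F)), bb (v * v') s t = bb v s t + bb v' s t := by
    intro v v' s t
    change φ (c (c ((v : G) * v') s) t) = _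
    rw [h.beta_mul v.2 v'.2 s.2 t.2]
    exact hφ.mul _ (h.beta_memF v.2 s.2 t.2) _ (h.beta_memF v'.2 s.2 t.2)
  have as : ∀ (v : V) (s s' t : ↥(WW V F)), bb v (s * s') t = bb v s t + bb v s' t := by
    intro v s s' t
    change φ (c (c (v : G) ((s : G) * s')) t) = _
    rw [h.beta_mul_left v.2 s.2 s'.2 t.2]
    exact hφ.mul _ (h.beta_memF v.2 s.2 t.2) _ (h.beta_memF v.2 s'.2 t.2)
  have at' : ∀ (v : V) (s t t' : ↥(WW V F)), bb v s (t * t') = bb v s t + bb v s t' := by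
    intro v s t t'
    change φ (c (c (v : G) s) ((t : G) * t')) = _
    rw [h.beta_mul_right v.2 s.2 t.2 t'.2]
    exact hφ.mul _ (h.beta_memF v.2 s.2 t.2) _ (h.beta_memF v.2 s.2 t'.2)
  let A := V ⧸ E'
  let S := ↥(WW V F) ⧸ S'
  have outA : ∀ a b : A, ((a * b).out : V ⧸ E') = ((a.out * b.out : V) : V ⧸ E') := by
    intro a b
    rw [QuotientGroup.mk_mul, QuotientGroup.out_eq', QuotientGroup.out_eq', QuotientGroup.out_eq']
  have outS : ∀ a b : S, ((a * b).out : ↥(WW V F) ⧸ S') =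
      ((a.out * b.out : ↥(WW V F)) : ↥(WW V F) ⧸ S') := by
    intro a b
    rw [QuotientGroup.mk_mul, QuotientGroup.out_eq', QuotientGroup.out_eq', QuotientGroup.out_eq']
  let β : Additive A →+ Additive S →+ Additive S →+ ZMod 2 :=
    AddMonoidHom.mk' (fun a => AddMonoidHom.mk' (fun s => AddMonoidHom.mk'
      (fun t => bb (Additive.toMul a).out (Additive.toMul s).out (Additive.toMul t).out)
      (by
        intro t t'
        have e : Additive.toMul (t + t') = Additive.toMul t * Additive.toMul t' := rfl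
        rw [e, ← at', ct _ _ _ _ (outS _ _).symm]))
      (by
        intro s s'
        have e : Additive.toMul (s + s') = Additive.toMul s * Additive.toMul s' := rfl
        refine AddMonoidHom.ext fun t => ?_
        change bb _ (Additive.toMul (s + s')).out _ = bb _ _ _ + bb _ _ _
        rw [e, ← as, cs _ _ _ _ (outS _ _).symm]))
      (by
        intro a b
        have e : Additive.toMul (a + b) = Additive.toMul a * Additive.toMul b := rfl
        refine AddMonoidHom.ext fun s => AddMonoidHom.ext fun t => ?_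
        change bb (Additive.toMul (a + b)).out _ _ = bb _ _ _ + bb _ _ _
        rw [e, ← av, cv _ _ _ _ (outA _ _).symm])
  have hβ : ∀ (a : Additive A) (s t : Additive S),
      β a s t = bb (Additive.toMul a).out (Additive.toMul s).out (Additive.toMul t).out := fun _ _ _ => rfl
  have key : Nat.card (Additive A) ^ 2 ≤ Nat.card (Additive S) := by
    refine NearFF.Pfaff.card_sq_le_card ?_ ?_ β ?_ ?_ ?_
    · intro a
      change Additive.ofMul (Additive.toMul a * Additive.toMul a) = 0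
      rw [ofMul_eq_zero]
      refine QuotientGroup.induction_on (Additive.toMul a) fun v => ?_
      rw [← QuotientGroup.mk_mul]
      have h1 : v * v = 1 := Subtype.ext (h.sq' v.2)
      rw [h1]; rfl
    · intro a
      change Additive.ofMul (Additive.toMul a * Additive.toMul a) = 0
      rw [ofMul_eq_zero]
      refine QuotientGroup.induction_on (Additive.toMul a) fun s => ?_
      rw [← QuotientGroup.mk_mul, QuotientGroup.eq_one_iff, mem_subgroupOf]
      exact NN_le_Sp h hφ (h.F_le_NN (h.sq_W s.2))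
    · intro a s
      rw [hβ]
      change φ (c (c _ _) _) = 0
      rw [h.beta_self (Subtype.prop _) (Subtype.prop _), hφ.one]
    · intro a ha s hs
      have hv : ((Additive.toMul a).out : G) ∉ EE V F := by
        intro h1
        apply ha
        have h2 : ((Additive.toMul a).out : V ⧸ E') = 1 := by
          rw [QuotientGroup.eq_one_iff, mem_subgroupOf]; exact h1
        rw [QuotientGroup.out_eq'] at h2
        exact h2
      have h3 : ((Additive.toMul s).out : G) ∈ Sp h hφ := by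
        refine ⟨(Additive.toMul s).out.2, fun e he => ?_⟩
        obtain ⟨t, ht, hte⟩ := h.surj (Additive.toMul a).out.2 hv he
        have h4 := hs (Additive.ofMul ((⟨t, ht⟩ : ↥(WW V F)) : ↥(WW V F) ⧸ S'))
        rw [hβ] at h4
        have h5 : bb (Additive.toMul a).out ⟨t, ht⟩ (Additive.toMul s).out = 0 := by
          rw [← h4]
          refine (cs _ _ _ _ ?_).symm
          rw [toMul_ofMul, QuotientGroup.out_eq']
        have h6 : c e ((Additive.toMul s).out : G) =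
            c (c ((Additive.toMul a).out : G) t) ((Additive.toMul s).out : G) := by
          refine h.c_congr_left he.1 (h.c_memV (Additive.toMul a).out.2 ht) (Additive.toMul s).out.2 ?_
          have h7 := h.V_comm (h.c_memV (Additive.toMul a).out.2 ht) (inv_mem he.1)
          rwa [h7] at hte
        rw [h6]
        exact h5
      have h4 : ((Additive.toMul s).out : ↥(WW V F) ⧸ S') = 1 := by
        rw [QuotientGroup.eq_one_iff, mem_subgroupOf]; exact h3
      rw [QuotientGroup.out_eq'] at h4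
      exact h4
    · obtain ⟨e, he, s, hs, hes⟩ := hne
      refine ⟨⟨Additive.ofMul ((⟨s, hs⟩ : ↥(WW V F)) : ↥(WW V F) ⧸ S'), 0, fun h1 => hes ?_⟩⟩
      rw [ofMul_eq_zero, QuotientGroup.eq_one_iff, mem_subgroupOf] at h1
      exact h1.2 e he
  exact key

omit hφ in
/-- `φ([E, W]) ≠ 0` for some `φ` which is trivial on `D` if `[E, W] ≰ D`. -/
theorem exists_phi {D : Subgroup G} {e s : G} (he : e ∈ EE V F) (hs : s ∈ WW V F) (hD : c e s ∉ D) :
    ∃ φ : G → ZMod 2, Add2 F φ ∧ (∀ d ∈ F, d ∈ D → φ d = 0) ∧ φ (c e s) ≠ 0 :=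
  exists_add2 (fun a ha b hb => h.V_comm (h.F_le_V ha) (h.F_le_V hb)) (fun a ha => h.sq' (h.F_le_V ha))
    (h.comm_EW he hs) hD

omit hφ in
/-- **(PF)** `|V : E|² ≤ |E : F|` -/
theorem sq_le : (EE V F).relIndex V ^ 2 ≤ F.relIndex (EE V F) := by
  obtain ⟨e, he, heF⟩ := SetLike.not_le_iff_exists.1 (not_le_of_gt h.F_lt_E)
  have h1 : ∃ s ∈ WW V F, c e s ≠ 1 := by
    by_contra hall
    push Not at hall
    apply heF
    rw [← h.cent_EW]
    refine mem_inf.2 ⟨he, ?_⟩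
    rw [mem_centralizer_iff]
    intro s hs
    have h2 := hall s hs
    calc s * e = (c e s)⁻¹ * (e * s) := by rw [c]; group
      _ = e * s := by rw [h2, inv_one, one_mul]
  obtain ⟨s, hs, hes⟩ := h1
  obtain ⟨φ, hφ, -, h2⟩ := h.exists_phi (D := ⊥) he hs (by rwa [mem_bot])
  refine (h.pfaff hφ ⟨e, he, s, hs, h2⟩).trans ?_
  rw [← h.relIndex_NN]
  exact relIndex_le_of_le_left (NN_le_Sp h hφ) index_ne_zero_of_finite

/-- **(PF)** equality: `S_φ = N` for every `φ` with `φ([E, W]) ≠ 0`. -/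
theorem sp_eq (heq : F.relIndex (EE V F) = (EE V F).relIndex V ^ 2)
    (hne : ∃ e ∈ EE V F, ∃ s ∈ WW V F, φ (c e s) ≠ 0) : Sp h hφ = NN V F := by
  have h1 := h.pfaff hφ hne
  rw [← heq, ← h.relIndex_NN] at h1
  have h2 := relIndex_mul_relIndex (NN V F) (Sp h hφ) (WW V F) (NN_le_Sp h hφ) (Sp_le_W h hφ)
  have h3 : (Sp h hφ).relIndex (WW V F) ≠ 0 := index_ne_zero_of_finite
  have h4 : (NN V F).relIndex (Sp h hφ) ≠ 0 := index_ne_zero_of_finite
  have h5 : (NN V F).relIndex (Sp h hφ) = 1 := by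
    have h6 : (NN V F).relIndex (Sp h hφ) * (Sp h hφ).relIndex (WW V F) ≤ 1 * (Sp h hφ).relIndex (WW V F) := by
      rw [h2, one_mul]; exact h1
    have h7 := Nat.le_of_mul_le_mul_right h6 (Nat.pos_of_ne_zero h3)
    omega
  exact le_antisymm (relIndex_eq_one.1 h5) (NN_le_Sp h hφ)

omit hφ in
/-- `[E, s] = {[e, s] | e ∈ E}` -/
def CE {s : G} (hs : s ∈ WW V F) : Subgroup G where
  carrier := {x | ∃ e ∈ EE V F, x = c e s}
  one_mem' := ⟨1, one_mem _, by rw [c]; group⟩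
  mul_mem' := by
    rintro x y ⟨e, he, rfl⟩ ⟨f, hf, rfl⟩
    exact ⟨e * f, mul_mem he hf, (h.c_mul_left he.1 hf.1 hs).symm⟩
  inv_mem' := by
    rintro x ⟨e, he, rfl⟩
    exact ⟨e⁻¹, inv_mem he, (h.c_inv_left he.1 hs).symm⟩

omit hφ in
/-- **(PF)** equality: every commutator `[e, t]` is in `[E, s]`, for every `s ∈ W - N`. -/
theorem exists_c_eq (heq : F.relIndex (EE V F) = (EE V F).relIndex V ^ 2) {s : G} (hs : s ∈ WW V F)
    (hsN : s ∉ NN V F) {e t : G} (he : e ∈ EE V F) (ht : t ∈ WW V F) : ∃ e' ∈ EE V F, c e t = c e' s := by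
  by_contra hcon
  obtain ⟨φ, hφ, hD, h2⟩ := h.exists_phi (D := h.CE hs) he ht hcon
  apply hsN
  rw [← h.sp_eq hφ heq ⟨e, he, t, ht, h2⟩]
  exact ⟨hs, fun f hf => hD _ (h.comm_EW hf hs) ⟨f, hf, rfl⟩⟩

omit hφ in
/-- **(PF)** equality: `[E, W] = [E, s]` for every `s ∈ W - N`. -/
theorem commutator_eq (heq : F.relIndex (EE V F) = (EE V F).relIndex V ^ 2) {s : G} (hs : s ∈ WW V F)
    (hsN : s ∉ NN V F) : ⁅EE V F, WW V F⁆ = h.CE hs := by
  apply le_antisymm
  · rw [commutator_le]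
    intro e he t ht
    exact h.exists_c_eq heq hs hsN he ht
  · rintro x ⟨e, he, rfl⟩
    exact commutator_mem_commutator he hs

omit hφ in
/-- `|[E, s]| = |E : C_E(s)|` -/
theorem card_CE {s : G} (hs : s ∈ WW V F) : Nat.card (h.CE hs) = (centralizer {s}).relIndex (EE V F) := by
  have h1 : Cos (fun e => c e s) (EE V F) (EE V F ⊓ centralizer {s}) (h.CE hs) ⊥ := by
    refine ⟨fun e he => ⟨e, he, rfl⟩, fun a ha b hb => ?_⟩
    rw [mem_bot, ← h.c_inv_left ha.1 hs, ← h.c_mul_left (inv_mem ha.1) hb.1 hs]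
    constructor
    · intro h2
      refine mem_inf.2 ⟨mul_mem (inv_mem ha) hb, ?_⟩
      rw [mem_centralizer_singleton_iff]
      calc a⁻¹ * b * s = c (a⁻¹ * b) s * (s * (a⁻¹ * b)) := by rw [c]; group
        _ = s * (a⁻¹ * b) := by rw [h2, one_mul]
    · intro h2
      have h3 := mem_centralizer_singleton_iff.1 (mem_inf.1 h2).2
      rw [c, h3, mul_inv_cancel_right, mul_inv_cancel]
  have h2 := h1.eq_of_surj (fun x ⟨e, he, hx⟩ => ⟨e, he, by rw [hx, inv_mul_cancel]; exact one_mem _⟩)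
  rw [inf_relIndex_left, relIndex_bot_left] at h2
  exact h2.symm

end Hyp

end

end Cfsg.Agent.Omega.NOne.Flat

end

section


/-!
# THEOREM D0ag (bb #15001, helper313): the abstract configuration

`V` is the module of the minimal parabolic `P`, `z i` (`i : ι`) are the points (the conjugates of `z`
under `P`), `opp i j` means that `z i`, `z j` are not perpendicular; `C i` is the conjugate of the group
`C_1` at `z i`, `Q i = O₂(C i)`, `QF i = C_{Q i}(E_i/z_i)` (`E_i = V ∩ Q i = z_i^⊥`), `Qs i = ⟨E_i^{C i}⟩`,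
`T = C_S(V)`.

`Conf` is the configuration after the frame (0) of the text (for all points, by conjugation in `P`).
-/

set_option autoImplicit false

namespace Cfsg.Agent.Omega.NOne.AG

open Subgroup Cfsg Cfsg.Agent.ZN

universe u

variable {G : Type u} [Group G] {ι : Type*}

/-- The abstract configuration of D0ag. -/
structure Conf (P V T : Subgroup G) (z : ι → G) (opp : ι → ι → Prop) (C Q QF Qs : ι → Subgroup G) :
    Prop where
  -- the points
  ne_one : ∀ i, z i ≠ 1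
  sq : ∀ i, z i * z i = 1
  zV : ∀ i, z i ∈ V
  irr : ∀ i, ¬ opp i i
  symm : ∀ {i j}, opp i j → opp j i
  -- `P`, `V`, `T`
  Vab : ∀ v ∈ V, ∀ w ∈ V, v * w = w * v
  Vsq : ∀ v ∈ V, v * v = 1
  cardV : Nat.card V = 16
  VT : V ≤ T
  TP : T ≤ P
  TV : ∀ t ∈ T, ∀ v ∈ V, t * v = v * t
  nT : P ≤ normalizer (T : Set G)
  nV : P ≤ normalizer (V : Set G)
  pT : IsPGroup 2 T
  perm : ∀ m ∈ P, ∀ i, ∃ j, m * z i * m⁻¹ = z j
  -- transport
  eqC : ∀ m ∈ P, ∀ i j, m * z i * m⁻¹ = z j → ∀ x ∈ C i, m * x * m⁻¹ ∈ C j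
  eqQ : ∀ m ∈ P, ∀ i j, m * z i * m⁻¹ = z j → ∀ x ∈ Q i, m * x * m⁻¹ ∈ Q j
  eqQF : ∀ m ∈ P, ∀ i j, m * z i * m⁻¹ = z j → ∀ x ∈ QF i, m * x * m⁻¹ ∈ QF j
  eqQs : ∀ m ∈ P, ∀ i j, m * z i * m⁻¹ = z j → ∀ x ∈ Qs i, m * x * m⁻¹ ∈ Qs j
  -- the local subgroups
  Cz : ∀ i, ∀ c ∈ C i, c * z i = z i * c
  PC : ∀ i, ∀ m ∈ P, m * z i = z i * m → m ∈ C i
  /-- `C_1 = L_1 (P ∩ C)` -/
  gen : ∀ i, C i ≤ _root_.Subgroup.closure ({m | m ∈ P ∧ m * z i = z i * m} ∪
    {x | ∃ c ∈ C i, ∃ v ∈ V, x = c * v * c⁻¹})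
  Qo2 : ∀ i, Q i = o2 (C i)
  char2 : ∀ i, ∀ c ∈ C i, (∀ x ∈ Q i, c * x = x * c) → c ∈ Q i
  QP : ∀ i, Q i ≤ P
  nQF : ∀ i, C i ≤ normalizer (QF i : Set G)
  nQs : ∀ i, C i ≤ normalizer (Qs i : Set G)
  QFQ : ∀ i, QF i ≤ Q i
  QsQF : ∀ i, Qs i ≤ QF i
  /-- `[Qs i, QF i] ≤ ⟨z i⟩` -/
  com : ∀ i, ∀ x ∈ Qs i, ∀ y ∈ QF i, x * y = y * x ∨ x * y = z i * (y * x)
  QsGen : ∀ i, Qs i ≤ _root_.Subgroup.closure {y | ∃ c ∈ C i, ∃ e ∈ V, e ∈ Q i ∧ y = c * e * c⁻¹}
  -- `V` and the local subgroups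
  /-- `E_i = V ∩ Q i` consists of the points perpendicular to `z i` (and their products) -/
  opp_iff : ∀ i j, opp i j ↔ z j ∉ Q i
  VQs : ∀ i, ∀ v ∈ V, v ∈ Q i → v ∈ Qs i
  VQ2 : ∀ i, ∀ v ∈ V, ∀ w ∈ V, v ∉ Q i → w ∉ Q i → v * w ∈ Q i
  VQc : ∀ i, ∀ x ∈ Q i, ∀ v ∈ V, x * v * x⁻¹ * v⁻¹ ∈ Q i
  cT : ∀ i, ∀ x ∈ Q i, (∀ v ∈ V, x * v = v * x) → x ∈ T
  /-- no nontrivial element of `P/C_P(V)` centralises `E_i` -/
  faith : ∀ i, ∀ x ∈ P, (∀ v ∈ V, v ∈ Q i → x * v = v * x) → ∀ v ∈ V, x * v = v * x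
  fixE : ∀ i, ∀ e ∈ V, (∀ x ∈ Qs i, x * e = e * x) → e = 1 ∨ e = z i
  QFT : ∀ i, ∀ x ∈ QF i, ∃ t ∈ T, ∃ y ∈ Qs i, x = t * y
  /-- `QF i = C_{Q i}(E_i / z_i)`, `|Q i : QF i| ≤ 2` -/
  QQF : ∀ i, ∀ x ∈ Q i, (∀ v ∈ V, v ∈ Q i → x * v = v * x ∨ x * v = z i * (v * x)) → x ∈ QF i
  QF2 : ∀ i, ∀ x ∈ Q i, ∀ y ∈ Q i, x ∉ QF i → y ∉ QF i → x * y ∈ QF i
  /-- `v ∈ V - E_i`: `C_X(v) = E_i^⊥` -/
  kv : ∀ i, ∀ x ∈ Qs i, ∀ v ∈ V, v ∉ Q i → (x * v = v * x ∨ x * v = z i * (v * x)) → x ∈ T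
  /-- `v ∈ V - E_i`: `[Qs i, v] ⟨z i⟩ = E_i` -/
  ev : ∀ i, ∀ e ∈ V, e ∈ Q i → ∀ v ∈ V, v ∉ Q i →
    ∃ x ∈ Qs i, x * v * x⁻¹ * v⁻¹ = e ∨ x * v * x⁻¹ * v⁻¹ = z i * e
  -- global
  /-- `⟨Qs i, Qs j⟩` is transitive on the points -/
  trans : ∀ i j, opp i j → ∀ k, ∃ x ∈ Qs i ⊔ Qs j, x * z i * x⁻¹ = z k
  tri : ∀ i, ∃ j k, opp i j ∧ opp i k ∧ opp j k
  /-- `Ω₁ Z(S^p) = ⟨z i⟩` -/
  min : ∀ i, ∀ N : Subgroup G, N ≤ T →
    (∀ m ∈ P, m * z i = z i * m → ∀ x ∈ N, m * x * m⁻¹ ∈ N) → N ≠ ⊥ → z i ∈ N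

namespace Conf

variable {P V T : Subgroup G} {z : ι → G} {opp : ι → ι → Prop} {C Q QF Qs : ι → Subgroup G}

/-- `B_i = C_{QF i}(Qs i)` -/
def B (_h : Conf P V T z opp C Q QF Qs) (i : ι) : Subgroup G :=
  QF i ⊓ centralizer (Qs i : Set G)

/-- `T_i = T ∩ Q i` -/
def Tt (_h : Conf P V T z opp C Q QF Qs) (i : ι) : Subgroup G := T ⊓ Q i

/-- `Δ = ⋂ B_k V` -/
def Dl (h : Conf P V T z opp C Q QF Qs) : Subgroup G := ⨅ k, (h.B k ⊔ V)

end Conf

end Cfsg.Agent.Omega.NOne.AG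

end

section


/-!
# THEOREM D0ag (bb #15001), type (α): labels

* `D4 a b c d`, `D5 a b c d m` : the indices (in `Fin 5`) are distinct;
* `Alp P V Z` : the 15 points of the natural `SL₂(4)`-module `V` for `S₅ = SL₂(4).2`, labelled as
  `Z a b c d = z_{ab|cd}` (`a, b, c, d` distinct);
* `Lab h y pt` : the case `Δ > V`: ten elements `y a b = y b a` of `Δ - V`, `z (pt a b c d) = y a b * y c d`.

`Ov P y σ m` : `m ∈ P` acts as `σ` on the `y a b`.
-/

set_option autoImplicit false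

namespace Cfsg.Agent.Omega.NOne.AG

open Subgroup Cfsg Cfsg.Agent.ZN

universe u

/-- the indices are distinct -/
def D4 (a b c d : Fin 5) : Prop := a ≠ b ∧ a ≠ c ∧ a ≠ d ∧ b ≠ c ∧ b ≠ d ∧ c ≠ d

/-- the indices are distinct -/
def D5 (a b c d m : Fin 5) : Prop := D4 a b c d ∧ m ≠ a ∧ m ≠ b ∧ m ≠ c ∧ m ≠ d

instance (a b c d : Fin 5) : Decidable (D4 a b c d) := by unfold D4; infer_instance

instance (a b c d m : Fin 5) : Decidable (D5 a b c d m) := by unfold D5; infer_instance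

variable {G : Type u} [Group G] {ι : Type*}

/-- **(α)**: the 15 points of `V`, labelled: `Z a b c d = z_{ab|cd}`. -/
structure Alp (P V : Subgroup G) (Z : Fin 5 → Fin 5 → Fin 5 → Fin 5 → G) : Prop where
  swap1 : ∀ a b c d, D4 a b c d → Z a b c d = Z b a c d
  swap2 : ∀ a b c d, D4 a b c d → Z a b c d = Z c d a b
  ne_one : ∀ a b c d, D4 a b c d → Z a b c d ≠ 1
  mem : ∀ a b c d, D4 a b c d → Z a b c d ∈ V
  sq : ∀ v ∈ V, v * v = 1
  comm : ∀ v ∈ V, ∀ w ∈ V, v * w = w * v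
  card : Nat.card V = 16
  surj : ∀ v ∈ V, v ≠ 1 → ∃ a b c d, D4 a b c d ∧ v = Z a b c d
  /-- the `F₄`-line of `z_{ab|cd}` -/
  line4 : ∀ a b c d, D4 a b c d → Z a b c d * Z a c b d = Z a d b c
  /-- `C_V((ab))` -/
  line2 : ∀ a b c d m, D5 a b c d m → Z a b c d * Z a b c m = Z a b d m
  /-- a hyperbolic line -/
  hyp : ∀ a b c d m, D5 a b c d m → Z a b c d * Z b c d m = Z b m a d
  act : ∀ m ∈ P, ∃ σ : Equiv.Perm (Fin 5), ∀ a b c d, D4 a b c d →
    m * Z a b c d * m⁻¹ = Z (σ a) (σ b) (σ c) (σ d)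
  full : ∀ σ : Equiv.Perm (Fin 5), ∃ m ∈ P, ∀ a b c d, D4 a b c d →
    m * Z a b c d * m⁻¹ = Z (σ a) (σ b) (σ c) (σ d)

/-- `m ∈ P` acts as `σ` on the `y a b` -/
def Ov (P : Subgroup G) (y : Fin 5 → Fin 5 → G) (σ : Equiv.Perm (Fin 5)) (m : G) : Prop :=
  m ∈ P ∧ ∀ a b, a ≠ b → m * y a b * m⁻¹ = y (σ a) (σ b)

/-- **The case `Δ > V`** (type (α)): the ten elements `y a b`. -/
structure Lab {P V T : Subgroup G} {z : ι → G} {opp : ι → ι → Prop} {C Q QF Qs : ι → Subgroup G}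
    (h : Conf P V T z opp C Q QF Qs) (y : Fin 5 → Fin 5 → G)
    (pt : Fin 5 → Fin 5 → Fin 5 → Fin 5 → ι) : Prop where
  symm : ∀ a b, y a b = y b a
  ne_one : ∀ a b, a ≠ b → y a b ≠ 1
  sq : ∀ a b, a ≠ b → y a b * y a b = 1
  comm : ∀ a b c d, a ≠ b → c ≠ d → y a b * y c d = y c d * y a b
  inj : ∀ a b c d, a ≠ b → c ≠ d → y a b = y c d → (a = c ∧ b = d) ∨ (a = d ∧ b = c)
  z_eq : ∀ a b c d, D4 a b c d → z (pt a b c d) = y a b * y c d
  surj : ∀ i, ∃ a b c d, D4 a b c d ∧ i = pt a b c d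
  /-- `y_{ab} y_{am} = z_{cd|bm}` -/
  rel : ∀ a b c d m, D5 a b c d m → y a b * y a m = y c d * y b m
  notV : ∀ a b, a ≠ b → y a b ∉ V
  /-- `Δ = V ∪ y V` -/
  mem_iff : ∀ a b, a ≠ b → ∀ x, x ∈ h.Dl ↔ x ∈ V ∨ x * y a b ∈ V
  /-- `Y_i = B_i ∩ Δ` -/
  B_iff : ∀ a b c d, D4 a b c d → ∀ x ∈ h.Dl,
    (x ∈ h.B (pt a b c d) ↔ x = 1 ∨ x = z (pt a b c d) ∨ x = y a b ∨ x = y c d)
  /-- `y_e ∈ Q_i` for `e ∈ {ab, am}` -/
  yQ : ∀ a b c d m, D5 a b c d m → y a b ∈ Q (pt a b c d) ∧ y a m ∈ Q (pt a b c d)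
  /-- `y_e ∉ Q_i` for `e = ac` -/
  yQ' : ∀ a b c d m, D5 a b c d m → y a c ∉ Q (pt a b c d)
  /-- `P / C_P(Δ) = S₅` -/
  act : ∀ m ∈ P, ∃ σ : Equiv.Perm (Fin 5), Ov P y σ m
  full : ∀ σ : Equiv.Perm (Fin 5), ∃ m, Ov P y σ m
  /-- `Qs i` induces `⟨(ab), (cd)⟩` -/
  Qs_ov : ∀ a b c d, D4 a b c d → ∀ x ∈ Qs (pt a b c d), Ov P y 1 x ∨ Ov P y (Equiv.swap a b) x ∨
    Ov P y (Equiv.swap c d) x ∨ Ov P y (Equiv.swap a b * Equiv.swap c d) x
  Qs_ex : ∀ a b c d, D4 a b c d → ∃ x ∈ Qs (pt a b c d), Ov P y (Equiv.swap a b) x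
  /-- the points opposite to `ab|cd` -/
  opp_iff : ∀ a b c d m, D5 a b c d m → ∀ i, opp (pt a b c d) i ↔
    i = pt a c b m ∨ i = pt a d b m ∨ i = pt b c a m ∨ i = pt b d a m ∨
    i = pt a c d m ∨ i = pt b c d m ∨ i = pt a d c m ∨ i = pt b d c m
  /-- `pt` depends only on the point -/
  pt1 : ∀ a b c d, D4 a b c d → pt a b c d = pt b a c d
  pt2 : ∀ a b c d, D4 a b c d → pt a b c d = pt c d a b

end Cfsg.Agent.Omega.NOne.AG

end

section


/-!
# NO-1, D0ag (#15001): the stabiliser of a chain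

`C` of characteristic 2 (`C_C(O₂(C)) ≤ O₂(C)`).  An element of `C` centralising the factors of a chain
`O₂(C) = A₀ ≥ A₁ ≥ … ≥ A_n = 1` of normal subgroups of `C` lies in `O₂(C)`.
-/

set_option autoImplicit false

namespace Cfsg.Agent.Omega.NOne.AG.K

open Subgroup Cfsg Cfsg.Agent.MinSimple.VModule Cfsg.Agent.MinSimple.Basic
open Cfsg.Agent.ZN (o2)
open Cfsg.Agent.Omega.NOne

universe u

variable {G : Type u} [Group G]

/-- The elements of `C` moving the elements of `A` by elements of `B`. -/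
def st (C A B : Subgroup G) (hB : ∀ c ∈ C, ∀ b ∈ B, c * b * c⁻¹ ∈ B) : Subgroup G where
  carrier := {g | g ∈ C ∧ ∀ a ∈ A, g * a * g⁻¹ * a⁻¹ ∈ B}
  one_mem' := ⟨one_mem _, fun u _ => by simp⟩
  mul_mem' := by
    rintro a b ⟨ha, ha'⟩ ⟨hb, hb'⟩
    refine ⟨mul_mem ha hb, fun x hx => ?_⟩
    have e : a * b * x * (a * b)⁻¹ * x⁻¹ =
        (a * (b * x * b⁻¹ * x⁻¹) * a⁻¹) * (a * x * a⁻¹ * x⁻¹) := by group
    rw [e]
    exact mul_mem (hB a ha _ (hb' x hx)) (ha' x hx)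
  inv_mem' := by
    rintro a ⟨ha, ha'⟩
    refine ⟨inv_mem ha, fun x hx => ?_⟩
    have e : a⁻¹ * x * a⁻¹⁻¹ * x⁻¹ = a⁻¹ * (a * x * a⁻¹ * x⁻¹)⁻¹ * a⁻¹⁻¹ := by group
    rw [e]
    exact hB _ (inv_mem ha) _ (inv_mem (ha' x hx))

theorem mem_st {C A B : Subgroup G} {hB : ∀ c ∈ C, ∀ b ∈ B, c * b * c⁻¹ ∈ B} {g : G} :
    g ∈ st C A B hB ↔ g ∈ C ∧ ∀ a ∈ A, g * a * g⁻¹ * a⁻¹ ∈ B := Iff.rfl

theorem st_conj {C A B : Subgroup G} {hB : ∀ c ∈ C, ∀ b ∈ B, c * b * c⁻¹ ∈ B}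
    (hA : ∀ c ∈ C, ∀ a ∈ A, c * a * c⁻¹ ∈ A) {c g : G} (hc : c ∈ C) (hg : g ∈ st C A B hB) :
    c * g * c⁻¹ ∈ st C A B hB := by
  obtain ⟨h1, h2⟩ := mem_st.1 hg
  refine mem_st.2 ⟨mul_mem (mul_mem hc h1) (inv_mem hc), fun a ha => ?_⟩
  have h3 := hB c hc _ (h2 _ (hA _ (inv_mem hc) a ha))
  have e : c * g * c⁻¹ * a * (c * g * c⁻¹)⁻¹ * a⁻¹ =
      c * (g * (c⁻¹ * a * c⁻¹⁻¹) * g⁻¹ * (c⁻¹ * a * c⁻¹⁻¹)⁻¹) * c⁻¹ := by group
  rw [e]
  exact h3

/-- **(K)**: the stabiliser in `C` (of characteristic 2) of a chain of normal subgroups from `O₂(C)` to `1`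
lies in `O₂(C)`. -/
theorem mem_of_chain [Finite G] {C : Subgroup G} (hC : C ⊓ centralizer (o2 C : Set G) ≤ o2 C) (n : ℕ)
    (A : ℕ → Subgroup G) (h0 : A 0 = o2 C) (hn : A n = ⊥)
    (hA : ∀ i, ∀ c ∈ C, ∀ a ∈ A i, c * a * c⁻¹ ∈ A i) (hle : ∀ i, A i ≤ o2 C) {g : G} (hg : g ∈ C)
    (h : ∀ i < n, ∀ a ∈ A i, g * a * g⁻¹ * a⁻¹ ∈ A (i + 1)) : g ∈ o2 C := by
  let B : Subgroup G := C ⊓ ⨅ i : Fin n, st C (A i) (A (i + 1)) (hA _)
  have hBst : ∀ x ∈ B, ∀ i < n, ∀ a ∈ A i, x * a * x⁻¹ * a⁻¹ ∈ A (i + 1) := by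
    intro x hx i hi a ha
    have h1 := (mem_inf.1 hx).2
    rw [mem_iInf] at h1
    exact (mem_st.1 (h1 ⟨i, hi⟩)).2 a ha
  have hBC : B ≤ C := inf_le_left
  -- a 2-power of an element of `B` centralises `A i`
  have key : ∀ j ≤ n, ∀ x ∈ B, ∃ k : ℕ, ∀ a ∈ A (n - j), x ^ 2 ^ k * a = a * x ^ 2 ^ k := by
    intro j
    induction j with
    | zero =>
      intro _ x _
      refine ⟨0, fun a ha => ?_⟩
      rw [Nat.sub_zero, hn, mem_bot] at ha
      rw [ha, mul_one, one_mul]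
    | succ j ih =>
      intro hj x hx
      obtain ⟨k, hk⟩ := ih (Nat.le_of_succ_le hj) x hx
      have hxk : x ^ 2 ^ k ∈ B := pow_mem hx _
      have hp : IsPGroup 2 (A (n - j)) := (o2_isPGroup C).to_le (hle _)
      have e : n - (j + 1) + 1 = n - j := by omega
      have h1 : ∀ q ∈ A (n - (j + 1)), x ^ 2 ^ k * q * (x ^ 2 ^ k)⁻¹ * q⁻¹ ∈ A (n - j) := by
        intro q hq
        have := hBst _ hxk (n - (j + 1)) (by omega) q hq
        rwa [e] at this
      obtain ⟨l, hl⟩ := LemmaT.exists_pow_comm hp hk h1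
      refine ⟨k + l, fun a ha => ?_⟩
      rw [pow_add, pow_mul]
      exact hl a ha
  have hB : B ≤ o2 C := by
    refine le_o2 hBC ?_ ?_
    · rintro ⟨x, hx⟩
      obtain ⟨k, hk⟩ := key n le_rfl x hx
      rw [Nat.sub_self, h0] at hk
      have h2 : x ^ 2 ^ k ∈ o2 C :=
        hC ⟨pow_mem (hBC hx) _, mem_centralizer_iff.2 fun r hr => (hk r hr).symm⟩
      obtain ⟨l, hl⟩ := LemmaT.exists_pow_eq_one (o2_isPGroup C)
      refine ⟨k + l, Subtype.ext ?_⟩
      change x ^ 2 ^ (k + l) = 1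
      rw [pow_add, pow_mul]
      exact hl _ h2
    · have hconj : ∀ c ∈ C, ∀ x ∈ B, c * x * c⁻¹ ∈ B := by
        intro c hc x hx
        refine mem_inf.2 ⟨mul_mem (mul_mem hc (hBC hx)) (inv_mem hc), ?_⟩
        have h1 := (mem_inf.1 hx).2
        rw [mem_iInf] at h1 ⊢
        exact fun i => st_conj (hA _) hc (h1 i)
      intro c hc
      rw [mem_normalizer_iff]
      intro x
      refine ⟨hconj c hc x, fun hx => ?_⟩
      have h6 := hconj c⁻¹ (inv_mem hc) _ hx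
      have e : c⁻¹ * (c * x * c⁻¹) * c⁻¹⁻¹ = x := by group
      rwa [e] at h6
  refine hB (mem_inf.2 ⟨hg, ?_⟩)
  rw [mem_iInf]
  exact fun i => mem_st.2 ⟨hg, h i i.2⟩

section

variable [Finite G] {C : Subgroup G}

/-- Form with the normal subgroups given by a list: `l = [A₁, …, A_n]`. -/
theorem mem_of_list (hC : C ⊓ centralizer (o2 C : Set G) ≤ o2 C) (l : List (Subgroup G))
    (hA : ∀ A ∈ l, ∀ c ∈ C, ∀ a ∈ A, c * a * c⁻¹ ∈ A) (hle : ∀ A ∈ l, A ≤ o2 C) {g : G} (hg : g ∈ C)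
    (h : List.IsChain (fun A B : Subgroup G => ∀ a ∈ A, g * a * g⁻¹ * a⁻¹ ∈ B)
      (o2 C :: (l ++ [⊥]))) : g ∈ o2 C := by
  have hlen : (o2 C :: (l ++ [⊥])).length = l.length + 2 := by simp
  refine mem_of_chain hC (l.length + 1) (fun i => (o2 C :: (l ++ [⊥])).getD i ⊥) rfl ?_ ?_ ?_ hg ?_
  · simp only [_root_.List.getD_eq_getElem?_getD, _root_.List.length_cons, _root_.List.length_append, _root_.List.length_nil, _root_.zero_add, _root_.lt_add_iff_pos_right, _root_.Order.lt_one_iff, _root_.getElem?_pos, _root_.List.getElem_cons_succ, _root_.Std.le_refl, _root_.List.getElem_append_right, _root_.tsub_self, _root_.List.getElem_cons_zero, _root_.Option.getD_some]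
  · intro i c hc a ha
    by_cases hi : i < (o2 C :: (l ++ [⊥])).length
    · rw [List.getD_eq_getElem _ _ hi] at ha ⊢
      have hm := List.getElem_mem hi
      rcases List.mem_cons.1 hm with h1 | h1
      · rw [h1] at ha ⊢
        exact (mem_normalizer_iff.1 (le_normalizer_o2 C hc) a).1 ha
      · rcases List.mem_append.1 h1 with h2 | h2
        · exact hA _ h2 c hc a ha
        · rw [List.mem_singleton] at h2
          rw [h2, mem_bot] at ha ⊢
          rw [ha, mul_one, mul_inv_cancel]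
    · rw [List.getD_eq_default _ _ (not_lt.1 hi), mem_bot] at ha ⊢
      rw [ha, mul_one, mul_inv_cancel]
  · intro i
    by_cases hi : i < (o2 C :: (l ++ [⊥])).length
    · rw [List.getD_eq_getElem _ _ hi]
      have hm := List.getElem_mem hi
      rcases List.mem_cons.1 hm with h1 | h1
      · rw [h1]
      · rcases List.mem_append.1 h1 with h2 | h2
        · exact hle _ h2
        · rw [List.mem_singleton] at h2
          rw [h2]
          exact bot_le
    · rw [List.getD_eq_default _ _ (not_lt.1 hi)]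
      exact bot_le
  · intro i hi a ha
    have h1 : i < (o2 C :: (l ++ [⊥])).length := by omega
    have h2 : i + 1 < (o2 C :: (l ++ [⊥])).length := by omega
    rw [List.getD_eq_getElem _ _ h1] at ha
    rw [List.getD_eq_getElem _ _ h2]
    exact (List.isChain_iff_getElem.1 h i h2) a ha

/-- Chain `O₂(C) ≥ R ≥ 1`. -/
theorem chain2 (hC : C ⊓ centralizer (o2 C : Set G) ≤ o2 C) {R : Subgroup G}
    (nR : ∀ c ∈ C, ∀ a ∈ R, c * a * c⁻¹ ∈ R) (hR : R ≤ o2 C) {g : G} (hg : g ∈ C)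
    (h1 : ∀ a ∈ o2 C, g * a * g⁻¹ * a⁻¹ ∈ R) (h2 : ∀ a ∈ R, g * a = a * g) : g ∈ o2 C := by
  refine mem_of_list hC [R] (by simpa only [_root_.List.mem_cons, _root_.List.not_mem_nil, _root_.or_false, _root_.forall_eq] using nR) (by simpa using hR) hg ?_
  simp only [List.cons_append, List.nil_append, List.isChain_cons_cons, List.isChain_singleton, and_true]
  refine ⟨h1, fun a ha => ?_⟩
  rw [h2 a ha, mem_bot]
  group

/-- Chain `O₂(C) ≥ R ≥ U ≥ W ≥ Z ≥ 1`. -/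
theorem chain5 (hC : C ⊓ centralizer (o2 C : Set G) ≤ o2 C) {R U W Z : Subgroup G}
    (nR : ∀ c ∈ C, ∀ a ∈ R, c * a * c⁻¹ ∈ R) (nU : ∀ c ∈ C, ∀ a ∈ U, c * a * c⁻¹ ∈ U)
    (nW : ∀ c ∈ C, ∀ a ∈ W, c * a * c⁻¹ ∈ W) (nZ : ∀ c ∈ C, ∀ a ∈ Z, c * a * c⁻¹ ∈ Z)
    (hR : R ≤ o2 C) (hU : U ≤ o2 C) (hW : W ≤ o2 C) (hZ : Z ≤ o2 C) {g : G} (hg : g ∈ C)
    (h1 : ∀ a ∈ o2 C, g * a * g⁻¹ * a⁻¹ ∈ R) (h2 : ∀ a ∈ R, g * a * g⁻¹ * a⁻¹ ∈ U)
    (h3 : ∀ a ∈ U, g * a * g⁻¹ * a⁻¹ ∈ W) (h4 : ∀ a ∈ W, g * a * g⁻¹ * a⁻¹ ∈ Z)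
    (h5 : ∀ a ∈ Z, g * a = a * g) : g ∈ o2 C := by
  refine mem_of_list hC [R, U, W, Z] (by simpa only [_root_.List.mem_cons, _root_.List.not_mem_nil, _root_.or_false, _root_.forall_eq_or_imp, _root_.forall_eq] using ⟨nR, nU, nW, nZ⟩)
    (by simpa only [_root_.List.mem_cons, _root_.List.not_mem_nil, _root_.or_false, _root_.forall_eq_or_imp, _root_.forall_eq] using ⟨hR, hU, hW, hZ⟩) hg ?_
  simp only [List.cons_append, List.nil_append, List.isChain_cons_cons, List.isChain_singleton, and_true]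
  refine ⟨h1, h2, h3, h4, fun a ha => ?_⟩
  rw [h5 a ha, mem_bot]
  group

end

end Cfsg.Agent.Omega.NOne.AG.K

end

private theorem dce_2a7c185e24bd : _root_.True := by
  try have : _root_.True := by simp only [_root_.Cfsg.Agent.Omega.NOne.Flat.EE.eq_1]
  try have : _root_.True := by simp only [_root_.Cfsg.Agent.Omega.NOne.NearFF.beta.eq_1]
  try have : _root_.True := by simp only [_root_.Cfsg.Agent.Omega.NOne.NearFF.c.eq_1]
  try have : _root_.True := by simp only [_root_.Cfsg.Agent.Omega.NOne.Frame.W.eq_1]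
  try have : _root_.True := by simp only [_root_.Cfsg.Agent.Omega.NOne.Frame.D.eq_1]
  try have : _root_.True := by simp only [_root_.Cfsg.Agent.Omega.NOne.Frame.E'.eq_1]
  try have : _root_.True := by simp only [_root_.Cfsg.Agent.Omega.NOne.Flat.NN.eq_1]
  try have : _root_.True := by simp only [_root_.Cfsg.Agent.Omega.NOne.Frame.X.eq_1]
  try have : _root_.True := by simp only [_root_.Cfsg.Agent.Omega.NOne.NearFF.tau.eq_1]
  try have : _root_.True := by simp only [_root_.Cfsg.Agent.Omega.NOne.NearFF.V1.eq_1]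
  exact _root_.True.intro
end

-- part: Mrg/Omega/NO3S/BetaFF/EndB
section
prune_inst 0x4010002
set_option linter.all false
open scoped Cfsg.Agent.FastGrp


/-!
# THEOREM BETA-FF(1) (helper284 #19171), the end (5) in the form (5') of helper424 #19716: `V_{P''} ≤ V`, `V_{P''} ≠ L`
is impossible

Left conjugation, `B₁ = C_W(L)`, `W = W_F ≤ S` moves `L`.  Everything is abstract: the outputs of (0), (3), (4) are
hypotheses.

* `Line S P Z L` : `L` is a line of `P` through `Z` (`S ≤ P ≤ N(L)`, `[L, S] ≤ Z ≤ L`, `C_S(L) = O₂(P)` in the form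
  "`P` conjugates `C_S(L)` into `S`");
* `PtLine S P Z L` : moreover the points `Z^g` intersect trivially and `s ∈ S - C(L)` moves every point `≠ Z`;
* `Side V F P Z L L₂` : the outputs of (3), (4) for `P` against `L₂`: `[E, C_W(L)] ≤ Z`, `V = L₂^y E`;
* `Inp V F S P P₂ Z L L₂ x` : the common hypotheses (`low`, NOFF for `(L, L)` and `(L₂, L)`, `C_V(L^x) ≤ L F`);
* `comm_VB` : `[V, C_W(L)] ≤ L`  (*);
* `case_ii` : `W` moves `L₂`;
* `Inp.star_two` : (*2) `[L, W^g] = 1` for `g ∈ P₂`, `Z^g ≠ Z`;  `Inp.quad` : `[V, L^x, L^x] = 1`;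
  `case_i` : `W` centralises `L₂`;
* `Inp.false_of` : both.
-/

set_option autoImplicit false

namespace Cfsg.Agent.Omega.NO3S.BetaFF.EndB

open Subgroup Cfsg Cfsg.Agent.Omega.NoFF.Basic Cfsg.Agent.Omega.NOne.Frame Cfsg.Agent.Omega.NOne.Flat
open Cfsg.Agent.Omega.NOne.NearFF (c c_def)
open scoped Pointwise

universe u

variable {G : Type u} [Group G]

/-- `L` is a line of `P` through `Z`. -/
structure Line (S P Z L : Subgroup G) : Prop where
  SP : S ≤ P
  norm : P ≤ normalizer (L : Set G)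
  ZL : Z ≤ L
  comm : ∀ l ∈ L, ∀ s ∈ S, c l s ∈ Z
  core : ∀ g ∈ P, ∀ s ∈ S, s ∈ centralizer (L : Set G) → g * s * g⁻¹ ∈ S

/-- `L` is a line of `P` through `Z`, with its points. -/
structure PtLine (S P Z L : Subgroup G) : Prop extends Line S P Z L where
  ti : ∀ g ∈ P, MulAut.conj g • Z ≠ Z → Z ⊓ MulAut.conj g • Z = ⊥
  mv : ∀ g ∈ P, MulAut.conj g • Z ≠ Z → ∀ s ∈ S, s ∉ centralizer (L : Set G) →
    MulAut.conj (s * g) • Z ≠ MulAut.conj g • Z

/-- The outputs of (3), (4) for `P` against `L₂`: `[E, C_W(L)] ≤ Z` and `V = L₂^y E` for some `y ∈ P`. -/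
structure Side (V F P Z L L₂ : Subgroup G) : Prop where
  E : ∀ e ∈ EE V F, ∀ b ∈ WW V F, b ∈ centralizer (L : Set G) → c e b ∈ Z
  span : ∃ y ∈ P, ∀ v ∈ V, ∃ l ∈ L₂, ∃ e ∈ EE V F, v = y * l * y⁻¹ * e

/-- The common hypotheses. -/
structure Inp (V F S P P₂ Z L L₂ : Subgroup G) (x : G) : Prop where
  hyp : Hyp V F
  WS : WW V F ≤ S
  l : Line S P Z L
  l₂ : PtLine S P₂ Z L₂
  LV : L ≤ V
  L₂V : L₂ ≤ V
  PV : P ≤ normalizer (V : Set G)
  P₂V : P₂ ≤ normalizer (V : Set G)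
  ZF : Z ≤ F
  /-- all lines on a point `Z^g ≤ F` lie in `E` -/
  low : ∀ g ∈ P₂, MulAut.conj g • Z ≤ F → MulAut.conj g • L ≤ EE V F
  low₂ : L₂ ≤ EE V F
  noff : ∀ g : G, L ≤ MulAut.conj g • P → MulAut.conj g • L ≤ P →
    L ≤ centralizer ((MulAut.conj g • L : Subgroup G) : Set G)
  noff₂ : ∀ g : G, L₂ ≤ MulAut.conj g • P → MulAut.conj g • L ≤ P₂ →
    L₂ ≤ centralizer ((MulAut.conj g • L : Subgroup G) : Set G)
  hx : x ∈ centralizer (F : Set G)
  D : V ⊓ centralizer ((MulAut.conj x • L : Subgroup G) : Set G) ≤ L ⊔ F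
  inf : L ⊓ L₂ ≤ Z

theorem conj_one_smul (H : Subgroup G) : MulAut.conj (1 : G) • H = H := by rw [map_one, one_smul]

/-- `Z^g = Z^h` iff `Z^{h⁻¹g} = Z`. -/
theorem conj_inv_mul_eq {g h : G} {Z : Subgroup G} :
    MulAut.conj (h⁻¹ * g) • Z = Z ↔ MulAut.conj g • Z = MulAut.conj h • Z := by
  rw [← conj_conj]
  constructor
  · intro h1
    have h2 := congrArg (fun A : Subgroup G => MulAut.conj h • A) h1
    simpa only [conj_conj, mul_inv_cancel, map_one, one_smul, mul_inv_cancel_left] using h2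
  · intro h1
    rw [h1, conj_conj, inv_mul_cancel, map_one, one_smul]

theorem mem_cent_iff {H : Subgroup G} {x : G} : x ∈ centralizer (H : Set G) ↔ ∀ h ∈ H, h * x = x * h :=
  mem_centralizer_iff

/-! ### (*) -/

/-- **(*)** `V = L₂^y E`, `[E, B₁] ≤ Z` ⟹ `[V, B₁] ≤ L`. -/
theorem comm_VB {V F S P P₂ Z L L₂ : Subgroup G} (h : Hyp V F) (hWS : WW V F ≤ S) (hl : Line S P Z L)
    (hl₂ : Line S P₂ Z L₂) (hL₂ : L₂ ≤ V) (hPV : P ≤ normalizer (V : Set G)) (hs : Side V F P Z L L₂)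
    {v b : G} (hv : v ∈ V) (hb : b ∈ WW V F) (hbL : b ∈ centralizer (L : Set G)) : c v b ∈ L := by
  obtain ⟨y, hy, hspan⟩ := hs.span
  obtain ⟨l, hlm, e, he, rfl⟩ := hspan v hv
  have h1 : y * l * y⁻¹ ∈ V := norm_mem (hPV hy) (hL₂ hlm)
  rw [h.c_mul_left h1 he.1 hb]
  refine mul_mem ?_ (hl.ZL (hs.E e he b hb hbL))
  have h2 : y⁻¹ * b * y ∈ S := by
    have := hl.core y⁻¹ (inv_mem hy) b (hWS hb) hbL
    rwa [inv_inv] at this
  have h3 : c l (y⁻¹ * b * y) ∈ Z := hl₂.comm l hlm _ h2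
  have h4 := norm_mem (hl.norm hy) (hl.ZL h3)
  have e1 : y * c l (y⁻¹ * b * y) * y⁻¹ = c (y * l * y⁻¹) b := by rw [c, c]; group
  rwa [e1] at h4

section inp

variable {V F S P P₂ Z L L₂ : Subgroup G} {x : G}

theorem Inp.LE (h : Inp V F S P P₂ Z L L₂ x) : L ≤ EE V F := by
  have b2 := h.low 1 (one_mem _) (by rw [conj_one_smul]; exact h.ZF)
  rwa [conj_one_smul] at b2

/-- `W ≤ S^k` for `k ∈ C_G(F)`. -/
theorem Inp.W_le_conj (h : Inp V F S P P₂ Z L L₂ x) {k : G} (hk : k ∈ centralizer (F : Set G)) :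
    WW V F ≤ MulAut.conj k • S := by
  rw [← Hyp.conj_W hk]
  exact conj_le_iff.2 h.WS

/-- `Λ^k ≤ W` for `k ∈ C_G(F)`. -/
theorem Inp.conj_le_W (h : Inp V F S P P₂ Z L L₂ x) {k : G} (hk : k ∈ centralizer (F : Set G)) :
    MulAut.conj k • L ≤ WW V F := (conj_le_iff.2 h.LE).trans (Hyp.conjE_le_W hk)

/-- NOFF for two conjugates of `L`. -/
theorem Inp.noff' (h : Inp V F S P P₂ Z L L₂ x) {g k : G} (h1 : MulAut.conj g • L ≤ MulAut.conj k • P)
    (h2 : MulAut.conj k • L ≤ MulAut.conj g • P) :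
    MulAut.conj g • L ≤ centralizer ((MulAut.conj k • L : Subgroup G) : Set G) := by
  have k1 : L ≤ MulAut.conj (g⁻¹ * k) • P := by
    have := conj_le_iff (g := g⁻¹) |>.2 h1
    rwa [conj_conj, inv_mul_cancel, map_one, one_smul, conj_conj] at this
  have k2 : MulAut.conj (g⁻¹ * k) • L ≤ P := by
    have := conj_le_iff (g := g⁻¹) |>.2 h2
    rwa [conj_conj, conj_conj, inv_mul_cancel, map_one, one_smul] at this
  have k3 := conj_le_centralizer (g := g) (h.noff _ k1 k2)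
  rwa [conj_conj, mul_inv_cancel_left] at k3

/-- Two lines `L^k`, `L^m` with `k, m ∈ C_G(F)` commute. -/
theorem Inp.comm_conj_conj (h : Inp V F S P P₂ Z L L₂ x) {k m : G} (hk : k ∈ centralizer (F : Set G))
    (hm : m ∈ centralizer (F : Set G)) :
    MulAut.conj k • L ≤ centralizer ((MulAut.conj m • L : Subgroup G) : Set G) :=
  h.noff' (((h.conj_le_W hk).trans (h.W_le_conj hm)).trans (conj_le_iff.2 h.l.SP))
    (((h.conj_le_W hm).trans (h.W_le_conj hk)).trans (conj_le_iff.2 h.l.SP))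

/-- **`[V, L^x, L^x] = 1`.** -/
theorem Inp.quad (h : Inp V F S P P₂ Z L L₂ x) {a b u : G} (ha : a ∈ MulAut.conj x • L)
    (hb : b ∈ MulAut.conj x • L) (hu : u ∈ V) :
    b * (a * u * a⁻¹ * u⁻¹) = a * u * a⁻¹ * u⁻¹ * b := by
  have k1 : b * a = a * b := comm_of_le_centralizer (h.comm_conj_conj h.hx h.hx) hb ha
  have k2 : u * a⁻¹ * u⁻¹ ∈ MulAut.conj (u * x) • L := by
    rw [← conj_conj]
    exact conj_mem (inv_mem ha)
  have k3 : b * (u * a⁻¹ * u⁻¹) = u * a⁻¹ * u⁻¹ * b :=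
    comm_of_le_centralizer (h.comm_conj_conj h.hx (mul_mem (h.hyp.V_le_X hu) h.hx)) hb k2
  calc b * (a * u * a⁻¹ * u⁻¹) = b * a * (u * a⁻¹ * u⁻¹) := by group
    _ = a * (b * (u * a⁻¹ * u⁻¹)) := by rw [k1]; group
    _ = a * u * a⁻¹ * u⁻¹ * b := by rw [k3]; group

/-! ### `W` moves `L₂` -/

/-- **(5') (ii)** `W` moves `L₂`. -/
theorem Inp.case_ii [Finite G] (h : Inp V F S P P₂ Z L L₂ x)
    (h1 : ∀ v ∈ V, ∀ b ∈ WW V F, b ∈ centralizer (L : Set G) → c v b ∈ L)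
    (h2 : ∀ v ∈ V, ∀ b ∈ WW V F, b ∈ centralizer (L₂ : Set G) → c v b ∈ L₂)
    (hB : ∃ b ∈ WW V F, b ∈ centralizer (L : Set G) ∧ b ∉ NN V F) : False := by
  -- `L₂ ≤ L F`
  have k1 : MulAut.conj x • L ≤ P₂ := ((h.conj_le_W h.hx).trans h.WS).trans h.l₂.SP
  have k2 : L₂ ≤ MulAut.conj x • P :=
    ((h.low₂.trans Hyp.E_le_W).trans (h.W_le_conj h.hx)).trans (conj_le_iff.2 h.l.SP)
  have k3 : L₂ ≤ L ⊔ F := (le_inf h.L₂V (h.noff₂ x k2 k1)).trans h.D
  -- `B₁` centralises `L₂`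
  obtain ⟨b, hb, hbL, hbN⟩ := hB
  have k4 : b ∈ centralizer (L₂ : Set G) := by
    have a1 : L ⊔ F ≤ centralizer ({b} : Set G) := by
      refine sup_le ?_ ?_
      · intro l hl
        rw [mem_centralizer_iff]
        rintro _ rfl
        exact (mem_centralizer_iff.1 hbL l hl).symm
      · intro f hf
        rw [mem_centralizer_iff]
        rintro _ rfl
        exact (Hyp.F_comm hf (Hyp.W_le_X hb)).symm
    rw [mem_cent_iff]
    intro l hl
    exact (mem_centralizer_iff.1 (a1 (k3 hl)) b rfl).symm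
  apply hbN
  rw [h.hyp.mem_NN]
  exact ⟨hb, fun v hv => h.ZF (h.inf ⟨h1 v hv b hb hbL, h2 v hv b hb k4⟩)⟩

/-! ### `W` centralises `L₂` -/

/-- `[L F, W] ≤ Z`. -/
theorem Inp.comm_D (h : Inp V F S P P₂ Z L L₂ x) {d s : G} (hd : d ∈ L ⊔ F) (hs : s ∈ WW V F) : c d s ∈ Z := by
  let K : Subgroup G :=
    { carrier := {d | d ∈ V ∧ c d s ∈ Z}
      one_mem' := ⟨one_mem _, by rw [c]; simp⟩
      mul_mem' := by
        rintro a b ⟨ha, ha2⟩ ⟨hb, hb2⟩
        refine ⟨mul_mem ha hb, ?_⟩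
        rw [h.hyp.c_mul_left ha hb hs]
        exact mul_mem ha2 hb2
      inv_mem' := by
        rintro a ⟨ha, ha2⟩
        refine ⟨inv_mem ha, ?_⟩
        have e : a⁻¹ = a := h.hyp.inv ha
        show c a⁻¹ s ∈ Z
        rwa [e] }
  have h1 : L ⊔ F ≤ K := by
    refine sup_le (fun l hl => ⟨h.LV hl, h.l.comm l hl s (h.WS hs)⟩) fun f hf => ⟨h.hyp.F_le_V hf, ?_⟩
    rw [Hyp.c_F hf hs]
    exact one_mem _
  exact (h1 hd).2

/-- `[L^g, W] ≤ Z` for `g ∈ P₂`. -/
theorem Inp.comm_conj [Finite G] (h : Inp V F S P P₂ Z L L₂ x) (hW : WW V F ≤ centralizer (L₂ : Set G)) {g l s : G}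
    (hg : g ∈ P₂) (hl : l ∈ L) (hs : s ∈ WW V F) : c (g * l * g⁻¹) s ∈ Z := by
  have a1 : L₂ ≤ F := by
    rw [← h.hyp.cent_VW]
    exact le_inf h.L₂V (comm_symm hW)
  have a2 : MulAut.conj g • Z ≤ F := by
    refine le_trans ?_ a1
    intro z hz
    obtain ⟨z₀, hz₀, rfl⟩ := mem_conj'.1 hz
    exact norm_mem (h.l₂.norm hg) (h.l₂.ZL hz₀)
  have a3 := h.low g hg a2
  have a5 : MulAut.conj x • L ≤ MulAut.conj g • P := by
    intro w hw
    have w1 := h.conj_le_W h.hx hw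
    have := h.l₂.core g⁻¹ (inv_mem hg) w (h.WS w1) (hW w1)
    rw [inv_inv] at this
    exact mem_conj.2 (h.l.SP this)
  have a6 : MulAut.conj g • L ≤ MulAut.conj x • P :=
    ((a3.trans Hyp.E_le_W).trans (h.W_le_conj h.hx)).trans (conj_le_iff.2 h.l.SP)
  have a7 : MulAut.conj g • L ≤ L ⊔ F := (le_inf (a3.trans inf_le_left) (h.noff' a6 a5)).trans h.D
  exact h.comm_D (a7 (mem_conj'.2 ⟨l, hl, rfl⟩)) hs

/-- **(*2)** `[L, W^g] = 1` for `g ∈ P₂`, `Z^g ≠ Z`. -/
theorem Inp.star_two [Finite G] (h : Inp V F S P P₂ Z L L₂ x) (hW : WW V F ≤ centralizer (L₂ : Set G)) {g l s : G}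
    (hg : g ∈ P₂) (hgZ : MulAut.conj g • Z ≠ Z) (hl : l ∈ L) (hs : s ∈ WW V F) :
    l * (g * s * g⁻¹) = g * s * g⁻¹ * l := by
  have a1 : c l (g * s * g⁻¹) ∈ Z := h.l.comm l hl _ (h.l₂.core g hg s (h.WS hs) (hW hs))
  have a2 : c l (g * s * g⁻¹) ∈ MulAut.conj g • Z := by
    rw [mem_conj]
    have b1 := h.comm_conj hW (inv_mem hg) hl hs
    have e : c (g⁻¹ * l * g⁻¹⁻¹) s = g⁻¹ * c l (g * s * g⁻¹) * g := by rw [c, c]; group
    rwa [e] at b1
  have a3 : c l (g * s * g⁻¹) ∈ Z ⊓ MulAut.conj g • Z := ⟨a1, a2⟩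
  rw [h.l₂.ti g hg hgZ, mem_bot] at a3
  have e : l * (g * s * g⁻¹) = c l (g * s * g⁻¹) * (g * s * g⁻¹ * l) := by rw [c]; group
  rw [e, a3, one_mul]

/-- (*2) for two points: `[L^k, W^g] = 1` for `g, k ∈ P₂`, `Z^g ≠ Z^k`. -/
theorem Inp.star_three [Finite G] (h : Inp V F S P P₂ Z L L₂ x) (hW : WW V F ≤ centralizer (L₂ : Set G))
    {g k l s : G} (hg : g ∈ P₂) (hk : k ∈ P₂) (hgk : MulAut.conj g • Z ≠ MulAut.conj k • Z) (hl : l ∈ L)
    (hs : s ∈ WW V F) : k * l * k⁻¹ * (g * s * g⁻¹) = g * s * g⁻¹ * (k * l * k⁻¹) := by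
  have a1 : MulAut.conj (k⁻¹ * g) • Z ≠ Z := fun h1 => hgk (conj_inv_mul_eq.1 h1)
  have a2 := h.star_two hW (mul_mem (inv_mem hk) hg) a1 hl hs
  calc k * l * k⁻¹ * (g * s * g⁻¹) = k * (l * (k⁻¹ * g * s * (k⁻¹ * g)⁻¹)) * k⁻¹ := by group
    _ = k * (k⁻¹ * g * s * (k⁻¹ * g)⁻¹ * l) * k⁻¹ := by rw [a2]
    _ = g * s * g⁻¹ * (k * l * k⁻¹) := by group

/-- The identity behind quadratic action: `b` commutes with `[a, u]` ⟹ `u = u^b (u^{ba})⁻¹ u^a`. -/
theorem quad_id {a b u : G} (hq : b * (a * u * a⁻¹ * u⁻¹) = a * u * a⁻¹ * u⁻¹ * b) :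
    u = b * u * b⁻¹ * (b * a * u * (b * a)⁻¹)⁻¹ * (a * u * a⁻¹) := by
  have k1 : b * a * u * (b * a)⁻¹ * (b * u * b⁻¹)⁻¹ = a * u * a⁻¹ * u⁻¹ := by
    calc b * a * u * (b * a)⁻¹ * (b * u * b⁻¹)⁻¹ = b * (a * u * a⁻¹ * u⁻¹) * b⁻¹ := by group
      _ = a * u * a⁻¹ * u⁻¹ * b * b⁻¹ := by rw [hq]
      _ = a * u * a⁻¹ * u⁻¹ := by group
  have k2 : b * u * b⁻¹ * (b * a * u * (b * a)⁻¹)⁻¹ = (a * u * a⁻¹ * u⁻¹)⁻¹ := by
    rw [← k1]; group
  rw [k2]
  group

/-- **(5') (i)** `W` centralises `L₂`; `A` is any subgroup of `S`, quadratic on `V`, inducing more than `2` elements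
on `L₂`. -/
theorem Inp.case_i [Finite G] {A : Subgroup G} (h : Inp V F S P P₂ Z L L₂ x)
    (hW : WW V F ≤ centralizer (L₂ : Set G)) (hWL : ¬ WW V F ≤ centralizer (L : Set G)) (hAS : A ≤ S)
    (hquad : ∀ a ∈ A, ∀ b ∈ A, ∀ u ∈ V, b * (a * u * a⁻¹ * u⁻¹) = a * u * a⁻¹ * u⁻¹ * b)
    (hA : ∃ a ∈ A, ∃ b ∈ A, a ∉ centralizer (L₂ : Set G) ∧ b ∉ centralizer (L₂ : Set G) ∧
      b * a ∉ centralizer (L₂ : Set G))
    (hg : ∃ g ∈ P₂, MulAut.conj g • Z ≠ Z) : False := by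
  obtain ⟨g, hg, hgZ⟩ := hg
  obtain ⟨a, ha, b, hb, ha₂, hb₂, hab₂⟩ := hA
  apply hWL
  intro s hs
  rw [mem_cent_iff]
  intro l hl
  have aS := hAS ha
  have bS := hAS hb
  have uV : g * l * g⁻¹ ∈ V := norm_mem (h.P₂V hg) (h.LV hl)
  have q := quad_id (hquad a ha b hb _ uV)
  -- the three conjugates commute with `w = g s g⁻¹`
  have key : ∀ t ∈ S, t ∉ centralizer (L₂ : Set G) →
      Commute (t * (g * l * g⁻¹) * t⁻¹) (g * s * g⁻¹) := by
    intro t ht ht₂
    have k1 := h.star_three hW hg (mul_mem (h.l₂.SP ht) hg) (h.l₂.mv g hg hgZ t ht ht₂).symm hl hs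
    have e : t * (g * l * g⁻¹) * t⁻¹ = t * g * l * (t * g)⁻¹ := by group
    rw [e]
    exact k1
  have k1 := key a aS ha₂
  have k2 := key b bS hb₂
  have k3 := key (b * a) (mul_mem bS aS) hab₂
  have k4 : Commute (g * l * g⁻¹) (g * s * g⁻¹) := by
    rw [q]
    exact (k2.mul_left k3.inv_left).mul_left k1
  have k5 : g * l * g⁻¹ * (g * s * g⁻¹) = g * s * g⁻¹ * (g * l * g⁻¹) := k4
  calc l * s = g⁻¹ * (g * l * g⁻¹ * (g * s * g⁻¹)) * g := by group
    _ = g⁻¹ * (g * s * g⁻¹ * (g * l * g⁻¹)) * g := by rw [k5]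
    _ = s * l := by group

/-- `A = (L^x)^y ≤ S` is quadratic on `V`. -/
theorem Inp.A_le (h : Inp V F S P P₂ Z L L₂ x) {y : G} (hy : y ∈ P) : MulAut.conj (y * x) • L ≤ S := by
  intro w hw
  rw [← conj_conj] at hw
  obtain ⟨a, ha, rfl⟩ := mem_conj'.1 hw
  refine h.l.core y hy a (h.WS (h.conj_le_W h.hx ha)) ?_
  have k := h.comm_conj_conj h.hx (one_mem (centralizer (F : Set G))) ha
  rwa [conj_one_smul] at k

theorem Inp.A_quad (h : Inp V F S P P₂ Z L L₂ x) {y : G} (hy : y ∈ P) {a b u : G}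
    (ha : a ∈ MulAut.conj (y * x) • L) (hb : b ∈ MulAut.conj (y * x) • L) (hu : u ∈ V) :
    b * (a * u * a⁻¹ * u⁻¹) = a * u * a⁻¹ * u⁻¹ * b := by
  rw [← conj_conj] at ha hb
  obtain ⟨a₀, ha₀, rfl⟩ := mem_conj'.1 ha
  obtain ⟨b₀, hb₀, rfl⟩ := mem_conj'.1 hb
  have k := h.quad ha₀ hb₀ (norm_mem' (h.PV hy) hu)
  calc y * b₀ * y⁻¹ * (y * a₀ * y⁻¹ * u * (y * a₀ * y⁻¹)⁻¹ * u⁻¹) =
      y * (b₀ * (a₀ * (y⁻¹ * u * y) * a₀⁻¹ * (y⁻¹ * u * y)⁻¹)) * y⁻¹ := by group
    _ = y * (a₀ * (y⁻¹ * u * y) * a₀⁻¹ * (y⁻¹ * u * y)⁻¹ * b₀) * y⁻¹ := by rw [k]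
    _ = y * a₀ * y⁻¹ * u * (y * a₀ * y⁻¹)⁻¹ * u⁻¹ * (y * b₀ * y⁻¹) := by group

/-- **(5').** `W` moves `L`; `Side` for `(P, L₂)` [and for `(P₂, L)` if `W` moves `L₂`]; `C_W(L) ≰ N`; for some
`y ∈ P` the group `(L^x)^y` induces more than `2` elements on `L₂`; `P₂` moves `Z`. -/
theorem Inp.false_of [Finite G] (h : Inp V F S P P₂ Z L L₂ x) (hWL : ¬ WW V F ≤ centralizer (L : Set G))
    (hs : Side V F P Z L L₂) (hs₂ : ¬ WW V F ≤ centralizer (L₂ : Set G) → Side V F P₂ Z L₂ L)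
    (hB : ∃ b ∈ WW V F, b ∈ centralizer (L : Set G) ∧ b ∉ NN V F)
    (hA : ∃ y ∈ P, ∃ a ∈ MulAut.conj (y * x) • L, ∃ b ∈ MulAut.conj (y * x) • L,
      a ∉ centralizer (L₂ : Set G) ∧ b ∉ centralizer (L₂ : Set G) ∧ b * a ∉ centralizer (L₂ : Set G))
    (hg : ∃ g ∈ P₂, MulAut.conj g • Z ≠ Z) : False := by
  by_cases hW : WW V F ≤ centralizer (L₂ : Set G)
  · obtain ⟨y, hy, hab⟩ := hA
    exact h.case_i hW hWL (h.A_le hy) (fun a ha b hb u hu => h.A_quad hy ha hb hu) hab hg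
  · exact h.case_ii (fun v hv b hb hbL => comm_VB h.hyp h.WS h.l h.l₂.toLine h.L₂V h.PV hs hv hb hbL)
      (fun v hv b hb hbL => comm_VB h.hyp h.WS h.l₂.toLine h.l h.LV h.P₂V (hs₂ hW) hv hb hbL) hB

end inp

end Cfsg.Agent.Omega.NO3S.BetaFF.EndB
end

-- part: Mrg/Omega/IId/ThmJFull
section
prune_inst 0x4010002
set_option linter.all false
open scoped Cfsg.Agent.FastGrp


/-!
# THEOREM J, complete: `N_p ∩ N_q = {1, p, q, pq}`

helper895, OMEGA / II.d, paper text bb #13722, on helper540's `ThmJ.lean` and on THEOREM TV.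
-/

set_option autoImplicit false

namespace Cfsg.Agent.Omega.IId.ThmJ

open Subgroup Cfsg Cfsg.Agent.ZN Cfsg.Agent.ZN.ChoiceBase Cfsg.Agent.Omega.TV

universe u

/-- `K` normal, `K/F` of exponent 2: `K ≤ T F` for every Sylow 2-subgroup `T`. -/
theorem exists_mem_sylow_of_sq {H : Type u} [Group H] [Finite H] (T : Sylow 2 H)
    {K F : Subgroup H} (hK : K.Normal) (hF : F.Normal) (hsq : ∀ k ∈ K, k * k ∈ F) {k : H}
    (hk : k ∈ K) : ∃ t ∈ T, t⁻¹ * k ∈ F := by
  have : Fact (Nat.Prime 2) := ⟨Nat.prime_two⟩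
  have hKn : (K.map (QuotientGroup.mk' F)).Normal :=
    hK.map _ (QuotientGroup.mk'_surjective F)
  have hKp : IsPGroup 2 (K.map (QuotientGroup.mk' F)) := by
    rintro ⟨x, hx⟩
    refine ⟨1, Subtype.ext ?_⟩
    obtain ⟨k, hk, rfl⟩ := hx
    rw [SubmonoidClass.coe_pow, Subgroup.coe_one, pow_one, pow_two]
    show QuotientGroup.mk' F k * QuotientGroup.mk' F k = 1
    rw [← map_mul]
    exact (QuotientGroup.eq_one_iff _).2 (hsq k hk)
  have hle : K.map (QuotientGroup.mk' F) ≤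
      ((T.mapSurjective (QuotientGroup.mk'_surjective F) : Sylow 2 (H ⧸ F)) :
        Subgroup (H ⧸ F)) := by
    obtain ⟨Q, hQ⟩ := hKp.exists_le_sylow
    intro x hx
    obtain ⟨g, hg⟩ := MulAction.exists_smul_eq (H ⧸ F) Q
      (T.mapSurjective (QuotientGroup.mk'_surjective F))
    rw [← hg]
    have hx' : g⁻¹ * x * g ∈ K.map (QuotientGroup.mk' F) := by
      have := hKn.conj_mem x hx g⁻¹
      simpa using this
    have h1 : g * (g⁻¹ * x * g) * g⁻¹ ∈ g • Q := by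
      refine Set.mem_smul_set.2 ⟨g⁻¹ * x * g, hQ hx', ?_⟩
      show MulAut.conj g (g⁻¹ * x * g) = _
      rw [MulAut.conj_apply]
    have e : g * (g⁻¹ * x * g) * g⁻¹ = x := by group
    rwa [e] at h1
  have h1 := hle (mem_map_of_mem _ hk)
  obtain ⟨t, ht, e⟩ := h1
  refine ⟨t, ht, ?_⟩
  rw [← QuotientGroup.eq]
  exact e

variable {G : Type u} [Group G]

/-- The conjugates of `q` under `C(p)` generate `N_p`. -/
theorem Side.NN_le_closure {V₁ V₂ : Subgroup G} (h2 : Side V₂ V₁) {p q : G} (hp : p ∈ V₁)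
    (hq : q ∈ V₂) (hq1 : q ≠ 1)
    (htr : ∀ q ∈ V₂, q ≠ 1 → ∀ q' ∈ V₂, q' ≠ 1 →
      ∃ l ∈ centralizer (V₁ : Set G) ⊓ normalizer (V₂ : Set G), l * q' * l⁻¹ = q) :
    NN V₂ p ≤ closure {x | ∃ c ∈ CC p, x = c * q * c⁻¹} := by
  refine NN_le ?_ ?_
  · intro y hy
    by_cases hy1 : y = 1
    · rw [hy1]; exact one_mem _
    · obtain ⟨l, ⟨hl, -⟩, e⟩ := htr y hy hy1 q hq hq1
      exact subset_closure ⟨l, centralizer_le_CC hp hl, e.symm⟩
  · intro g hg
    have key : ∀ g ∈ CC p, ∀ x ∈ closure {x | ∃ c ∈ CC p, x = c * q * c⁻¹},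
        g * x * g⁻¹ ∈ closure {x | ∃ c ∈ CC p, x = c * q * c⁻¹} := by
      intro g hg x hx
      induction hx using closure_induction with
      | mem x hx =>
        obtain ⟨c, hc, rfl⟩ := hx
        refine subset_closure ⟨g * c, mul_mem hg hc, ?_⟩
        group
      | one => simp
      | mul x y _ _ hx hy =>
        have e : g * (x * y) * g⁻¹ = g * x * g⁻¹ * (g * y * g⁻¹) := by group
        rw [e]
        exact mul_mem hx hy
      | inv x _ hx =>
        have e : g * x⁻¹ * g⁻¹ = (g * x * g⁻¹)⁻¹ := by group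
        rw [e]
        exact inv_mem hx
    rw [mem_normalizer_iff]
    intro x
    refine ⟨key g hg x, fun hx => ?_⟩
    have := key g⁻¹ (inv_mem hg) _ hx
    have e : g⁻¹ * (g * x * g⁻¹) * g⁻¹⁻¹ = x := by group
    rwa [e] at this

/-- `N_p` is elementary abelian. -/
theorem Side.NN_sq {V₁ V₂ : Subgroup G} (h : Side V₁ V₂) (h2 : Side V₂ V₁) {p : G} (hp : p ∈ V₁)
    (hp1 : p ≠ 1) : ∀ x ∈ NN V₂ p, x * x = 1 := by
  have key : ∀ x ∈ NN V₂ p, x ∈ NN V₂ p ∧ x * x = 1 := by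
    intro x hx
    refine iSup_induction (fun c : CC p => cj (c : G) V₂) (C := fun x => x ∈ NN V₂ p ∧ x * x = 1)
      hx ?_ ?_ ?_
    · intro c y hy
      refine ⟨le_iSup (fun c : CC p => cj (c : G) V₂) c hy, ?_⟩
      rw [mem_cj] at hy
      have h3 := h2.two _ hy
      have e : y * y = (c : G) * ((c : G)⁻¹ * y * c * ((c : G)⁻¹ * y * c)) * (c : G)⁻¹ := by group
      rw [e, h3]
      group
    · exact ⟨one_mem _, one_mul 1⟩
    · rintro a b ⟨ha, ha'⟩ ⟨hb, hb'⟩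
      refine ⟨mul_mem ha hb, ?_⟩
      have hc : b * a = a * b :=
        mem_centralizer_iff.1 (h.o2_le_cent_NN hp hp1 (h.NN_le_o2 hp hp1 ha)) b hb
      calc a * b * (a * b) = a * (b * a) * b := by group
        _ = a * (a * b) * b := by rw [hc]
        _ = a * a * (b * b) := by group
        _ = 1 := by rw [ha', hb', one_mul]
  exact fun x hx => (key x hx).2

/-- The group data of TV for `C(p)` acting on `N_p`, with base point `q`. -/
theorem Ctx.gsys [Finite G] {V₁ V₂ : Subgroup G} (h : Ctx V₁ V₂) {p q : G} (hp : p ∈ V₁)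
    (hp1 : p ≠ 1) (hq : q ∈ V₂) (hq1 : q ≠ 1)
    (htr : ∀ q ∈ V₂, q ≠ 1 → ∀ q' ∈ V₂, q' ≠ 1 →
      ∃ l ∈ centralizer (V₁ : Set G) ⊓ normalizer (V₂ : Set G), l * q' * l⁻¹ = q)
    {T : Subgroup G} (hTp : T ≤ CC p) (hT : IsPGroup 2 T) (hi : ¬ 2 ∣ T.relIndex (CC p))
    (hTq : T ≤ CC q) : GSys (CC p) (NN V₂ p) q where
  sq := h.s1.NN_sq h.s2 hp hp1
  nor := fun _ hc n hn => (mem_normalizer_iff.1 (CC_le_normalizer_NN V₂ p hc) n).1 hn
  mem := le_NN V₂ p hq
  ne := hq1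
  gen := h.s2.NN_le_closure hp hq hq1 htr
  chain := by
    have : Fact (Nat.Prime 2) := ⟨Nat.prime_two⟩
    intro U hUN hU c hc hcU hcN n hn
    have hsqN := h.s1.NN_sq h.s2 hp hp1
    have hnor : ∀ c ∈ CC p, ∀ n ∈ NN V₂ p, c * n * c⁻¹ ∈ NN V₂ p :=
      fun _ hc n hn => (mem_normalizer_iff.1 (CC_le_normalizer_NN V₂ p hc) n).1 hn
    -- the kernel of the action and the stabilizer of the chain, inside `C(p)`
    let F : Subgroup (CC p) :=
      { carrier := {c | ∀ n ∈ NN V₂ p, (c : G) * n * (c : G)⁻¹ = n}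
        one_mem' := fun n _ => by simp
        mul_mem' := by
          intro a b ha hb n hn
          have e : ((a * b : CC p) : G) * n * ((a * b : CC p) : G)⁻¹
              = (a : G) * ((b : G) * n * (b : G)⁻¹) * (a : G)⁻¹ := by
            rw [Subgroup.coe_mul]; group
          rw [e, hb n hn, ha n hn]
        inv_mem' := by
          intro a ha n hn
          have e : ((a⁻¹ : CC p) : G) * n * ((a⁻¹ : CC p) : G)⁻¹
              = (a : G)⁻¹ * n * (a : G) := by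
            rw [Subgroup.coe_inv]; group
          rw [e]
          nth_rewrite 1 [← ha n hn]
          group }
    let K : Subgroup (CC p) :=
      { carrier := {c | (∀ u ∈ U, (c : G) * u * (c : G)⁻¹ = u) ∧
          ∀ n ∈ NN V₂ p, (c : G) * n * (c : G)⁻¹ * n⁻¹ ∈ U}
        one_mem' := ⟨fun u _ => by simp, fun n _ => by simp⟩
        mul_mem' := by
          rintro a b ⟨ha, ha'⟩ ⟨hb, hb'⟩
          refine ⟨fun u hu => ?_, fun n hn => ?_⟩
          · have e : ((a * b : CC p) : G) * u * ((a * b : CC p) : G)⁻¹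
                = (a : G) * ((b : G) * u * (b : G)⁻¹) * (a : G)⁻¹ := by
              rw [Subgroup.coe_mul]; group
            rw [e, hb u hu, ha u hu]
          · have h1 := hb' n hn
            have h2 := ha' n hn
            have e : ((a * b : CC p) : G) * n * ((a * b : CC p) : G)⁻¹ * n⁻¹
                = (a : G) * ((b : G) * n * (b : G)⁻¹ * n⁻¹) * (a : G)⁻¹ *
                  ((a : G) * n * (a : G)⁻¹ * n⁻¹) := by
              rw [Subgroup.coe_mul]; group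
            rw [e]
            exact mul_mem (hU a a.2 _ h1) h2
        inv_mem' := by
          rintro a ⟨ha, ha'⟩
          have hinv : ∀ u ∈ U, (a : G)⁻¹ * u * (a : G) = u := by
            intro u hu
            nth_rewrite 1 [← ha u hu]
            group
          refine ⟨fun u hu => ?_, fun n hn => ?_⟩
          · have e : ((a⁻¹ : CC p) : G) * u * ((a⁻¹ : CC p) : G)⁻¹
                = (a : G)⁻¹ * u * (a : G) := by
              rw [Subgroup.coe_inv]; group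
            rw [e, hinv u hu]
          · have h1 := ha' n hn
            have e : ((a⁻¹ : CC p) : G) * n * ((a⁻¹ : CC p) : G)⁻¹ * n⁻¹
                = (a : G)⁻¹ * ((a : G) * n * (a : G)⁻¹ * n⁻¹)⁻¹ * (a : G) := by
              rw [Subgroup.coe_inv]; group
            rw [e, hinv _ (inv_mem h1)]
            exact inv_mem h1 }
    have hFn : F.Normal := by
      constructor
      intro a ha g n hn
      have hn' : (g : G)⁻¹ * n * (g : G) ∈ NN V₂ p := by
        have := hnor _ (inv_mem g.2) n hn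
        simpa using this
      have e : ((g * a * g⁻¹ : CC p) : G) * n * ((g * a * g⁻¹ : CC p) : G)⁻¹
          = (g : G) * ((a : G) * ((g : G)⁻¹ * n * (g : G)) * (a : G)⁻¹) * (g : G)⁻¹ := by
        simp only [Subgroup.coe_mul, Subgroup.coe_inv]; group
      rw [e, ha _ hn']
      group
    have hKn : K.Normal := by
      constructor
      rintro a ⟨ha, ha'⟩ g
      refine ⟨fun u hu => ?_, fun n hn => ?_⟩
      · have hu' : (g : G)⁻¹ * u * (g : G) ∈ U := by
          have := hU _ (inv_mem g.2) u hu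
          simpa using this
        have e : ((g * a * g⁻¹ : CC p) : G) * u * ((g * a * g⁻¹ : CC p) : G)⁻¹
            = (g : G) * ((a : G) * ((g : G)⁻¹ * u * (g : G)) * (a : G)⁻¹) * (g : G)⁻¹ := by
          simp only [Subgroup.coe_mul, Subgroup.coe_inv]; group
        rw [e, ha _ hu']
        group
      · have hn' : (g : G)⁻¹ * n * (g : G) ∈ NN V₂ p := by
          have := hnor _ (inv_mem g.2) n hn
          simpa using this
        have h1 := hU g g.2 _ (ha' _ hn')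
        have e : ((g * a * g⁻¹ : CC p) : G) * n * ((g * a * g⁻¹ : CC p) : G)⁻¹ * n⁻¹
            = (g : G) * ((a : G) * ((g : G)⁻¹ * n * (g : G)) * (a : G)⁻¹ *
              ((g : G)⁻¹ * n * (g : G))⁻¹) * (g : G)⁻¹ := by
          simp only [Subgroup.coe_mul, Subgroup.coe_inv]; group
        rw [e]
        exact h1
    have hsqK : ∀ k ∈ K, k * k ∈ F := by
      rintro k ⟨hk, hk'⟩ n hn
      have h1 := hk' n hn
      have h2 := hsqN _ (hUN h1)
      have e1 : (k : G) * n * (k : G)⁻¹ = (k : G) * n * (k : G)⁻¹ * n⁻¹ * n := by group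
      have e2 : ((k * k : CC p) : G) * n * ((k * k : CC p) : G)⁻¹
          = (k : G) * ((k : G) * n * (k : G)⁻¹) * (k : G)⁻¹ := by
        rw [Subgroup.coe_mul]; group
      rw [e2, e1]
      have e3 : (k : G) * ((k : G) * n * (k : G)⁻¹ * n⁻¹ * n) * (k : G)⁻¹
          = (k : G) * ((k : G) * n * (k : G)⁻¹ * n⁻¹) * (k : G)⁻¹ *
            ((k : G) * n * (k : G)⁻¹ * n⁻¹) * n := by group
      rw [e3, hk _ h1, h2, one_mul]
    have hTS : IsPGroup 2 (T.subgroupOf (CC p)) := hT.of_equiv (subgroupOfEquivOfLe hTp).symm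
    -- `K` centralizes `q`
    have hKq : ∀ k ∈ K, (k : G) * q * (k : G)⁻¹ = q := by
      intro k hk
      obtain ⟨t, ht, hf⟩ := exists_mem_sylow_of_sq (hTS.toSylow hi) hKn hFn hsqK hk
      have ht' : (t : G) ∈ T := ht
      have htq : (t : G) * q * (t : G)⁻¹ = q := by
        have := mem_CC.1 (hTq ht')
        rw [← this]
        group
      have h1 := hf q (le_NN V₂ p hq)
      have e : (k : G) * q * (k : G)⁻¹
          = (t : G) * (((t⁻¹ * k : CC p) : G) * q * ((t⁻¹ * k : CC p) : G)⁻¹) * (t : G)⁻¹ := by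
        simp only [Subgroup.coe_mul, Subgroup.coe_inv]; group
      rw [e, h1, htq]
    -- hence all conjugates of `q`, hence `N_p`
    have hKall : ∀ x ∈ closure {x | ∃ c ∈ CC p, x = c * q * c⁻¹}, ∀ k ∈ K,
        (k : G) * x * (k : G)⁻¹ = x := by
      intro x hx
      induction hx using closure_induction with
      | mem x hx =>
        obtain ⟨d, hd, rfl⟩ := hx
        intro k hk
        have h1 := hKq _ (hKn.conj_mem k hk (⟨d, hd⟩⁻¹ : CC p))
        have e : (k : G) * (d * q * d⁻¹) * (k : G)⁻¹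
            = d * ((((⟨d, hd⟩⁻¹ * k * ((⟨d, hd⟩ : CC p)⁻¹)⁻¹ : CC p)) : G) * q *
              (((⟨d, hd⟩⁻¹ * k * ((⟨d, hd⟩ : CC p)⁻¹)⁻¹ : CC p)) : G)⁻¹) * d⁻¹ := by
          simp only [Subgroup.coe_mul, Subgroup.coe_inv]; group
        rw [e, h1]
      | one => intro k _; simp
      | mul x y _ _ hx hy =>
        intro k hk
        have e : (k : G) * (x * y) * (k : G)⁻¹
            = (k : G) * x * (k : G)⁻¹ * ((k : G) * y * (k : G)⁻¹) := by group
        rw [e, hx k hk, hy k hk]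
      | inv x _ hx =>
        intro k hk
        have e : (k : G) * x⁻¹ * (k : G)⁻¹ = ((k : G) * x * (k : G)⁻¹)⁻¹ := by group
        rw [e, hx k hk]
    exact hKall n (h.s2.NN_le_closure hp hq hq1 htr hn) ⟨c, hc⟩ ⟨hcU, hcN⟩

/-- **THEOREM J**: `N_p ∩ N_q = {1, p, q, pq}`. -/
theorem Ctx.inter [Finite G] {V₁ V₂ : Subgroup G} (h : Ctx V₁ V₂)
    (htr₁ : ∀ p ∈ V₁, p ≠ 1 → ∀ p' ∈ V₁, p' ≠ 1 →
      ∃ l ∈ centralizer (V₂ : Set G) ⊓ normalizer (V₁ : Set G), l * p' * l⁻¹ = p)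
    (htr₂ : ∀ q ∈ V₂, q ≠ 1 → ∀ q' ∈ V₂, q' ≠ 1 →
      ∃ l ∈ centralizer (V₁ : Set G) ⊓ normalizer (V₂ : Set G), l * q' * l⁻¹ = q)
    {p q : G} (hp : p ∈ V₁) (hp1 : p ≠ 1) (hq : q ∈ V₂) (hq1 : q ≠ 1)
    {T : Subgroup G} (hTp : T ≤ CC p) (hT : IsPGroup 2 T) (hi : ¬ 2 ∣ T.relIndex (CC p))
    (hTq : T ≤ CC q) {j : G} (hj : j ∈ NN V₂ p) (hj' : j ∈ NN V₁ q) :
    j = 1 ∨ j = p ∨ j = q ∨ j = p * q := by
  rcases h.thmJ htr₁ hp hp1 hq hq1 with h1 | ⟨x, hx, hx1, y, hy, hxy⟩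
  · exact h1 j hj hj'
  exfalso
  have hg := h.gsys hp hp1 hq hq1 htr₂ hTp hT hi hTq
  have hxp : x ∈ CC p := centralizer_le_CC hp (h.s2.NN_le_cent_two hq hq1 hx)
  obtain ⟨q', hq', hq1', hne⟩ := four_exists h.s2.card q
  obtain ⟨l, ⟨hl, -⟩, e⟩ := htr₂ q' hq' hq1' q hq hq1
  obtain ⟨l', ⟨hl', -⟩, e'⟩ := htr₂ (q * q') (mul_mem hq hq') (h.s2.third hq hne) q hq hq1
  have hxV : x ∈ centralizer (V₂ : Set G) := h.s2.NN_le_cent_one hq hq1 hx
  refine hp1 (hg.eq_one_of_fixed (p := q') (t := x) hxp ?_ ⟨y, hy, ?_⟩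
    ⟨l, centralizer_le_CC hp hl, e.symm⟩ ⟨l', centralizer_le_CC hp hl', e'.symm⟩ ?_
    (v := p) (h.s1.mem p hp hp1) ?_)
  · intro n hn
    rcases hx1 n hn with e1 | e1
    · left
      exact mul_inv_eq_one.1 e1
    · right
      have e2 : x * n * x⁻¹ = q * n := by rw [← e1]; group
      rw [e2]
      exact EA.comm_of hg.sq hg.mem hn
  · intro e1
    rw [e1, mul_inv_cancel] at hxy
    exact hq1 hxy.symm
  · rw [← mem_centralizer_iff.1 hxV q' hq']
    group
  · intro c hc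
    rw [← mem_CC.1 hc]
    group

end Cfsg.Agent.Omega.IId.ThmJ
end
end
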